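import Mathlib
import Cfsg.Prelude.Def_LocalEven
import Cfsg.Prelude.Def_FusionSystem
import Cfsg.Agent.Lib.Helper8.PCore
import Cfsg.Agent.Lib.Helper8.Sat
import Cfsg.Agent.Lib.Helper8.SatB
import Cfsg.Agent.Lib.Helper8.Syl

set_option autoImplicit false

namespace Cfsg.Agent.Lib.Helper8

open Cfsg Cfsg.FusionSystem
open scoped commutatorElement

variable {Ω : Type*} [Group Ω]

/-- `g` lies in a subgroup of `N(Q)`, normal in `N(Q)`, that is a `p`-group modulo `C(Q)`. -/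
def PStabPred (p : ℕ) (Q : Subgroup Ω) (g : Ω) : Prop :=
  ∃ L : Subgroup Ω, g ∈ L ∧ L ≤ Subgroup.normalizer (Q : Set Ω) ∧
    (∀ n ∈ Subgroup.normalizer (Q : Set Ω), ∀ l ∈ L, n * l * n⁻¹ ∈ L) ∧
    ∀ l ∈ L, ∃ k : ℕ, l ^ p ^ k ∈ Subgroup.centralizer (Q : Set Ω)

theorem pstab_quot_iff (p : ℕ) (Q : Subgroup Ω) (g : Ω)
    (hg : g ∈ Subgroup.normalizer (Q : Set Ω)) :
    (QuotientGroup.mk (s := (Subgroup.centralizer (Q : Set Ω)).subgroupOf
        (Subgroup.normalizer (Q : Set Ω))) (⟨g, hg⟩ : ↥(Subgroup.normalizer (Q : Set Ω)))) ∈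
      pCore p (↥(Subgroup.normalizer (Q : Set Ω)) ⧸
        (Subgroup.centralizer (Q : Set Ω)).subgroupOf (Subgroup.normalizer (Q : Set Ω))) ↔
    PStabPred p Q g := by
  obtain ⟨N, hNdef⟩ : ∃ N, N = Subgroup.normalizer (Q : Set Ω) := ⟨_, rfl⟩
  subst hNdef
  obtain ⟨π, hπdef⟩ : ∃ π, π = QuotientGroup.mk' ((Subgroup.centralizer (Q : Set Ω)).subgroupOf
        (Subgroup.normalizer (Q : Set Ω))) := ⟨_, rfl⟩
  have hπker : ∀ l : ↥(Subgroup.normalizer (Q : Set Ω)), π l = 1 ↔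
      (l : Ω) ∈ Subgroup.centralizer (Q : Set Ω) := by
    intro l
    rw [hπdef, QuotientGroup.mk'_apply, QuotientGroup.eq_one_iff, Subgroup.mem_subgroupOf]
  have hπsurj : Function.Surjective π := by
    rw [hπdef]; exact QuotientGroup.mk'_surjective _
  have hmk : (QuotientGroup.mk (s := (Subgroup.centralizer (Q : Set Ω)).subgroupOf
        (Subgroup.normalizer (Q : Set Ω))) (⟨g, hg⟩ : ↥(Subgroup.normalizer (Q : Set Ω)))) =
      π ⟨g, hg⟩ := by
    rw [hπdef]; rfl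
  rw [hmk]
  constructor
  · intro h
    haveI := pCore_normal p (↥(Subgroup.normalizer (Q : Set Ω)) ⧸
        (Subgroup.centralizer (Q : Set Ω)).subgroupOf (Subgroup.normalizer (Q : Set Ω)))
    refine ⟨((pCore p _).comap π).map (Subgroup.normalizer (Q : Set Ω)).subtype,
      ⟨⟨g, hg⟩, h, rfl⟩, ?_, ?_, ?_⟩
    · rintro _ ⟨l, -, rfl⟩
      exact l.2
    · rintro n hn _ ⟨l, hl, rfl⟩
      refine ⟨⟨n, hn⟩ * l * ⟨n, hn⟩⁻¹, ?_, rfl⟩
      rw [SetLike.mem_coe, Subgroup.mem_comap] at hl ⊢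
      rw [map_mul, map_mul, map_inv]
      exact ‹(pCore p _).Normal›.conj_mem _ hl _
    · rintro _ ⟨l, hl, rfl⟩
      rw [SetLike.mem_coe, Subgroup.mem_comap] at hl
      obtain ⟨k, hk⟩ := (pCore_isPGroup p _) ⟨π l, hl⟩
      refine ⟨k, ?_⟩
      have h1 : (π l) ^ p ^ k = 1 := congrArg Subtype.val hk
      rw [← map_pow, hπker] at h1
      exact h1
  · rintro ⟨L, hgL, hLN, hnorm, hpow⟩
    obtain ⟨M, hMdef⟩ : ∃ M, M = (L.subgroupOf (Subgroup.normalizer (Q : Set Ω))).map π :=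
      ⟨_, rfl⟩
    have hLn : (L.subgroupOf (Subgroup.normalizer (Q : Set Ω))).Normal := by
      refine ⟨fun l hl n => ?_⟩
      rw [Subgroup.mem_subgroupOf] at hl ⊢
      exact hnorm n.1 n.2 l.1 hl
    have hMn : M.Normal := by
      rw [hMdef]
      exact hLn.map π hπsurj
    have hMp : IsPGroup p M := by
      rintro ⟨m, hm⟩
      rw [hMdef] at hm
      obtain ⟨l, hl, rfl⟩ := hm
      rw [SetLike.mem_coe, Subgroup.mem_subgroupOf] at hl
      obtain ⟨k, hk⟩ := hpow l.1 hl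
      refine ⟨k, Subtype.ext ?_⟩
      show (π l) ^ p ^ k = 1
      rw [← map_pow, hπker]
      exact hk
    apply le_pCore hMn hMp
    rw [hMdef]
    exact ⟨⟨g, hg⟩, Subgroup.mem_subgroupOf.mpr hgL, rfl⟩

theorem pstab_aut_iff (p : ℕ) (Q : Subgroup Ω) (g : Ω)
    (hg : g ∈ Subgroup.normalizer (Q : Set Ω)) :
    Q.normalizerMonoidHom ⟨g, hg⟩ ∈
      (pCore p ↥(Q.normalizerMonoidHom.range)).map (Q.normalizerMonoidHom.range).subtype ↔
    PStabPred p Q g := by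
  obtain ⟨ν, hνdef⟩ : ∃ ν, ν = Q.normalizerMonoidHom := ⟨_, rfl⟩
  rw [← hνdef]
  have hνker : ∀ l : ↥(Subgroup.normalizer (Q : Set Ω)), ν l = 1 ↔
      (l : Ω) ∈ Subgroup.centralizer (Q : Set Ω) := by
    intro l
    rw [← MonoidHom.mem_ker, hνdef, Subgroup.normalizerMonoidHom_ker, Subgroup.mem_subgroupOf]
  constructor
  · intro h
    haveI := pCore_normal p ↥(ν.range)
    refine ⟨(((pCore p ↥(ν.range)).map (ν.range).subtype).comap ν).map
      (Subgroup.normalizer (Q : Set Ω)).subtype, ⟨⟨g, hg⟩, h, rfl⟩, ?_, ?_, ?_⟩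
    · rintro _ ⟨l, -, rfl⟩
      exact l.2
    · rintro n hn _ ⟨l, hl, rfl⟩
      refine ⟨⟨n, hn⟩ * l * ⟨n, hn⟩⁻¹, ?_, rfl⟩
      rw [SetLike.mem_coe, Subgroup.mem_comap] at hl ⊢
      obtain ⟨r, hr, hrl⟩ := hl
      refine ⟨⟨ν ⟨n, hn⟩, ⟨_, rfl⟩⟩ * r * ⟨ν ⟨n, hn⟩, ⟨_, rfl⟩⟩⁻¹,
        ‹(pCore p ↥(ν.range)).Normal›.conj_mem _ hr _, ?_⟩
      rw [map_mul ν, map_mul ν, map_inv ν, ← hrl]
      rfl
    · rintro _ ⟨l, hl, rfl⟩
      rw [SetLike.mem_coe, Subgroup.mem_comap] at hl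
      obtain ⟨r, hr, hrl⟩ := hl
      obtain ⟨k, hk⟩ := (pCore_isPGroup p _) ⟨r, hr⟩
      refine ⟨k, ?_⟩
      have h1 : r ^ p ^ k = 1 := congrArg Subtype.val hk
      have h2 : (ν l) ^ p ^ k = 1 := by
        rw [← hrl, ← map_pow, h1, map_one]
      rw [← map_pow, hνker] at h2
      exact h2
  · rintro ⟨L, hgL, hLN, hnorm, hpow⟩
    obtain ⟨M, hMdef⟩ : ∃ M, M = ((L.subgroupOf (Subgroup.normalizer (Q : Set Ω))).map
        ν).subgroupOf ν.range := ⟨_, rfl⟩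
    have hMn : M.Normal := by
      refine ⟨fun m hm r => ?_⟩
      rw [hMdef, Subgroup.mem_subgroupOf] at hm ⊢
      obtain ⟨l, hl, hlm⟩ := hm
      obtain ⟨r, n, hnr⟩ := r
      rw [SetLike.mem_coe, Subgroup.mem_subgroupOf] at hl
      refine ⟨n * l * n⁻¹, ?_, ?_⟩
      · rw [SetLike.mem_coe, Subgroup.mem_subgroupOf]
        exact hnorm n.1 n.2 l.1 hl
      · rw [map_mul, map_mul, map_inv, hlm, hnr]
        rfl
    have hMp : IsPGroup p M := by
      rintro ⟨m, hm⟩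
      rw [hMdef, Subgroup.mem_subgroupOf] at hm
      obtain ⟨l, hl, hlm⟩ := hm
      rw [SetLike.mem_coe, Subgroup.mem_subgroupOf] at hl
      obtain ⟨k, hk⟩ := hpow l.1 hl
      refine ⟨k, Subtype.ext (Subtype.ext ?_)⟩
      show ((m : MulAut Q)) ^ p ^ k = 1
      rw [← hlm, ← map_pow]
      exact (hνker _).mpr hk
    have h1 := le_pCore hMn hMp
    refine ⟨⟨ν ⟨g, hg⟩, ⟨_, rfl⟩⟩, h1 ?_, rfl⟩
    rw [hMdef, Subgroup.mem_subgroupOf]
    exact ⟨⟨g, hg⟩, Subgroup.mem_subgroupOf.mpr hgL, rfl⟩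

theorem pstab_conj (p : ℕ) (Q : Subgroup Ω) (g x : Ω) (h : PStabPred p Q g) :
    PStabPred p (cj x Q) (x * g * x⁻¹) := by
  obtain ⟨L, hgL, hLN, hnorm, hpow⟩ := h
  refine ⟨cj x L, cj_mem hgL, ?_, ?_, ?_⟩
  · rw [← cj_normalizer]
    exact cj_mono hLN
  · intro n hn l hl
    rw [← cj_normalizer, mem_cj] at hn
    rw [mem_cj] at hl ⊢
    have := hnorm _ hn _ hl
    have e : x⁻¹ * (n * l * n⁻¹) * x = x⁻¹ * n * x * (x⁻¹ * l * x) * (x⁻¹ * n * x)⁻¹ := by group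
    rw [e]
    exact this
  · intro l hl
    rw [mem_cj] at hl
    obtain ⟨k, hk⟩ := hpow _ hl
    refine ⟨k, ?_⟩
    rw [← cj_centralizer, mem_cj]
    have e : x⁻¹ * l ^ p ^ k * x = (x⁻¹ * l * x) ^ p ^ k := by
      have := map_pow (MulAut.conj x⁻¹).toMonoidHom l (p ^ k)
      simp only [MulEquiv.coe_toMonoidHom, MulAut.conj_apply, inv_inv] at this
      exact this
    rw [e]
    exact hk

theorem mem_centralizer_zpowers_of_comm {g y : Ω} (h : g * y = y * g) :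
    y ∈ Subgroup.centralizer (Subgroup.zpowers g : Set Ω) := by
  rw [Subgroup.mem_centralizer_iff]
  intro h' hh'
  obtain ⟨k, rfl⟩ := Subgroup.mem_zpowers_iff.mp hh'
  have : Commute g y := h
  exact (this.zpow_left k).eq

/-- The quadratic-action condition in elementwise form. -/
theorem quad_iff (Q : Subgroup Ω) (g : Ω) (hg : g ∈ Subgroup.normalizer (Q : Set Ω)) :
    (∀ a : Q, (Q.normalizerMonoidHom ⟨g, hg⟩ a⁻¹) * a * (Q.normalizerMonoidHom ⟨g, hg⟩ a⁻¹) *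
        (Q.normalizerMonoidHom ⟨g, hg⟩ (Q.normalizerMonoidHom ⟨g, hg⟩ a)) = 1) ↔
      ⁅⁅Q, Subgroup.zpowers g⁆, Subgroup.zpowers g⁆ = ⊥ := by
  have key : ∀ a : Ω, (g * a⁻¹ * g⁻¹) * a * (g * a⁻¹ * g⁻¹) * (g * (g * a * g⁻¹) * g⁻¹) =
      ⁅a⁻¹, g⁆⁻¹ * (g * ⁅a⁻¹, g⁆ * g⁻¹) := by
    intro a
    rw [commutatorElement_def]; group
  have hE : ∀ a : Q, ((Q.normalizerMonoidHom ⟨g, hg⟩ a⁻¹) * a *
        (Q.normalizerMonoidHom ⟨g, hg⟩ a⁻¹) *
        (Q.normalizerMonoidHom ⟨g, hg⟩ (Q.normalizerMonoidHom ⟨g, hg⟩ a)) = 1) ↔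
      g * ⁅(a : Ω)⁻¹, g⁆ = ⁅(a : Ω)⁻¹, g⁆ * g := by
    intro a
    rw [← Subtype.coe_inj]
    have e : ((((Q.normalizerMonoidHom ⟨g, hg⟩ a⁻¹) * a *
        (Q.normalizerMonoidHom ⟨g, hg⟩ a⁻¹) *
        (Q.normalizerMonoidHom ⟨g, hg⟩ (Q.normalizerMonoidHom ⟨g, hg⟩ a)) : Q)) : Ω) =
        (g * (a : Ω)⁻¹ * g⁻¹) * a * (g * (a : Ω)⁻¹ * g⁻¹) * (g * (g * a * g⁻¹) * g⁻¹) := rfl
    rw [e, key, Subgroup.coe_one]
    constructor
    · intro h
      have h2 : g * ⁅(a : Ω)⁻¹, g⁆ * g⁻¹ = ⁅(a : Ω)⁻¹, g⁆ := by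
        have := congrArg (fun t => ⁅(a : Ω)⁻¹, g⁆ * t) h
        simp only [mul_one, mul_inv_cancel_left] at this
        exact this
      calc g * ⁅(a : Ω)⁻¹, g⁆ = (g * ⁅(a : Ω)⁻¹, g⁆ * g⁻¹) * g := by group
        _ = ⁅(a : Ω)⁻¹, g⁆ * g := by rw [h2]
    · intro h
      rw [h]; group
  constructor
  · intro h
    have h1 : ∀ a ∈ Q, g * ⁅a, g⁆ = ⁅a, g⁆ * g := by
      intro a ha
      have := (hE ⟨a⁻¹, Q.inv_mem ha⟩).mp (h _)
      simpa using this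
    rw [Subgroup.commutator_eq_bot_iff_le_centralizer, Subgroup.commutator_le]
    intro a ha h' hh'
    revert a
    have hcl : h' ∈ Subgroup.closure ({g} : Set Ω) := by
      rw [← Subgroup.zpowers_eq_closure]; exact hh'
    induction hcl using Subgroup.closure_induction with
    | mem y hy =>
      intro a ha
      rw [Set.mem_singleton_iff] at hy
      subst hy
      exact mem_centralizer_zpowers_of_comm (h1 a ha)
    | one =>
      intro a ha
      rw [commutatorElement_one_right]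
      exact Subgroup.one_mem _
    | mul y z hy hz ihy ihz =>
      intro a ha
      have hy' : y ∈ Subgroup.zpowers g := by rw [Subgroup.zpowers_eq_closure]; exact hy
      have hz' : z ∈ Subgroup.zpowers g := by rw [Subgroup.zpowers_eq_closure]; exact hz
      have e : ⁅a, y * z⁆ = ⁅a, y⁆ * (y * ⁅a, z⁆ * y⁻¹) := by
        rw [commutatorElement_def, commutatorElement_def, commutatorElement_def]; group
      have h2 := ihz hz' a ha
      have h3 : y * ⁅a, z⁆ * y⁻¹ = ⁅a, z⁆ := by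
        rw [Subgroup.mem_centralizer_iff] at h2
        rw [h2 y hy']; group
      rw [e, h3]
      exact Subgroup.mul_mem _ (ihy hy' a ha) h2
    | inv y hy ihy =>
      intro a ha
      have hy' : y ∈ Subgroup.zpowers g := by rw [Subgroup.zpowers_eq_closure]; exact hy
      have e : ⁅a, y⁻¹⁆ = y⁻¹ * ⁅a, y⁆⁻¹ * y := by
        rw [commutatorElement_def, commutatorElement_def]; group
      have h2 := ihy hy' a ha
      have h3 : y⁻¹ * ⁅a, y⁆⁻¹ * y = ⁅a, y⁆⁻¹ := by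
        have h4 := Subgroup.inv_mem _ h2
        rw [Subgroup.mem_centralizer_iff] at h4
        rw [mul_assoc, ← h4 y hy', inv_mul_cancel_left]
      rw [e, h3]
      exact Subgroup.inv_mem _ h2
  · intro h a
    rw [hE]
    have h1 : ⁅(a : Ω)⁻¹, g⁆ ∈ ⁅Q, Subgroup.zpowers g⁆ :=
      Subgroup.commutator_mem_commutator (Q.inv_mem a.2) (Subgroup.mem_zpowers g)
    have h2 : ⁅⁅(a : Ω)⁻¹, g⁆, g⁆ ∈ ⁅⁅Q, Subgroup.zpowers g⁆, Subgroup.zpowers g⁆ :=
      Subgroup.commutator_mem_commutator h1 (Subgroup.mem_zpowers g)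
    rw [h, Subgroup.mem_bot, commutatorElement_eq_one_iff_mul_comm] at h2
    exact h2.symm

theorem groupFS_autGroup_eq {P Q : Subgroup Ω} (hQ : Q ≤ P) :
    (groupFusionSystem P).autGroup Q = Q.normalizerMonoidHom.range := by
  ext α
  rw [mem_autGroup_iff _ hQ]
  constructor
  · rintro ⟨-, -, g, hg⟩
    have hgN : g ∈ Subgroup.normalizer (Q : Set Ω) := by
      rw [Subgroup.mem_normalizer_iff]
      intro h
      constructor
      · intro hh
        have := hg ⟨h, hh⟩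
        rw [← this]
        exact (α ⟨h, hh⟩).2
      · intro hh
        have h1 := hg (α.symm ⟨g * h * g⁻¹, hh⟩)
        have h2 : (Q.subtype.comp α.toMonoidHom) (α.symm ⟨g * h * g⁻¹, hh⟩) = g * h * g⁻¹ := by
          show ((α (α.symm ⟨g * h * g⁻¹, hh⟩) : Q) : Ω) = g * h * g⁻¹
          rw [MulEquiv.apply_symm_apply]
        rw [h2] at h1
        have h3 : h = ((α.symm ⟨g * h * g⁻¹, hh⟩ : Q) : Ω) :=
          mul_left_cancel (mul_right_cancel h1)
        rw [h3]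
        exact (α.symm ⟨g * h * g⁻¹, hh⟩).2
    refine ⟨⟨g, hgN⟩, ?_⟩
    ext x
    exact (hg x).symm
  · rintro ⟨n, rfl⟩
    exact ⟨hQ, fun x => hQ (Q.normalizerMonoidHom n x).2, n, fun x => rfl⟩

/-- S5246. -/
theorem group_pstable_iff [Finite Ω] {p : ℕ} [Fact p.Prime] (P : Sylow p Ω) :
    Cfsg.IsNormalizerPStable p Ω ↔
    (∀ Q : Subgroup Ω, (Cfsg.groupFusionSystem (P : Subgroup Ω)).IsFullyNormalized Q →
      ∀ χ : MulAut ↥Q, χ ∈ (Cfsg.groupFusionSystem (P : Subgroup Ω)).autGroup Q →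
      (∀ a : ↥Q, (χ a⁻¹) * a * (χ a⁻¹) * (χ (χ a)) = 1) →
      χ ∈ ((Cfsg.pCore p ↥((Cfsg.groupFusionSystem (P : Subgroup Ω)).autGroup Q)).map
        ((Cfsg.groupFusionSystem (P : Subgroup Ω)).autGroup Q).subtype :
          Subgroup (MulAut ↥Q))) := by
  constructor
  · intro h Q hQfn χ hχ hquad
    have hQP : Q ≤ (P : Subgroup Ω) := hQfn.1
    have haut := groupFS_autGroup_eq hQP
    rw [haut] at hχ ⊢
    obtain ⟨⟨g, hg⟩, rfl⟩ := hχ
    rw [pstab_aut_iff, ← pstab_quot_iff p Q g hg]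
    exact h Q (P.isPGroup'.to_le hQP) g hg ((quad_iff Q g hg).mp hquad)
  · intro h Q hQ g hg hcomm
    rw [pstab_quot_iff]
    obtain ⟨y, -, hy⟩ := (sylIn_top P).exists_conj_le hQ le_top
    obtain ⟨R, hconj, hRfn⟩ := exists_fullyNormalized_conj
      (groupFusionSystem (P : Subgroup Ω)) hy
    obtain ⟨φ, ⟨-, -, z, hz⟩, hφR⟩ := hconj
    have hR : R = cj (z * y) Q := by
      rw [← cj_cj, ← hφR]
      ext w
      rw [mem_cj]
      constructor
      · rintro ⟨q, rfl⟩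
        rw [hz]
        have e : z⁻¹ * (z * (q : Ω) * z⁻¹) * z = q := by group
        rw [e]
        exact q.2
      · intro hw
        refine ⟨⟨_, hw⟩, ?_⟩
        rw [hz]
        group
    subst hR
    obtain ⟨x, hxdef⟩ : ∃ x, x = z * y := ⟨_, rfl⟩
    rw [← hxdef] at hRfn
    have hg' : x * g * x⁻¹ ∈ Subgroup.normalizer ((cj x Q : Subgroup Ω) : Set Ω) := by
      rw [← cj_normalizer]
      exact cj_mem hg
    have hcomm' : ⁅⁅cj x Q, Subgroup.zpowers (x * g * x⁻¹)⁆, Subgroup.zpowers (x * g * x⁻¹)⁆ =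
        ⊥ := by
      have e : Subgroup.zpowers (x * g * x⁻¹) = cj x (Subgroup.zpowers g) := by
        show _ = (Subgroup.zpowers g).map (MulAut.conj x).toMonoidHom
        rw [MonoidHom.map_zpowers]
        rfl
      rw [e]
      show ⁅⁅Q.map (MulAut.conj x).toMonoidHom, (Subgroup.zpowers g).map
        (MulAut.conj x).toMonoidHom⁆, (Subgroup.zpowers g).map (MulAut.conj x).toMonoidHom⁆ = ⊥
      rw [← Subgroup.map_commutator, ← Subgroup.map_commutator, hcomm, Subgroup.map_bot]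
    have hquad := (quad_iff (cj x Q) (x * g * x⁻¹) hg').mpr hcomm'
    have haut := groupFS_autGroup_eq hRfn.1
    have h1 := h (cj x Q) hRfn ((cj x Q).normalizerMonoidHom ⟨x * g * x⁻¹, hg'⟩)
      (by rw [haut]; exact ⟨_, rfl⟩) hquad
    rw [haut, pstab_aut_iff] at h1
    have h2 := pstab_conj p (cj x Q) (x * g * x⁻¹) x⁻¹ h1
    rw [cj_inv_cj] at h2
    have e : x⁻¹ * (x * g * x⁻¹) * x⁻¹⁻¹ = g := by group
    rw [e] at h2
    exact h2

end Cfsg.Agent.Lib.Helper8
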