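import Mathlib

set_option autoImplicit false

namespace Cfsg.Agent.Lib.Helper8

section
variable {G : Type*} [CommGroup G]

/-- the subgroup of `n`-th powers of a commutative group -/
def pw8 (G : Type*) [CommGroup G] (n : ℕ) : Subgroup G := (powMonoidHom n : G →* G).range

theorem mem_pw8 {n : ℕ} {x : G} : x ∈ pw8 G n ↔ ∃ y : G, y ^ n = x := by
  unfold pw8
  rw [MonoidHom.mem_range]
  rfl

theorem pw8_le {m n : ℕ} (h : m ∣ n) : pw8 G n ≤ pw8 G m := by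
  intro x hx
  obtain ⟨y, rfl⟩ := mem_pw8.mp hx
  obtain ⟨c, rfl⟩ := h
  exact mem_pw8.mpr ⟨y ^ c, by rw [← pow_mul, mul_comm]⟩

/-- automorphisms acting trivially on the section `U / V` -/
def stabSub8 (U V : Subgroup G) (h : V ≤ U) : Subgroup (MulAut G) where
  carrier := {β | ∀ u ∈ U, β u / u ∈ V ∧ β⁻¹ u / u ∈ V}
  one_mem' := by
    intro u hu
    simp
  mul_mem' := by
    intro a b ha hb u hu
    have hbu : b u ∈ U := by
      have := (hb u hu).1
      have h2 : b u = (b u / u) * u := by simp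
      rw [h2]; exact U.mul_mem (h this) hu
    have hau : a⁻¹ u ∈ U := by
      have := (ha u hu).2
      have h2 : a⁻¹ u = (a⁻¹ u / u) * u := by simp
      rw [h2]; exact U.mul_mem (h this) hu
    constructor
    · have h1 : (a * b) u / u = (a (b u) / b u) * (b u / u) := by
        simp [MulAut.mul_apply]
      rw [h1]; exact V.mul_mem (ha _ hbu).1 (hb u hu).1
    · have h1 : (a * b)⁻¹ u / u = (b⁻¹ (a⁻¹ u) / a⁻¹ u) * (a⁻¹ u / u) := by
        rw [mul_inv_rev]; simp [MulAut.mul_apply]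
      rw [h1]; exact V.mul_mem (hb _ hau).2 (ha u hu).2
  inv_mem' := by
    intro a ha u hu
    exact ⟨(ha u hu).2, by rw [inv_inv]; exact (ha u hu).1⟩

theorem mem_stabSub8 {U V : Subgroup G} {h : V ≤ U} {β : MulAut G} :
    β ∈ stabSub8 U V h ↔ ∀ u ∈ U, β u / u ∈ V ∧ β⁻¹ u / u ∈ V := Iff.rfl

theorem mem_stabSub8_of_fwd {U V : Subgroup G} (h : V ≤ U) {β : MulAut G}
    (h1 : ∀ u ∈ U, β u / u ∈ V) (h2 : ∀ u ∈ U, β⁻¹ u ∈ U) : β ∈ stabSub8 U V h := by
  intro u hu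
  refine ⟨h1 u hu, ?_⟩
  have h3 := h1 _ (h2 u hu)
  have h4 : β⁻¹ u / u = (β (β⁻¹ u) / β⁻¹ u)⁻¹ := by simp
  rw [h4]; exact V.inv_mem h3

theorem stab_conj8 {U V : Subgroup G} (h : V ≤ U) (a β : MulAut G) (hU : ∀ u ∈ U, a⁻¹ u ∈ U)
    (hV : ∀ v ∈ V, a v ∈ V) (hβ : β ∈ stabSub8 U V h) : a * β * a⁻¹ ∈ stabSub8 U V h := by
  have key : ∀ γ ∈ stabSub8 U V h, ∀ u ∈ U, (a * γ * a⁻¹) u / u ∈ V := by
    intro γ hγ u hu
    have h1 : (a * γ * a⁻¹) u / u = a (γ (a⁻¹ u) / a⁻¹ u) := by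
      simp [MulAut.mul_apply]
    rw [h1]; exact hV _ (hγ _ (hU u hu)).1
  intro u hu
  refine ⟨key β hβ u hu, ?_⟩
  have : (a * β * a⁻¹)⁻¹ = a * β⁻¹ * a⁻¹ := by group
  rw [this]; exact key β⁻¹ (Subgroup.inv_mem _ hβ) u hu

/-- telescoping: an automorphism stabilizing the chain `W ⊇ U ⊇ V` with `U^p ≤ V`
has `p`-th power acting trivially from `W` to `V` -/
theorem tele8 {p : ℕ} (β : MulAut G) (W : Set G) (U V : Subgroup G) (hVU : V ≤ U)
    (h1 : ∀ w ∈ W, β w / w ∈ U) (h2 : ∀ u ∈ U, β u / u ∈ V) (h3 : ∀ u ∈ U, u ^ p ∈ V) :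
    ∀ w ∈ W, (β ^ p) w / w ∈ V := by
  intro w hw
  obtain ⟨l, hldef⟩ : ∃ l : G, l = β w / w := ⟨_, rfl⟩
  have hl : l ∈ U := hldef ▸ h1 w hw
  have hw2 : β w = w * l := by rw [hldef]; simp
  have key : ∀ n : ℕ, ∃ v ∈ V, (β ^ n) w = w * l ^ n * v := by
    intro n
    induction n with
    | zero => exact ⟨1, V.one_mem, by simp⟩
    | succ n ih =>
      obtain ⟨v, hv, hveq⟩ := ih
      have hc : l ^ n * v ∈ U := U.mul_mem (U.pow_mem hl n) (hVU hv)
      obtain ⟨v', hv', hv'eq⟩ : ∃ v' ∈ V, β (l ^ n * v) = l ^ n * v * v' :=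
        ⟨β (l ^ n * v) / (l ^ n * v), h2 _ hc, by simp⟩
      refine ⟨v * v', V.mul_mem hv hv', ?_⟩
      rw [pow_succ', MulAut.mul_apply, hveq, mul_assoc, map_mul, hv'eq, pow_succ, hw2]
      simp only [mul_assoc, mul_comm, mul_left_comm]
  obtain ⟨v, hv, hveq⟩ := key p
  have h5 : (β ^ p) w / w = l ^ p * v := by
    rw [hveq, mul_assoc]; simp
  rw [h5]; exact V.mul_mem (h3 _ hl) hv

theorem K_pow8 {p : ℕ} {β : MulAut G}
    (hβ : β ∈ stabSub8 (⊤ : Subgroup G) (pw8 G p) le_top) :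
    ∀ j : ℕ, ∀ x : G, (β ^ (p ^ j)) x / x ∈ pw8 G (p ^ (j + 1)) := by
  intro j
  induction j with
  | zero =>
    intro x
    simpa using (hβ x (Subgroup.mem_top x)).1
  | succ j ih =>
    intro x
    have hγ : β ^ (p ^ j) ∈ stabSub8 (⊤ : Subgroup G) (pw8 G p) le_top :=
      Subgroup.pow_mem _ hβ _
    have := tele8 (p := p) (β ^ (p ^ j)) Set.univ (pw8 G (p ^ (j + 1))) (pw8 G (p ^ (j + 2)))
      (pw8_le (pow_dvd_pow p (by omega))) (fun w _ => ih w) ?_ ?_ x (Set.mem_univ x)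
    · rw [← pow_mul, ← pow_succ] at this; exact this
    · intro u hu
      obtain ⟨y, rfl⟩ := mem_pw8.mp hu
      obtain ⟨z, hz⟩ := mem_pw8.mp (hγ y (Subgroup.mem_top y)).1
      refine mem_pw8.mpr ⟨z, ?_⟩
      rw [map_pow, ← div_pow, ← hz, ← pow_mul, pow_succ' p (j + 1)]
    · intro u hu
      obtain ⟨y, rfl⟩ := mem_pw8.mp hu
      exact mem_pw8.mpr ⟨y, by rw [← pow_mul, ← pow_succ]⟩

theorem pw8_eq_bot {p e : ℕ} [Finite G] (he : Nat.card G = p ^ e) (n : ℕ) (hn : e ≤ n) :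
    pw8 G (p ^ n) = ⊥ := by
  rw [eq_bot_iff]
  intro x hx
  obtain ⟨y, rfl⟩ := mem_pw8.mp hx
  obtain ⟨c, rfl⟩ := Nat.exists_eq_add_of_le hn
  rw [Subgroup.mem_bot, pow_add, pow_mul, ← he, pow_card_eq_one', one_pow]

/-- the stabilizer of a chain `G ≥ L ≥ G^p` inside a group of automorphisms without nontrivial
normal `p`-subgroups is trivial -/
theorem chain_stab_bot8 {p : ℕ} [Finite G] (hG : IsPGroup p G) [Fact p.Prime]
    (A : Subgroup (MulAut G))
    (hO : ∀ N : Subgroup (MulAut G), N ≤ A → (∀ a ∈ A, ∀ n ∈ N, a * n * a⁻¹ ∈ N) →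
      IsPGroup p N → N = ⊥)
    (L : Subgroup G) (hL : pw8 G p ≤ L) (hinv : ∀ a ∈ A, ∀ u ∈ L, a u ∈ L) :
    A ⊓ stabSub8 ⊤ L le_top ⊓ stabSub8 L (pw8 G p) hL = ⊥ := by
  have hpw : ∀ (a : MulAut G), ∀ v ∈ pw8 G p, a v ∈ pw8 G p := by
    intro a v hv
    obtain ⟨y, rfl⟩ := mem_pw8.mp hv
    exact mem_pw8.mpr ⟨a y, by rw [map_pow]⟩
  apply hO
  · exact inf_le_left.trans inf_le_left
  · intro a ha n hn
    obtain ⟨⟨hnA, hn1⟩, hn2⟩ := hn
    refine ⟨⟨A.mul_mem (A.mul_mem ha hnA) (A.inv_mem ha), ?_⟩, ?_⟩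
    · exact stab_conj8 le_top a n (fun u _ => Subgroup.mem_top _) (fun v hv => hinv a ha v hv) hn1
    · exact stab_conj8 hL a n (fun u hu => hinv a⁻¹ (A.inv_mem ha) u hu) (hpw a) hn2
  · obtain ⟨e, he⟩ := IsPGroup.iff_card.mp hG
    rintro ⟨β, ⟨hβA, hβ1⟩, hβ2⟩
    refine ⟨e + 1, ?_⟩
    have hfw : ∀ γ : MulAut G, γ ∈ stabSub8 ⊤ L le_top → γ ∈ stabSub8 L (pw8 G p) hL →
        ∀ x : G, (γ ^ p) x / x ∈ pw8 G p := by
      intro γ h1 h2 x
      exact tele8 (p := p) γ Set.univ L (pw8 G p) hL (fun w _ => (h1 w (Subgroup.mem_top w)).1)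
        (fun u hu => (h2 u hu).1) (fun u _ => mem_pw8.mpr ⟨u, rfl⟩) x (Set.mem_univ x)
    have hK : β ^ p ∈ stabSub8 (⊤ : Subgroup G) (pw8 G p) le_top := by
      intro u _
      refine ⟨hfw β hβ1 hβ2 u, ?_⟩
      rw [← inv_pow]
      exact hfw β⁻¹ (Subgroup.inv_mem _ hβ1) (Subgroup.inv_mem _ hβ2) u
    have h6 := K_pow8 hK e
    rw [pw8_eq_bot he (e + 1) (by omega)] at h6
    apply Subtype.ext
    rw [Subgroup.coe_pow, Subgroup.coe_one]
    show β ^ p ^ (e + 1) = 1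
    ext x
    have h7 := h6 x
    rw [Subgroup.mem_bot, div_eq_one, ← pow_mul, ← pow_succ'] at h7
    simpa using h7

/-- powers of an endomorphism -/
def npow8 (N : G →* G) : ℕ → (G →* G)
  | 0 => MonoidHom.id G
  | (n + 1) => N.comp (npow8 N n)

theorem npow8_zero (N : G →* G) : npow8 N 0 = MonoidHom.id G := rfl

theorem npow8_succ (N : G →* G) (n : ℕ) : npow8 N (n + 1) = N.comp (npow8 N n) := rfl

theorem npow8_add (N : G →* G) (m n : ℕ) (x : G) :
    npow8 N (m + n) x = npow8 N m (npow8 N n x) := by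
  induction m with
  | zero => rw [Nat.zero_add]; rfl
  | succ m ih =>
    rw [Nat.succ_add, npow8_succ, npow8_succ, MonoidHom.comp_apply, MonoidHom.comp_apply, ih]

/-- iterating `U = N(U) V` -/
theorem iter_sup8 (N : G →* G) (U V : Subgroup G) (hV : V.map N ≤ V) (hUV : V ≤ U)
    (h : U.map N ⊔ V = U) : ∀ j : ℕ, U.map (npow8 N j) ⊔ V = U := by
  intro j
  induction j with
  | zero =>
    have : U.map (npow8 N 0) = U := by rw [npow8_zero]; exact Subgroup.map_id U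
    rw [this]; exact sup_eq_left.mpr hUV
  | succ j ih =>
    have h1 : U.map (npow8 N (j + 1)) = (U.map (npow8 N j)).map N := by
      rw [Subgroup.map_map, npow8_succ]
    have h2 : U.map (npow8 N j) ≤ U := le_sup_left.trans ih.le
    have h3 : U.map N ≤ U := le_sup_left.trans h.le
    apply le_antisymm
    · rw [h1]
      exact sup_le ((Subgroup.map_mono h2).trans h3) hUV
    · have h4 : U.map N = (U.map (npow8 N j)).map N ⊔ V.map N := by
        rw [← Subgroup.map_sup, ih]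
      calc U = U.map N ⊔ V := h.symm
        _ = ((U.map (npow8 N j)).map N ⊔ V.map N) ⊔ V := by rw [← h4]
        _ ≤ U.map (npow8 N (j + 1)) ⊔ V := by
            rw [h1]
            exact sup_le (sup_le le_sup_left (hV.trans le_sup_right)) le_sup_right

theorem map_le_of_max8 (N : G →* G) (U V : Subgroup G) (hV : V.map N ≤ V) (hUV : V ≤ U)
    (hU : U.map N ≤ U) (n : ℕ) (hn : U.map (npow8 N n) ≤ V)
    (hmax : ∀ X : Subgroup G, V ≤ X → X ≤ U → X = V ∨ X = U) : U.map N ≤ V := by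
  rcases hmax (U.map N ⊔ V) le_sup_right (sup_le hU hUV) with h | h
  · exact le_sup_left.trans h.le
  · have := iter_sup8 N U V hV hUV h n
    have hUle : U ≤ V := by
      calc U = U.map (npow8 N n) ⊔ V := this.symm
        _ ≤ V := sup_le hn le_rfl
    exact hU.trans hUle

end

end Cfsg.Agent.Lib.Helper8
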