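import Cfsg.Agent.Lib.Helper8.AbEss1

set_option autoImplicit false

namespace Cfsg.Agent.Lib.Helper8

theorem ring_p8 {R : Type*} [Ring R] {p : ℕ} (hp : p.Prime) (g : R) (hg : g ^ p = 1) :
    ∃ r : R, (g - 1) ^ p = (p : R) * r := by
  obtain ⟨r, hr⟩ := (Commute.one_right (g - 1)).exists_add_pow_prime_eq hp
  rw [sub_add_cancel, hg, one_pow] at hr
  refine ⟨-((g - 1) * r), ?_⟩
  have h2 : (g - 1) ^ p + (↑p * (g - 1) * 1 * r) = 0 := by
    have h3 : (g - 1) ^ p + (↑p * (g - 1) * 1 * r) + 1 = 0 + 1 := by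
      rw [zero_add, add_right_comm]; exact hr.symm
    exact add_right_cancel h3
  rw [eq_neg_of_add_eq_zero_left h2, mul_one, mul_assoc, mul_neg]

theorem end_sum_apply8 {M : Type*} [AddCommGroup M] (s : Finset ℕ) (f : ℕ → AddMonoid.End M)
    (x : M) : (∑ i ∈ s, f i) x = ∑ i ∈ s, f i x := by
  classical
  induction s using Finset.induction_on with
  | empty => simp
  | insert a s ha ih =>
    rw [Finset.sum_insert ha, Finset.sum_insert ha, ← ih]
    rfl

theorem end_term8 {M : Type*} [AddCommGroup M] (N : AddMonoid.End M) (m k c : ℕ) (x : M) :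
    (N ^ m * 1 ^ k * (c : AddMonoid.End M)) x = c • (N ^ m) x := by
  rw [one_pow, mul_one]
  show (N ^ m) ((c : AddMonoid.End M) x) = _
  rw [AddMonoid.End.natCast_apply, map_nsmul]

theorem end_mul_apply8 {M : Type*} [AddCommGroup M] (f g : AddMonoid.End M) (x : M) :
    (f * g) x = f (g x) := rfl

theorem add_binom8 {M : Type*} [AddCommGroup M] {p : ℕ} (hp : p.Prime) (h5 : 5 ≤ p)
    (g : AddMonoid.End M) (hg : g ^ p = 1)
    (h2 : ∀ x : M, ∃ y : M, ((g - 1) ^ 2 : AddMonoid.End M) x = p • y) :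
    ∀ x : M, ∃ z : M, p • ((g - 1) x) = (p ^ 2) • z := by
  intro x
  obtain ⟨N, hN⟩ : ∃ N : AddMonoid.End M, N = g - 1 := ⟨_, rfl⟩
  rw [← hN] at h2 ⊢
  have hg' : (N + 1) ^ p = 1 := by rw [hN, sub_add_cancel, hg]
  rw [(Commute.one_right N).add_pow] at hg'
  obtain ⟨W, hWdef⟩ : ∃ W : AddSubgroup M, W = (nsmulAddMonoidHom (p ^ 2) : M →+ M).range :=
    ⟨_, rfl⟩
  have hW : ∀ w : M, w ∈ W ↔ ∃ z, w = (p ^ 2) • z := by
    intro w
    rw [hWdef]
    constructor
    · rintro ⟨z, rfl⟩; exact ⟨z, rfl⟩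
    · rintro ⟨z, rfl⟩; exact ⟨z, rfl⟩
  have hsum : ∑ m ∈ Finset.range (p + 1), (p.choose m) • ((N ^ m) x) = x := by
    have h3 := end_sum_apply8 (Finset.range (p + 1))
      (fun m => N ^ m * 1 ^ (p - m) * ((p.choose m : ℕ) : AddMonoid.End M)) x
    rw [hg'] at h3
    have h4 : ∀ m ∈ Finset.range (p + 1),
        (N ^ m * 1 ^ (p - m) * ((p.choose m : ℕ) : AddMonoid.End M)) x
          = (p.choose m) • ((N ^ m) x) := fun m _ => end_term8 N m (p - m) _ x
    rw [Finset.sum_congr rfl h4] at h3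
    exact h3.symm
  have h0 : (p.choose 0) • ((N ^ 0) x) = x := by
    rw [Nat.choose_zero_right, one_smul, pow_zero]; rfl
  have h1 : (p.choose 1) • ((N ^ 1) x) = p • (N x) := by
    rw [Nat.choose_one_right, pow_one]
  have hN2 : ∀ y : M, ∀ m : ℕ, 2 ≤ m → ∃ y' : M, (N ^ m) y = p • y' := by
    intro y m hm
    obtain ⟨c, rfl⟩ := Nat.exists_eq_add_of_le hm
    rw [pow_add, end_mul_apply8]
    exact h2 _
  have hrest : ∀ m ∈ ((Finset.range (p + 1)).erase 0).erase 1,
      (p.choose m) • ((N ^ m) x) ∈ W := by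
    intro m hm
    rw [Finset.mem_erase, Finset.mem_erase, Finset.mem_range] at hm
    obtain ⟨hm1, hm0, hmp⟩ := hm
    rw [hW]
    by_cases hmp' : m = p
    · rw [hmp']
      have hpow : N ^ p = N ^ 2 * N ^ (p - 2) := by
        rw [← pow_add]; congr 1; omega
      rw [Nat.choose_self, one_smul, hpow, end_mul_apply8]
      obtain ⟨y, hy⟩ := hN2 x (p - 2) (by omega)
      rw [hy, map_nsmul]
      obtain ⟨y', hy'⟩ := h2 y
      exact ⟨y', by rw [hy', smul_smul, pow_two]⟩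
    · have hdvd : p ∣ p.choose m := hp.dvd_choose_self hm0 (by omega)
      obtain ⟨c, hc⟩ := hdvd
      obtain ⟨y, hy⟩ := hN2 x m (by omega)
      refine ⟨c • y, ?_⟩
      rw [hc, hy, smul_smul, smul_smul]
      congr 1
      ring
  have hmem0 : 0 ∈ Finset.range (p + 1) := Finset.mem_range.mpr (by omega)
  have hmem1 : 1 ∈ (Finset.range (p + 1)).erase 0 := by
    rw [Finset.mem_erase, Finset.mem_range]; omega
  rw [← Finset.add_sum_erase _ _ hmem0, ← Finset.add_sum_erase _ _ hmem1, h0, h1] at hsum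
  have hR := AddSubgroup.sum_mem W hrest
  have h6 : p • (N x) = -(∑ m ∈ ((Finset.range (p + 1)).erase 0).erase 1,
      (p.choose m) • ((N ^ m) x)) := by
    have h7 : p • (N x) + ∑ m ∈ ((Finset.range (p + 1)).erase 0).erase 1,
        (p.choose m) • ((N ^ m) x) = 0 := by
      have h8 : x + (p • (N x) + ∑ m ∈ ((Finset.range (p + 1)).erase 0).erase 1,
        (p.choose m) • ((N ^ m) x)) = x + 0 := by rw [add_zero]; exact hsum
      exact add_left_cancel h8
    exact eq_neg_of_add_eq_zero_left h7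
  rw [← hW, h6]
  exact W.neg_mem hR

section
variable {G : Type*} [CommGroup G]

/-- an endomorphism of `G` as an element of the endomorphism ring of `Additive G` -/
def toA8 (f : G →* G) : AddMonoid.End (Additive G) := MonoidHom.toAdditive f

theorem toA8_apply (f : G →* G) (a : Additive G) :
    toA8 f a = Additive.ofMul (f a.toMul) := rfl

theorem toA8_pow (f : G →* G) (n : ℕ) (a : Additive G) :
    (toA8 f ^ n) a = Additive.ofMul (npow8 f n a.toMul) := by
  induction n with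
  | zero => rw [pow_zero]; rfl
  | succ n ih =>
    rw [pow_succ', end_mul_apply8, ih, toA8_apply]
    rfl

theorem toA8_div (γ : G →* G) : toA8 (γ / MonoidHom.id G) = toA8 γ - 1 := by
  ext a
  rfl

theorem toA8_pow_one {p : ℕ} (γ : G →* G) (hγ : ∀ x : G, npow8 γ p x = x) :
    toA8 γ ^ p = 1 := by
  ext a
  rw [toA8_pow, hγ]
  rfl

theorem npow_mem_pw8 {p : ℕ} (hp : p.Prime) (γ : G →* G) (hγ : ∀ x : G, npow8 γ p x = x)
    (x : G) : npow8 (γ / MonoidHom.id G) p x ∈ pw8 G p := by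
  obtain ⟨r, hr⟩ := ring_p8 hp (toA8 γ) (toA8_pow_one γ hγ)
  rw [← toA8_div] at hr
  have h1 := DFunLike.congr_fun hr (Additive.ofMul x)
  rw [toA8_pow, end_mul_apply8, AddMonoid.End.natCast_apply] at h1
  refine mem_pw8.mpr ⟨(r (Additive.ofMul x)).toMul, ?_⟩
  have h2 := congrArg Additive.toMul h1
  rw [toMul_nsmul] at h2
  exact h2.symm

theorem pow_mem_pw8_sq {p : ℕ} (hp : p.Prime) (h5 : 5 ≤ p) (γ : G →* G)
    (hγ : ∀ x : G, npow8 γ p x = x)
    (h2 : ∀ x : G, npow8 (γ / MonoidHom.id G) 2 x ∈ pw8 G p) (x : G) :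
    ((γ / MonoidHom.id G) x) ^ p ∈ pw8 G (p ^ 2) := by
  have h3 : ∀ a : Additive G, ∃ y : Additive G,
      ((toA8 γ - 1) ^ 2 : AddMonoid.End (Additive G)) a = p • y := by
    intro a
    rw [← toA8_div, toA8_pow]
    obtain ⟨y, hy⟩ := mem_pw8.mp (h2 a.toMul)
    exact ⟨Additive.ofMul y, by rw [← hy]; rfl⟩
  obtain ⟨z, hz⟩ := add_binom8 hp h5 (toA8 γ) (toA8_pow_one γ hγ) h3 (Additive.ofMul x)
  rw [← toA8_div, toA8_apply] at hz
  refine mem_pw8.mpr ⟨z.toMul, ?_⟩
  have h4 := congrArg Additive.toMul hz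
  rw [toMul_nsmul, toMul_nsmul] at h4
  exact h4.symm

end

end Cfsg.Agent.Lib.Helper8
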