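import Cfsg.Agent.Lib.Helper8.AbEss2
import Cfsg.Agent.Lib.Lead.PFrat
import Cfsg.Agent.Lib.Helper4.Frattini

set_option autoImplicit false

namespace Cfsg.Agent.Lib.Helper8

open scoped commutatorElement

section
variable {G : Type*} [CommGroup G]

theorem frattini_eq_pw8 [Finite G] {p : ℕ} [Fact p.Prime] (hG : IsPGroup p G) :
    frattini G = pw8 G p := by
  apply le_antisymm
  · apply Cfsg.Agent.Lib.Helper4.frattini_le_of_comm_pow (p := p)
    · intro x y
      have : ⁅x, y⁆ = 1 := by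
        rw [commutatorElement_def, mul_comm x y]; simp
      rw [this]; exact Subgroup.one_mem _
    · intro x; exact mem_pw8.mpr ⟨x, rfl⟩
  · intro x hx
    obtain ⟨y, rfl⟩ := mem_pw8.mp hx
    exact (Cfsg.Agent.Lib.Lead.commutator_le_frattini_and_pow_mem hG).2 y

theorem p_card_lt8 [Finite G] {p : ℕ} [Fact p.Prime] (hG : IsPGroup p G) {X Y : Subgroup G}
    (h : X < Y) : p * Nat.card X ≤ Nat.card Y := by
  have hp : p.Prime := Fact.out
  obtain ⟨b, hb⟩ := IsPGroup.iff_card.mp (hG.to_subgroup Y)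
  have hdvd : Nat.card X ∣ Nat.card Y := Subgroup.card_dvd_of_le h.le
  rw [hb] at hdvd
  obtain ⟨a, hab, ha⟩ := (Nat.dvd_prime_pow hp).mp hdvd
  have hne : a ≠ b := by
    rintro rfl
    exact h.ne (Subgroup.eq_of_le_of_card_ge h.le (by rw [ha, hb]))
  have hlt : a < b := lt_of_le_of_ne hab hne
  rw [ha, hb, ← pow_succ']
  exact Nat.pow_le_pow_right hp.pos hlt

theorem max_of_chain8 [Finite G] {p : ℕ} [Fact p.Prime] (hG : IsPGroup p G)
    (F1 L : Subgroup G) (hidx : Nat.card G ≤ p ^ 2 * Nat.card F1) (h1 : F1 < L) (h2 : L < ⊤) :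
    (∀ X : Subgroup G, L ≤ X → X = L ∨ X = ⊤) ∧
      (∀ X : Subgroup G, F1 ≤ X → X ≤ L → X = F1 ∨ X = L) ∧
      Nat.card G = p ^ 2 * Nat.card F1 := by
  have hp : p.Prime := Fact.out
  have e1 := p_card_lt8 hG h1
  have e2 := p_card_lt8 hG h2
  rw [Subgroup.card_top] at e2
  have e3 : Nat.card L = p * Nat.card F1 := by
    have h3 : p * Nat.card L ≤ p * (p * Nat.card F1) := by
      rw [← mul_assoc, ← pow_two]; exact e2.trans hidx
    exact le_antisymm (Nat.le_of_mul_le_mul_left h3 hp.pos) e1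
  have e4 : Nat.card G = p * Nat.card L :=
    le_antisymm (by rw [e3, ← mul_assoc, ← pow_two]; exact hidx) e2
  refine ⟨?_, ?_, ?_⟩
  · intro X hX
    by_cases hXL : X = L
    · left; exact hXL
    · right
      have hlt : L < X := lt_of_le_of_ne hX (Ne.symm hXL)
      have e5 := p_card_lt8 hG hlt
      apply Subgroup.eq_top_of_card_eq
      exact le_antisymm (Subgroup.card_le_card_group X) (e4 ▸ e5)
  · intro X h1X hXL
    by_cases hXF : X = F1
    · left; exact hXF
    · right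
      have hlt : F1 < X := lt_of_le_of_ne h1X (Ne.symm hXF)
      have e5 := p_card_lt8 hG hlt
      exact Subgroup.eq_of_le_of_card_ge hXL (by rw [e3]; exact e5)
  · rw [e4, e3, ← mul_assoc, ← pow_two]

/-- elements of order dividing `p^j` -/
def om8 (G : Type*) [CommGroup G] (p j : ℕ) : Subgroup G :=
  (powMonoidHom (p ^ j) : G →* G).ker

theorem mem_om8 {p j : ℕ} {x : G} : x ∈ om8 G p j ↔ x ^ (p ^ j) = 1 := by
  unfold om8; rw [MonoidHom.mem_ker]; rfl

theorem om8_mono {p : ℕ} {i j : ℕ} (h : i ≤ j) : om8 G p i ≤ om8 G p j := by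
  intro x hx
  rw [mem_om8] at hx ⊢
  obtain ⟨c, rfl⟩ := Nat.exists_eq_add_of_le h
  rw [pow_add, pow_mul, hx, one_pow]

theorem om8_zero {p : ℕ} : om8 G p 0 = ⊥ := by
  rw [eq_bot_iff]
  intro x hx
  rw [mem_om8, pow_zero, pow_one] at hx
  exact Subgroup.mem_bot.mpr hx

theorem om8_top [Finite G] {p e : ℕ} (he : Nat.card G = p ^ e) : om8 G p e = ⊤ := by
  rw [eq_top_iff]
  intro x _
  rw [mem_om8, ← he]
  exact pow_card_eq_one'

theorem chain_cases8 [Finite G] {p e : ℕ} (he : Nat.card G = p ^ e) (hne : pw8 G p ≠ ⊤) :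
    (∃ j, pw8 G p < om8 G p j ⊔ pw8 G p ∧ om8 G p j ⊔ pw8 G p < ⊤) ∨
    (∃ j, om8 G p j ≤ pw8 G p ∧ om8 G p (j + 1) ⊔ pw8 G p = ⊤) := by
  by_contra hcon
  have h1 : ∀ j, ¬ (pw8 G p < om8 G p j ⊔ pw8 G p ∧ om8 G p j ⊔ pw8 G p < ⊤) :=
    fun j hj => hcon (Or.inl ⟨j, hj⟩)
  have h2 : ∀ j, ¬ (om8 G p j ≤ pw8 G p ∧ om8 G p (j + 1) ⊔ pw8 G p = ⊤) :=
    fun j hj => hcon (Or.inr ⟨j, hj⟩)
  have key : ∀ j, om8 G p j ≤ pw8 G p := by
    intro j
    induction j with
    | zero => rw [om8_zero]; exact bot_le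
    | succ j ih =>
      have h3 : om8 G p (j + 1) ⊔ pw8 G p ≠ ⊤ := fun h => h2 j ⟨ih, h⟩
      have h4 : om8 G p (j + 1) ⊔ pw8 G p < ⊤ := lt_top_iff_ne_top.mpr h3
      have h5 : ¬ (pw8 G p < om8 G p (j + 1) ⊔ pw8 G p) := fun h => h1 (j + 1) ⟨h, h4⟩
      have h6 : om8 G p (j + 1) ⊔ pw8 G p = pw8 G p := by
        by_contra h7
        exact h5 (lt_of_le_of_ne le_sup_right (Ne.symm h7))
      rw [← h6]; exact le_sup_left
  apply hne
  rw [eq_top_iff, ← om8_top he]
  exact key e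

theorem card_comap8 [Finite G] (f : G →* G) (Y : Subgroup G) (hY : Y ≤ f.range) :
    Nat.card (Y.comap f) = Nat.card f.ker * Nat.card Y := by
  have h1 : (Y.comap f).index = Y.relIndex f.range := Subgroup.index_comap Y f
  have h2 : Nat.card (Y.comap f) * (Y.comap f).index = Nat.card G := Subgroup.card_mul_index _
  have h3 : Nat.card f.ker * Nat.card f.range = Nat.card G := by
    rw [← Subgroup.index_ker]; exact Subgroup.card_mul_index _
  have h4 : Nat.card Y * Y.relIndex f.range = Nat.card f.range := by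
    have := Subgroup.card_mul_index (Y.subgroupOf f.range)
    rw [Nat.card_congr (Subgroup.subgroupOfEquivOfLe hY).toEquiv] at this
    exact this
  have hpos : 0 < Y.relIndex f.range := by
    rcases Nat.eq_zero_or_pos (Y.relIndex f.range) with h | h
    · rw [h, mul_zero] at h4
      have := Nat.card_pos (α := f.range)
      omega
    · exact h
  have h5 : Nat.card (Y.comap f) * Y.relIndex f.range =
      (Nat.card f.ker * Nat.card Y) * Y.relIndex f.range := by
    rw [← h1, h2, h1, mul_assoc, h4, h3]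
  exact Nat.eq_of_mul_eq_mul_right hpos h5

theorem om8_succ_comap {p : ℕ} (i : ℕ) :
    om8 G p (i + 1) = (om8 G p i).comap (powMonoidHom p) := by
  ext x
  rw [Subgroup.mem_comap, mem_om8, mem_om8, powMonoidHom_apply, ← pow_mul, pow_succ']

theorem om8_one_eq_ker {p : ℕ} : om8 G p 1 = (powMonoidHom p : G →* G).ker := by
  unfold om8; rw [pow_one]

theorem card_om8 [Finite G] {p : ℕ} (j : ℕ) (hj : om8 G p j ≤ pw8 G p)
    (h1 : Nat.card (om8 G p 1) = p ^ 2) :
    ∀ i, i ≤ j + 1 → Nat.card (om8 G p i) = p ^ (2 * i) := by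
  intro i
  induction i with
  | zero => intro _; rw [om8_zero]; simp
  | succ i ih =>
    intro hi
    rw [om8_succ_comap, card_comap8 _ _ ((om8_mono (by omega)).trans hj), ← om8_one_eq_ker, h1,
      ih (by omega)]
    ring

/-- the homomorphism `ZMod n → G` sending `1` to an element of order dividing `n` -/
noncomputable def zmHom8 (n : ℕ) (x : G) (hx : x ^ n = 1) : ZMod n →+ Additive G :=
  ZMod.lift n ⟨zmultiplesHom (Additive G) (Additive.ofMul x), by
    show ((n : ℕ) : ℤ) • Additive.ofMul x = 0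
    rw [natCast_zsmul, ← ofMul_pow, hx]; rfl⟩

theorem zmHom8_one (n : ℕ) (x : G) (hx : x ^ n = 1) : zmHom8 n x hx 1 = Additive.ofMul x := by
  have h := ZMod.lift_coe n (⟨zmultiplesHom (Additive G) (Additive.ofMul x), by
    show ((n : ℕ) : ℤ) • Additive.ofMul x = 0
    rw [natCast_zsmul, ← ofMul_pow, hx]; rfl⟩ : { f : ℤ →+ Additive G // f n = 0 }) 1
  rw [Int.cast_one] at h
  unfold zmHom8
  rw [h]
  simp

theorem iso_zmod8 [Finite G] (n : ℕ) (x y : G) (hx : x ^ n = 1) (hy : y ^ n = 1)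
    (hgen : Subgroup.zpowers x ⊔ Subgroup.zpowers y = ⊤) (hcard : Nat.card G = n * n) :
    Nonempty (G ≃* Multiplicative (ZMod n × ZMod n)) := by
  have hn : n ≠ 0 := by
    rintro rfl
    have := Nat.card_pos (α := G)
    omega
  haveI : NeZero n := ⟨hn⟩
  obtain ⟨ψ, hψdef⟩ : ∃ ψ : Multiplicative (ZMod n × ZMod n) →* G,
      ψ = AddMonoidHom.toMultiplicativeLeft ((zmHom8 n x hx).coprod (zmHom8 n y hy)) :=
    ⟨_, rfl⟩
  have hψx : ψ (Multiplicative.ofAdd (1, 0)) = x := by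
    rw [hψdef]
    show Additive.toMul ((zmHom8 n x hx).coprod (zmHom8 n y hy) (1, 0)) = x
    rw [AddMonoidHom.coprod_apply, zmHom8_one, map_zero, add_zero]; rfl
  have hψy : ψ (Multiplicative.ofAdd (0, 1)) = y := by
    rw [hψdef]
    show Additive.toMul ((zmHom8 n x hx).coprod (zmHom8 n y hy) (0, 1)) = y
    rw [AddMonoidHom.coprod_apply, zmHom8_one, map_zero, zero_add]; rfl
  have hsurj : Function.Surjective ψ := by
    rw [← MonoidHom.range_eq_top, eq_top_iff, ← hgen]
    apply sup_le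
    · rw [Subgroup.zpowers_le]; exact ⟨_, hψx⟩
    · rw [Subgroup.zpowers_le]; exact ⟨_, hψy⟩
  haveI : Finite (Multiplicative (ZMod n × ZMod n)) :=
    Finite.of_equiv (ZMod n × ZMod n) Multiplicative.ofAdd
  have hbij : Function.Bijective ψ := hsurj.bijective_of_nat_card_le (by
    rw [hcard, Nat.card_congr (Multiplicative.toAdd : Multiplicative (ZMod n × ZMod n) ≃ _),
      Nat.card_prod, Nat.card_zmod])
  exact ⟨(MulEquiv.ofBijective ψ hbij).symm⟩

end

end Cfsg.Agent.Lib.Helper8
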