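import Cfsg.Agent.Lib.Helper8.AbEss3

set_option autoImplicit false

namespace Cfsg.Agent.Lib.Helper8

section
variable {G : Type*} [CommGroup G]

theorem ab_ess_main8 [Finite G] {p : ℕ} [Fact p.Prime] (hG : IsPGroup p G)
    (A : Subgroup (MulAut G))
    (hO : ∀ N : Subgroup (MulAut G), N ≤ A → (∀ a ∈ A, ∀ n ∈ N, a * n * a⁻¹ ∈ N) →
      IsPGroup p N → N = ⊥)
    (g : MulAut G) (hgA : g ∈ A) (hg1 : g ≠ 1) (hgp : g ^ p = 1)
    (hrk : (frattini G).index ≤ p ^ 2) :
    ((∀ a : G, a ^ p = 1) ∧ Nat.card G = p ^ 2) ∨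
      (p ≤ 3 ∧ ∃ k : ℕ, Nonempty (G ≃* Multiplicative (ZMod (p ^ k) × ZMod (p ^ k)))) := by
  have hp : p.Prime := Fact.out
  have hF : frattini G = pw8 G p := frattini_eq_pw8 hG
  rw [hF] at hrk
  obtain ⟨e, he⟩ := IsPGroup.iff_card.mp hG
  obtain ⟨γ, hγdef⟩ : ∃ γ : G →* G, γ = g.toMonoidHom := ⟨_, rfl⟩
  have hγ : ∀ (n : ℕ) (x : G), npow8 γ n x = (g ^ n) x := by
    intro n
    induction n with
    | zero => intro x; rfl
    | succ n ih =>
      intro x
      rw [npow8_succ, MonoidHom.comp_apply, ih, pow_succ', MulAut.mul_apply, hγdef]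
      rfl
  have hγp : ∀ x, npow8 γ p x = x := by
    intro x; rw [hγ, hgp]; rfl
  obtain ⟨N, hNdef⟩ : ∃ N : G →* G, N = γ / MonoidHom.id G := ⟨_, rfl⟩
  have hNx : ∀ x, N x = g x / x := by
    intro x; rw [hNdef, hγdef]; rfl
  have hNp : ∀ x, npow8 N p x ∈ pw8 G p := by
    rw [hNdef]; exact npow_mem_pw8 hp γ hγp
  have hKA : ∀ β ∈ A, (∀ x, β x / x ∈ pw8 G p) → β = 1 := by
    intro β hβA hβ
    have hbot := chain_stab_bot8 hG A hO ⊤ le_top (fun _ _ _ _ => Subgroup.mem_top _)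
    have hmem : β ∈ A ⊓ stabSub8 ⊤ ⊤ le_top ⊓ stabSub8 ⊤ (pw8 G p) le_top := by
      refine ⟨⟨hβA, ?_⟩, ?_⟩
      · exact mem_stabSub8_of_fwd le_top (fun _ _ => Subgroup.mem_top _)
          (fun _ _ => Subgroup.mem_top _)
      · exact mem_stabSub8_of_fwd le_top (fun u _ => hβ u) (fun _ _ => Subgroup.mem_top _)
    rw [hbot] at hmem
    exact Subgroup.mem_bot.mp hmem
  have hNnot : ¬ (⊤ : Subgroup G).map N ≤ pw8 G p := by
    intro h
    apply hg1
    apply hKA g hgA
    intro x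
    rw [← hNx]; exact h (Subgroup.mem_map_of_mem N (Subgroup.mem_top x))
  have hNpw : (pw8 G p).map N ≤ pw8 G p := by
    rintro _ ⟨u, hu, rfl⟩
    obtain ⟨y, rfl⟩ := mem_pw8.mp hu
    exact mem_pw8.mpr ⟨N y, by rw [map_pow]⟩
  obtain ⟨L', hL'def⟩ : ∃ L' : Subgroup G, L' = (⊤ : Subgroup G).map N ⊔ pw8 G p := ⟨_, rfl⟩
  have hNL'le : (⊤ : Subgroup G).map N ≤ L' := hL'def ▸ le_sup_left
  have hpwL' : pw8 G p ≤ L' := hL'def ▸ le_sup_right
  have hL'1 : pw8 G p < L' := by
    refine lt_of_le_of_ne hpwL' ?_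
    intro h
    exact hNnot (hNL'le.trans h.symm.le)
  have hL'2 : L' < ⊤ := by
    refine lt_top_iff_ne_top.mpr ?_
    intro h
    have h1 := iter_sup8 N ⊤ (pw8 G p) hNpw le_top (hL'def ▸ h) p
    have h2 : (⊤ : Subgroup G) ≤ pw8 G p := by
      calc ⊤ = (⊤ : Subgroup G).map (npow8 N p) ⊔ pw8 G p := h1.symm
        _ ≤ pw8 G p := sup_le (by rintro _ ⟨u, -, rfl⟩; exact hNp u) le_rfl
    exact hNnot (le_top.trans h2)
  have hidx : Nat.card G ≤ p ^ 2 * Nat.card (pw8 G p) := by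
    rw [← Subgroup.card_mul_index (pw8 G p), mul_comm]
    exact Nat.mul_le_mul_right _ hrk
  obtain ⟨hmax1, hmax2, hcardG⟩ := max_of_chain8 hG (pw8 G p) L' hidx hL'1 hL'2
  have hNL' : L'.map N ≤ pw8 G p := by
    apply map_le_of_max8 N L' (pw8 G p) hNpw hL'1.le ?_ p ?_ hmax2
    · exact (Subgroup.map_mono le_top).trans hNL'le
    · rintro _ ⟨u, -, rfl⟩; exact hNp u
  have hN2 : ∀ x, npow8 N 2 x ∈ pw8 G p := by
    intro x
    show N (N x) ∈ _
    apply hNL'
    exact Subgroup.mem_map_of_mem N (hNL'le (Subgroup.mem_map_of_mem N (Subgroup.mem_top x)))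
  have hpwne : pw8 G p ≠ ⊤ := (hL'1.trans hL'2).ne
  rcases chain_cases8 he hpwne with ⟨j, hj1, hj2⟩ | ⟨j, hj1, hj2⟩
  · exfalso
    obtain ⟨L, hLdef⟩ : ∃ L : Subgroup G, L = om8 G p j ⊔ pw8 G p := ⟨_, rfl⟩
    rw [← hLdef] at hj1 hj2
    have hinvAll : ∀ a : MulAut G, ∀ u ∈ L, a u ∈ L := by
      intro a u hu
      rw [hLdef] at hu ⊢
      obtain ⟨y, hy, z, hz, rfl⟩ := Subgroup.mem_sup.mp hu
      rw [map_mul]
      refine Subgroup.mul_mem_sup ?_ ?_
      · rw [mem_om8] at hy ⊢; rw [← map_pow, hy, map_one]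
      · obtain ⟨w, rfl⟩ := mem_pw8.mp hz; exact mem_pw8.mpr ⟨a w, by rw [map_pow]⟩
    obtain ⟨hm1, hm2, -⟩ := max_of_chain8 hG (pw8 G p) L hidx hj1 hj2
    have hNL : L.map N ≤ L := by
      rintro _ ⟨u, hu, rfl⟩
      rw [hNx]; exact L.div_mem (hinvAll g u hu) hu
    have hNtop : (⊤ : Subgroup G).map N ≤ L := by
      apply map_le_of_max8 N ⊤ L hNL le_top le_top p ?_ (fun X hX _ => hm1 X hX)
      rintro _ ⟨u, -, rfl⟩; exact hj1.le (hNp u)
    have hNLpw : L.map N ≤ pw8 G p := by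
      apply map_le_of_max8 N L (pw8 G p) hNpw hj1.le hNL p ?_ hm2
      rintro _ ⟨u, -, rfl⟩; exact hNp u
    have hbot := chain_stab_bot8 hG A hO L hj1.le (fun a _ u hu => hinvAll a u hu)
    have hmem : g ∈ A ⊓ stabSub8 ⊤ L le_top ⊓ stabSub8 L (pw8 G p) hj1.le := by
      refine ⟨⟨hgA, ?_⟩, ?_⟩
      · exact mem_stabSub8_of_fwd le_top
          (fun u _ => by
            rw [← hNx]; exact hNtop (Subgroup.mem_map_of_mem N (Subgroup.mem_top u)))
          (fun _ _ => Subgroup.mem_top _)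
      · exact mem_stabSub8_of_fwd hj1.le
          (fun u hu => by rw [← hNx]; exact hNLpw (Subgroup.mem_map_of_mem N hu))
          (fun u hu => hinvAll g⁻¹ u hu)
    rw [hbot] at hmem
    exact hg1 (Subgroup.mem_bot.mp hmem)
  · have hXtop : om8 G p (j + 1) = ⊤ := by
      apply frattini_nongenerating
      rw [hF]; exact hj2
    have hker : Nat.card (om8 G p 1) = p ^ 2 := by
      have h3 : Nat.card (powMonoidHom p : G →* G).ker *
          Nat.card (powMonoidHom p : G →* G).range = Nat.card G := by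
        rw [← Subgroup.index_ker]; exact Subgroup.card_mul_index _
      rw [om8_one_eq_ker]
      have h4 : Nat.card (pw8 G p) = Nat.card (powMonoidHom p : G →* G).range := rfl
      rw [hcardG, h4] at h3
      exact Nat.eq_of_mul_eq_mul_right Nat.card_pos h3
    have hcards := card_om8 j hj1 hker (j + 1) le_rfl
    rw [hXtop, Subgroup.card_top] at hcards
    have hexp : ∀ a : G, a ^ (p ^ (j + 1)) = 1 := by
      intro a; rw [← mem_om8, hXtop]; exact Subgroup.mem_top a
    by_cases hj0 : j = 0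
    · left
      subst hj0
      refine ⟨fun a => by simpa using hexp a, by simpa using hcards⟩
    · right
      constructor
      · by_contra hp3
        have h5 : 5 ≤ p := by
          have h4 : p ≠ 4 := by
            rintro rfl
            exact absurd hp (by norm_num)
          omega
        apply hNnot
        rintro _ ⟨x, -, rfl⟩
        have h6 := pow_mem_pw8_sq hp h5 γ hγp (hNdef ▸ hN2) x
        rw [← hNdef] at h6
        obtain ⟨w, hw⟩ := mem_pw8.mp h6
        have h7 : N x / w ^ p ∈ om8 G p 1 := by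
          rw [mem_om8, pow_one, div_pow, ← pow_mul, ← pow_two, hw, div_self']
        have h8 : N x / w ^ p ∈ pw8 G p := hj1 (om8_mono (by omega) h7)
        have h9 : N x = (N x / w ^ p) * w ^ p := by simp
        rw [h9]; exact (pw8 G p).mul_mem h8 (mem_pw8.mpr ⟨w, rfl⟩)
      · refine ⟨j + 1, ?_⟩
        obtain ⟨x, hxL, hxF⟩ := SetLike.exists_of_lt hL'1
        obtain ⟨y, -, hyL⟩ := SetLike.exists_of_lt hL'2
        have h1 : Subgroup.zpowers x ⊔ pw8 G p = L' := by
          rcases hmax2 (Subgroup.zpowers x ⊔ pw8 G p) le_sup_right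
            (sup_le (by rw [Subgroup.zpowers_le]; exact hxL) hL'1.le) with h | h
          · have hx : x ∈ Subgroup.zpowers x ⊔ pw8 G p :=
              (le_sup_left : Subgroup.zpowers x ≤ _) (Subgroup.mem_zpowers x)
            rw [h] at hx
            exact absurd hx hxF
          · exact h
        have h2 : Subgroup.zpowers y ⊔ L' = ⊤ := by
          rcases hmax1 (Subgroup.zpowers y ⊔ L') le_sup_right with h | h
          · have hy : y ∈ Subgroup.zpowers y ⊔ L' :=
              (le_sup_left : Subgroup.zpowers y ≤ _) (Subgroup.mem_zpowers y)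
            rw [h] at hy
            exact absurd hy hyL
          · exact h
        have hgen : Subgroup.zpowers x ⊔ Subgroup.zpowers y = ⊤ := by
          apply frattini_nongenerating
          rw [hF, sup_comm (Subgroup.zpowers x), sup_assoc, h1, h2]
        apply iso_zmod8 (p ^ (j + 1)) x y (hexp x) (hexp y) hgen
        rw [hcards, ← pow_add]; congr 1; ring

end

end Cfsg.Agent.Lib.Helper8
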