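import Cfsg.Agent.Lib.Helper8.AbEss4
import Cfsg.Agent.Lib.Helper8.EssRad

set_option autoImplicit false
open Cfsg

namespace Cfsg.Agent.Lib.Helper8

theorem ab_ess_result8 {Ω : Type*} [Group Ω] {S : Subgroup Ω} [Finite S] (p : ℕ)
    [Fact p.Prime] (hS : IsPGroup p S) (F : Cfsg.FusionSystem S) (H : Subgroup Ω)
    (hH : F.IsEssential p H) (hab : IsMulCommutative ↥H)
    (hrk : (frattini ↥H).index ≤ p ^ 2) :
    (Cfsg.IsElementaryAbelian p H ∧ Nat.card H = p ^ 2) ∨
      (p ≤ 3 ∧ ∃ k : ℕ, Nonempty (↥H ≃* Multiplicative (ZMod (p ^ k) × ZMod (p ^ k)))) := by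
  have hp : p.Prime := Fact.out
  have hrad := radical_of_essential hS F hH
  obtain ⟨hcen, -, hN, E, hE⟩ := hH
  have hHS : H ≤ S := hcen.1
  haveI : Finite H := finite_of_le hHS
  haveI : Finite (MulAut H) := finite_mulAut H
  have hHp : IsPGroup p H := hS.to_le hHS
  haveI := hab
  letI : CommGroup H := { (inferInstance : Group H) with mul_comm := mul_comm' }
  have hInn : Inn H = ⊥ := by
    rw [eq_bot_iff]
    rintro _ ⟨x, rfl⟩
    rw [Subgroup.mem_bot]
    ext y
    rw [MulAut.conj_apply, mul_comm' x y, mul_inv_cancel_right]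
    rfl
  have hcore : pCore p (F.autGroup H) = ⊥ := by
    have h1 := hrad.2
    rw [hInn] at h1
    exact (Subgroup.map_eq_bot_iff_of_injective _ (Subgroup.subtype_injective _)).mp h1
  have hpdvd : p ∣ Nat.card (F.autGroup H) :=
    hE.1.trans (Subgroup.card_quotient_dvd_card _)
  obtain ⟨g0, hg0⟩ := exists_prime_orderOf_dvd_card' p hpdvd
  have hO : ∀ N : Subgroup (MulAut H), N ≤ F.autGroup H →
      (∀ a ∈ F.autGroup H, ∀ n ∈ N, a * n * a⁻¹ ∈ N) → IsPGroup p N → N = ⊥ := by
    intro N hNA hNn hNp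
    have hnorm : (N.subgroupOf (F.autGroup H)).Normal := by
      constructor
      intro n hn a
      exact hNn a a.2 n hn
    have hle := le_pCore hnorm (hNp.comap_subtype (K := F.autGroup H))
    rw [hcore] at hle
    rw [eq_bot_iff]
    intro n hn
    have h2 : (⟨n, hNA hn⟩ : F.autGroup H) ∈ N.subgroupOf (F.autGroup H) := hn
    have h3 := Subgroup.mem_bot.mp (hle h2)
    exact Subgroup.mem_bot.mpr (congrArg Subtype.val h3)
  have hg1 : (g0 : MulAut H) ≠ 1 := by
    intro h
    have h2 : g0 = 1 := Subtype.ext h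
    rw [h2, orderOf_one] at hg0
    exact hp.one_lt.ne hg0
  have hgp : (g0 : MulAut H) ^ p = 1 := by
    have h2 : g0 ^ p = 1 := by rw [← hg0]; exact pow_orderOf_eq_one g0
    have h3 := congrArg Subtype.val h2
    exact h3
  rcases ab_ess_main8 hHp (F.autGroup H) hO (g0 : MulAut H) g0.2 hg1 hgp hrk with h | h
  · left
    refine ⟨⟨hab, ?_⟩, h.2⟩
    intro a ha
    exact congrArg Subtype.val (h.1 ⟨a, ha⟩)
  · right
    exact h

end Cfsg.Agent.Lib.Helper8
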