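import Cfsg.Agent.Lib.Helper8.CentQuot
import Cfsg.Agent.S5135

set_option autoImplicit false
open Cfsg

namespace Cfsg.Agent.Lib.Helper8

theorem quot_center_constrained {L : Type*} [Group L] [Finite L] (p : ℕ) [Fact p.Prime]
    (R : Sylow p L) (hc : (groupFusionSystem (R : Subgroup L)).IsConstrained p) :
    (groupFusionSystem
      ((R : Subgroup L).map (QuotientGroup.mk' (Subgroup.center L)))).IsConstrained p := by
  have hfac := Cfsg.Agent.S5135.result p R (Subgroup.center L)
  have hcentral : (groupFusionSystem (R : Subgroup L)).IsCentral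
      ((R : Subgroup L) ⊓ Subgroup.center L) := by
    refine ⟨inf_le_left, ?_⟩
    rintro P φ ⟨hP, hφS, g, hg⟩
    have hle : P ⊔ (R : Subgroup L) ⊓ Subgroup.center L ≤
        (R : Subgroup L).comap (MulAut.conj g).toMonoidHom := by
      refine sup_le ?_ ?_
      · intro x hx
        show g * x * g⁻¹ ∈ (R : Subgroup L)
        rw [← hg ⟨x, hx⟩]
        exact hφS _
      · rintro x ⟨hxR, hxZ⟩
        show g * x * g⁻¹ ∈ (R : Subgroup L)
        have e : g * x * g⁻¹ = x := by
          rw [Subgroup.mem_center_iff.mp hxZ g]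
          group
        rw [e]
        exact hxR
    refine ⟨conjHom _ g, ⟨sup_le hP inf_le_left, fun x => hle x.2, g, fun x => rfl⟩,
      fun x => (hg x).symm, fun x => ?_⟩
    show g * (x : L) * g⁻¹ = x
    rw [Subgroup.mem_center_iff.mp x.2.2 g]
    group
  exact central_factor_constrained R.isPGroup' _ hc hcentral _ _ hfac

theorem component_quot_constrained {G : Type*} [Group G] [Finite G] (p : ℕ) [Fact p.Prime]
    (S : Sylow p G) (hF : (groupFusionSystem (S : Subgroup G)).IsConstrained p)
    (L : Subgroup G) (hL : L.IsSubnormal) :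
    (groupFusionSystem (((S : Subgroup G).subgroupOf L).map
      (QuotientGroup.mk' (Subgroup.center L)))).IsConstrained p := by
  obtain ⟨-, hsyl⟩ := subnormal_constrained_aux p S hF L hL _ rfl inf_le_right
  obtain ⟨R, hR⟩ := (sylIn_iff inf_le_right).mp hsyl
  rw [Subgroup.inf_subgroupOf_right] at hR
  have hc := subnormal_constrained p S hF L hL
  rw [← hR] at hc ⊢
  exact quot_center_constrained p R hc

end Cfsg.Agent.Lib.Helper8
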