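import Cfsg.Agent.Lib.Helper8.Abel

set_option autoImplicit false
open Cfsg

namespace Cfsg.Agent.Lib.Helper8

variable {Ω : Type*} [Group Ω] {S : Subgroup Ω}

/-- Maps of the system fix central subgroups pointwise. -/
theorem central_map_eq (F : FusionSystem S) {Q : Subgroup Ω} (hQ : F.IsCentral Q)
    {P : Subgroup Ω} {φ : P →* Ω} (hφ : φ ∈ F.Hom P) (x : P) (hx : (x : Ω) ∈ Q) : φ x = x := by
  obtain ⟨ψ, -, h1, h2⟩ := hQ.2 P φ hφ
  have e : Subgroup.inclusion (le_sup_left : P ≤ P ⊔ Q) x =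
      Subgroup.inclusion (le_sup_right : Q ≤ P ⊔ Q) ⟨x, hx⟩ := Subtype.ext rfl
  rw [← h1 x, e, h2]

theorem sc_of_central (F : FusionSystem S) {Q : Subgroup Ω} (hQ : F.IsCentral Q) :
    F.StronglyClosed Q := by
  refine ⟨hQ.1, fun R hR φ hφ x => ?_⟩
  rw [central_map_eq F hQ hφ x (hR x.2)]
  exact hR x.2

theorem center_sc [Finite S] (F : FusionSystem S) : F.StronglyClosed F.center :=
  sc_of_central F (center_isCentral F)

end Cfsg.Agent.Lib.Helper8
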