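import Mathlib
import Cfsg.Prelude.Def_Characters
import Cfsg.Agent.Lib.Lead.Char16

set_option autoImplicit false

namespace Cfsg.Agent.Lib.Helper8

open Cfsg.Agent.Lib.Lead Module

/-- If the normal subgroup `N` is not in the kernel of the irreducible character `χ`, then `χ`
sums to zero over every coset `gN`. -/
theorem sum_normal_coset_eq_zero {G : Type*} [Group G] [Fintype G] (N : Subgroup G) [N.Normal]
    (χ : Cfsg.IrrCharacter G) (hχ : ∃ x ∈ N, χ.1 x ≠ χ.1 1) (g : G) [DecidablePred (· ∈ N)] :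
    ∑ x : G, (if x ∈ N then (1 : ℂ) else 0) * χ.1 (g * x) = 0 := by
  classical
  obtain ⟨n, ρ, hρ, hρχ⟩ := χ.2
  haveI := hρ
  obtain ⟨f, hf⟩ : ∃ f : G → ℂ, f = fun x => if x ∈ N then (1 : ℂ) else 0 := ⟨_, rfl⟩
  have hfcls : Cfsg.IsClassFunction G f := by
    intro x h
    rw [hf]
    show (if h * x * h⁻¹ ∈ N then (1 : ℂ) else 0) = if x ∈ N then 1 else 0
    have e : h * x * h⁻¹ ∈ N ↔ x ∈ N := by
      constructor
      · intro hx
        have := ‹N.Normal›.conj_mem _ hx h⁻¹
        simpa [mul_assoc] using this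
      · intro hx
        exact ‹N.Normal›.conj_mem _ hx h
    rw [if_congr e rfl rfl]
  obtain ⟨c, hc, -⟩ := Lead.Top_irr f hfcls ρ
  have hc0 : c = 0 := by
    by_contra hne
    obtain ⟨x, hxN, hx⟩ := hχ
    apply hx
    have h1 : ρ x * Lead.Top f ρ = Lead.Top f ρ := by
      unfold Lead.Top
      rw [Finset.mul_sum]
      apply Fintype.sum_equiv (Equiv.mulLeft x)
      intro y
      rw [Equiv.coe_mulLeft, mul_smul_comm, ← map_mul]
      congr 1
      rw [hf]
      show (if y ∈ N then (1 : ℂ) else 0) = if x * y ∈ N then 1 else 0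
      have e : x * y ∈ N ↔ y ∈ N := Subgroup.mul_mem_cancel_left N hxN
      rw [if_congr e rfl rfl]
    rw [hc] at h1
    have h2 : ρ x = 1 := by
      have h3 : c • ρ x = c • (1 : Module.End ℂ (Fin n → ℂ)) := by
        rw [mul_smul_comm, mul_one] at h1
        exact h1
      exact smul_right_injective _ hne h3
    rw [← hρχ]
    unfold Representation.character
    rw [h2, map_one ρ]
  rw [hc0, zero_smul] at hc
  have h4 : LinearMap.trace ℂ (Fin n → ℂ) (ρ g * Lead.Top f ρ) = ∑ x : G, f x * χ.1 (g * x) := by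
    unfold Lead.Top
    rw [Finset.mul_sum, map_sum]
    apply Finset.sum_congr rfl
    intro x _
    rw [mul_smul_comm, map_smul, smul_eq_mul, ← map_mul, ← hρχ]
    rfl
  rw [hc, mul_zero, map_zero] at h4
  rw [hf] at h4
  exact h4.symm

/-- S4802. -/
theorem class_eq_diff_iff {G : Type*} [Group G] [Finite G] (N M : Subgroup G) [N.Normal]
    [M.Normal] (hNM : N < M) (g : G) (hgM : g ∈ M) (hgN : g ∉ N) :
    {h : G | IsConj g h} = (M : Set G) \ (N : Set G) ↔
      ((∀ χ : Cfsg.IrrCharacter G, (∀ x ∈ N, (χ : G → ℂ) x = (χ : G → ℂ) 1) →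
          ∀ x ∈ M, x ∉ N → ∀ y ∈ M, y ∉ N → (χ : G → ℂ) x = (χ : G → ℂ) y) ∧
        (∀ χ : Cfsg.IrrCharacter G, (∃ x ∈ N, (χ : G → ℂ) x ≠ (χ : G → ℂ) 1) →
          (χ : G → ℂ) g = 0)) := by
  classical
  haveI : Fintype G := Fintype.ofFinite G
  haveI : Fintype (Cfsg.IrrCharacter G) := Fintype.ofFinite _
  constructor
  · intro hcl
    have hconj : ∀ x ∈ M, x ∉ N → IsConj g x := by
      intro x hxM hxN
      have : x ∈ (M : Set G) \ (N : Set G) := ⟨hxM, hxN⟩
      rw [← hcl] at this
      exact this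
    refine ⟨?_, ?_⟩
    · intro χ _ x hxM hxN y hyM hyN
      have h1 := isClassFunction_conj_eq (isClassFunction_of_irr χ) (hconj x hxM hxN)
      have h2 := isClassFunction_conj_eq (isClassFunction_of_irr χ) (hconj y hyM hyN)
      rw [← h1, h2]
    · intro χ hχ
      have h1 := sum_normal_coset_eq_zero N χ hχ g
      have h2 : ∀ x : G, (if x ∈ N then (1 : ℂ) else 0) * χ.1 (g * x)
          = (if x ∈ N then (1 : ℂ) else 0) * χ.1 g := by
        intro x
        by_cases hx : x ∈ N
        · have hc : IsConj g (g * x) := hconj (g * x) (M.mul_mem hgM (hNM.le hx))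
            (fun h => hgN ((Subgroup.mul_mem_cancel_right N hx).mp h))
          rw [isClassFunction_conj_eq (isClassFunction_of_irr χ) hc]
        · rw [if_neg hx, zero_mul, zero_mul]
      rw [Finset.sum_congr rfl (fun x _ => h2 x), ← Finset.sum_mul] at h1
      have h3 : ∑ x : G, (if x ∈ N then (1 : ℂ) else 0) ≠ 0 := by
        rw [Finset.sum_ite, Finset.sum_const_zero, add_zero, Finset.sum_const, nsmul_eq_mul,
          mul_one]
        have : (Finset.univ.filter (fun x : G => x ∈ N)).card ≠ 0 := by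
          apply Finset.card_ne_zero.mpr
          exact ⟨1, Finset.mem_filter.mpr ⟨Finset.mem_univ _, N.one_mem⟩⟩
        exact_mod_cast this
      rcases mul_eq_zero.mp h1 with h | h
      · exact absurd h h3
      · exact h
  · rintro ⟨h1, h2⟩
    ext h
    constructor
    · intro hc
      have hc' : IsConj g h := hc
      rw [isConj_iff] at hc'
      obtain ⟨c, rfl⟩ := hc'
      refine ⟨‹M.Normal›.conj_mem g hgM c, ?_⟩
      intro hN'
      apply hgN
      have := ‹N.Normal›.conj_mem _ hN' c⁻¹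
      simpa [mul_assoc] using this
    · rintro ⟨hM, hN'⟩
      show IsConj g h
      by_contra hnc
      have e1 := col_orth' h g
      rw [if_neg (fun hc => hnc hc.symm)] at e1
      have e2 := col_orth' g g
      rw [if_pos (IsConj.refl g)] at e2
      have e3 : ∑ χ : Cfsg.IrrCharacter G, χ.1 h * (starRingEnd ℂ) (χ.1 g)
          = ∑ χ : Cfsg.IrrCharacter G, χ.1 g * (starRingEnd ℂ) (χ.1 g) := by
        apply Finset.sum_congr rfl
        intro χ _
        by_cases hχ : ∀ x ∈ N, χ.1 x = χ.1 1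
        · rw [h1 χ hχ h hM hN' g hgM hgN]
        · push Not at hχ
          rw [h2 χ hχ, map_zero, mul_zero, mul_zero]
      rw [e3, e2] at e1
      have : (Nat.card (Subgroup.centralizer ({g} : Set G)) : ℂ) ≠ 0 := by
        exact_mod_cast Nat.card_pos.ne'
      exact this e1

end Cfsg.Agent.Lib.Helper8
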