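import Mathlib
import Cfsg.Prelude.Def_Characters
import Cfsg.Prelude.Def_Blocks
import Cfsg.Agent.Lib.Lead.Char16
import Cfsg.Agent.Lib.Helper7.Codeg
import Cfsg.Agent.Lib.Helper7.DefectZero

set_option autoImplicit false

namespace Cfsg.Agent.Lib.Helper8

open Cfsg.Agent.Lib.Lead Module

/-- The kernel of an irreducible character as a normal subgroup. -/
theorem exists_ker_subgroup {G : Type*} [Group G] [Finite G] (χ : Cfsg.IrrCharacter G) :
    ∃ N : Subgroup G, N.Normal ∧ ∀ g : G, g ∈ N ↔ χ.1 g = χ.1 1 := by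
  obtain ⟨n, ρ, hρ, hρχ⟩ := χ.2
  refine ⟨MonoidHom.ker ρ, MonoidHom.normal_ker ρ, ?_⟩
  intro g
  rw [MonoidHom.mem_ker, ← hρχ, Representation.char_one]
  exact (char_eq_deg_iff ρ g).symm

/-- `|ker χ| · χ(1)` divides `|G|`. -/
theorem ker_mul_deg_dvd {G : Type*} [Group G] [Finite G] (χ : Cfsg.IrrCharacter G) :
    Nat.card {g : G // χ.1 g = χ.1 1} * Cfsg.charDegree χ.1 ∣ Nat.card G := by
  obtain ⟨N, hNn, hN⟩ := exists_ker_subgroup χ
  haveI := hNn
  have hcard : Nat.card {g : G // χ.1 g = χ.1 1} = Nat.card N :=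
    Nat.card_congr (Equiv.subtypeEquivRight (fun g => (hN g).symm))
  obtain ⟨ψ, hψ⟩ := Cfsg.Agent.Lib.Helper7.Codeg.exists_irr_quot χ N (fun k hk => (hN k).mp hk)
  have hdeg : Cfsg.charDegree ψ.1 = Cfsg.charDegree χ.1 := by
    unfold Cfsg.charDegree
    have : ψ.1 1 = χ.1 1 := hψ 1
    rw [this]
  have h1 := (Cfsg.Agent.Lib.Helper7.DZ.charDegree_spec ψ).2.2
  rw [hdeg] at h1
  rw [hcard, Subgroup.card_eq_card_quotient_mul_card_subgroup N, mul_comm]
  exact Nat.mul_dvd_mul_right h1 _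

/-- The codegree divides the group order. -/
theorem codeg_dvd_card {G : Type*} [Group G] [Finite G] (χ : Cfsg.IrrCharacter G) :
    Nat.card G / (Nat.card {g : G // χ.1 g = χ.1 1} * Cfsg.charDegree χ.1) ∣ Nat.card G :=
  Nat.div_dvd_of_dvd (ker_mul_deg_dvd χ)

/-- The degree of the trivial character. -/
theorem charDegree_irrOne (G : Type*) [Group G] [Finite G] :
    Cfsg.charDegree (irrOne G).1 = 1 := by
  have h := (Cfsg.Agent.Lib.Helper7.DZ.charDegree_spec (irrOne G)).2.1
  have h1 : (irrOne G).1 1 = 1 := rfl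
  rw [h1] at h
  exact_mod_cast h.symm

/-- An irreducible character that is constant equal to its degree is trivial. -/
theorem eq_irrOne_of_const {G : Type*} [Group G] [Finite G] (χ : Cfsg.IrrCharacter G)
    (h : ∀ g : G, χ.1 g = χ.1 1) : χ = irrOne G := by
  classical
  haveI : Fintype G := Fintype.ofFinite G
  by_contra hne
  have h1 := irr_inner_ne hne
  unfold Cfsg.classInner at h1
  have hG := card_ne_zero_C (G := G)
  have h2 : ∑ g : G, χ.1 g * (starRingEnd ℂ) ((irrOne G).1 g) = (Nat.card G : ℂ) * χ.1 1 := by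
    have : ∀ g : G, χ.1 g * (starRingEnd ℂ) ((irrOne G).1 g) = χ.1 1 := by
      intro g
      have e : (irrOne G).1 g = 1 := rfl
      rw [e, map_one, mul_one, h g]
    rw [Finset.sum_congr rfl (fun g _ => this g), Finset.sum_const, Finset.card_univ,
      nsmul_eq_mul, Nat.card_eq_fintype_card]
  rw [h2] at h1
  have h3 := irr_deg_ne_zero χ
  rcases mul_eq_zero.mp h1 with h4 | h4
  · exact (inv_ne_zero hG) h4
  · rcases mul_eq_zero.mp h4 with h5 | h5
    · exact hG h5
    · exact h3 h5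

/-- Sum of squares of the degrees, in natural numbers. -/
theorem sum_charDegree_sq {G : Type*} [Group G] [Finite G] [Fintype (Cfsg.IrrCharacter G)] :
    ∑ χ : Cfsg.IrrCharacter G, Cfsg.charDegree χ.1 ^ 2 = Nat.card G := by
  have h := sum_deg_sq (G := G)
  rw [finsum_eq_sum_of_fintype] at h
  have h2 : ∀ χ : Cfsg.IrrCharacter G, (χ : G → ℂ) 1 ^ 2 = ((Cfsg.charDegree χ.1 ^ 2 : ℕ) : ℂ) := by
    intro χ
    rw [(Cfsg.Agent.Lib.Helper7.DZ.charDegree_spec χ).2.1]
    push_cast
    rfl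
  rw [Finset.sum_congr rfl (fun χ _ => h2 χ)] at h
  exact_mod_cast h

/-- For a prime dividing the order there is a nontrivial irreducible character of degree prime
to it. -/
theorem exists_nontrivial_pprime_deg {G : Type*} [Group G] [Finite G] (p : ℕ) (hp : p.Prime)
    (hpG : p ∣ Nat.card G) :
    ∃ χ : Cfsg.IrrCharacter G, χ ≠ irrOne G ∧ ¬ p ∣ Cfsg.charDegree χ.1 := by
  classical
  haveI : Fintype (Cfsg.IrrCharacter G) := Fintype.ofFinite _
  by_contra hcon
  push Not at hcon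
  have h1 := sum_charDegree_sq (G := G)
  have h2 := Finset.add_sum_erase Finset.univ
    (fun χ : Cfsg.IrrCharacter G => Cfsg.charDegree χ.1 ^ 2) (Finset.mem_univ (irrOne G))
  simp only [charDegree_irrOne] at h2
  rw [h1] at h2
  have h3 : p ∣ ∑ χ ∈ Finset.univ.erase (irrOne G), Cfsg.charDegree χ.1 ^ 2 := by
    apply Finset.dvd_sum
    intro χ hχ
    exact dvd_pow (hcon χ (Finset.ne_of_mem_erase hχ)) (by norm_num)
  have h4 : p ∣ 1 ^ 2 := by
    rw [← h2] at hpG
    exact (Nat.dvd_add_left h3).mp hpG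
  rw [one_pow] at h4
  exact hp.one_lt.ne' (Nat.dvd_one.mp h4)

/-- S4801. -/
theorem codeg_simple_dvd {S : Type*} [Group S] [Finite S] (hS : IsSimpleGroup S) {G : Type*}
    [Group G] [Finite G]
    (hsub : ∀ χ : Cfsg.IrrCharacter S, ∃ ψ : Cfsg.IrrCharacter G,
      (Nat.card S / (Nat.card {g : S // (χ : S → ℂ) g = (χ : S → ℂ) 1} *
        Cfsg.charDegree (χ : S → ℂ))) =
      (Nat.card G / (Nat.card {g : G // (ψ : G → ℂ) g = (ψ : G → ℂ) 1} *
        Cfsg.charDegree (ψ : G → ℂ)))) : Nat.card S ∣ Nat.card G := by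
  have hS0 : Nat.card S ≠ 0 := Nat.card_pos.ne'
  have hG0 : Nat.card G ≠ 0 := Nat.card_pos.ne'
  rw [← Nat.factorization_prime_le_iff_dvd hS0 hG0]
  intro p hp
  rw [← hp.pow_dvd_iff_le_factorization hG0]
  by_cases hpS : p ∣ Nat.card S
  · obtain ⟨χ, hχ1, hχp⟩ := exists_nontrivial_pprime_deg (G := S) p hp hpS
    obtain ⟨N, hNn, hN⟩ := exists_ker_subgroup χ
    have hNbot : N = ⊥ := by
      rcases hNn.eq_bot_or_eq_top with h | h
      · exact h
      · exfalso
        apply hχ1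
        apply eq_irrOne_of_const
        intro g
        exact (hN g).mp (by rw [h]; exact Subgroup.mem_top g)
    have hcard : Nat.card {g : S // χ.1 g = χ.1 1} = 1 := by
      rw [Nat.card_congr (Equiv.subtypeEquivRight (fun g => (hN g).symm)), hNbot,
        Subgroup.card_bot]
    obtain ⟨ψ, hψ⟩ := hsub χ
    have h1 := codeg_dvd_card ψ
    rw [← hψ, hcard, one_mul] at h1
    refine dvd_trans ?_ h1
    have hdd : Cfsg.charDegree χ.1 ∣ Nat.card S :=
      (Cfsg.Agent.Lib.Helper7.DZ.charDegree_spec χ).2.2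
    have h2 : p ^ (Nat.card S).factorization p ∣
        Cfsg.charDegree χ.1 * (Nat.card S / Cfsg.charDegree χ.1) := by
      rw [Nat.mul_div_cancel' hdd]
      exact Nat.ordProj_dvd _ _
    have hcop : Nat.Coprime (p ^ (Nat.card S).factorization p) (Cfsg.charDegree χ.1) :=
      Nat.Coprime.pow_left _ ((Nat.Prime.coprime_iff_not_dvd hp).mpr hχp)
    exact hcop.dvd_of_dvd_mul_left h2
  · rw [Nat.factorization_eq_zero_of_not_dvd hpS, pow_zero]
    exact one_dvd _

end Cfsg.Agent.Lib.Helper8
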