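import Mathlib
import Cfsg.Prelude.Def_Characters
import Cfsg.Prelude.Def_Transfer
import Cfsg.Agent.Lib.Helper8.Codeg8

set_option autoImplicit false

namespace Cfsg.Agent.Lib.Helper8

open Cfsg.Agent.Lib.Lead Module

/-- A sum supported on the identity and one further conjugacy class. -/
theorem two_class_sum {G : Type*} [Group G] [Fintype G] [DecidableEq G] (x : G) (hx : x ≠ 1)
    [DecidablePred (IsConj x)] (F : G → ℂ) (hF0 : ∀ g, g ≠ 1 → ¬ IsConj x g → F g = 0)
    (hFc : ∀ g, IsConj x g → F g = F x) :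
    ∑ g : G, F g = F 1 + ((Finset.univ.filter (fun g => IsConj x g)).card : ℂ) * F x := by
  have h1 : (1 : G) ∉ Finset.univ.filter (fun g => IsConj x g) := by
    intro h
    have := (Finset.mem_filter.mp h).2
    exact hx (isConj_one_left.mp this)
  have h2 : ∑ g ∈ insert (1 : G) (Finset.univ.filter (fun g => IsConj x g)), F g = ∑ g : G, F g := by
    apply Finset.sum_subset (Finset.subset_univ _)
    intro g _ hg
    rw [Finset.mem_insert, Finset.mem_filter] at hg
    push Not at hg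
    exact hF0 g hg.1 (fun h => hg.2 (Finset.mem_univ _) h)
  rw [← h2, Finset.sum_insert h1]
  congr 1
  rw [Finset.sum_congr rfl (fun g hg => hFc g (Finset.mem_filter.mp hg).2), Finset.sum_const,
    nsmul_eq_mul]

/-- Extract the second class from the "exactly two classes" hypothesis. -/
theorem gagola_two_classes {G : Type*} [Group G] [Finite G] (χ : Cfsg.IrrCharacter G)
    (hχ : Nat.card {C : ConjClasses G // ∃ g ∈ C.carrier, (χ : G → ℂ) g ≠ 0} = 2) :
    ∃ x : G, x ≠ 1 ∧ χ.1 x ≠ 0 ∧ ∀ g : G, χ.1 g ≠ 0 → g = 1 ∨ IsConj x g := by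
  have h1 : ∃ g ∈ (ConjClasses.mk (1 : G)).carrier, χ.1 g ≠ 0 :=
    ⟨1, ConjClasses.mem_carrier_mk, irr_deg_ne_zero χ⟩
  obtain ⟨⟨C, x, hxC, hx0⟩, hc₂, huniq⟩ := (Nat.card_eq_two_iff'
    (⟨ConjClasses.mk 1, h1⟩ : {C : ConjClasses G // ∃ g ∈ C.carrier, χ.1 g ≠ 0})).mp hχ
  have hxC' : ConjClasses.mk x = C := ConjClasses.mem_carrier_iff_mk_eq.mp hxC
  refine ⟨x, ?_, hx0, ?_⟩
  · intro hx
    apply hc₂
    apply Subtype.ext
    show C = ConjClasses.mk 1
    rw [← hxC', hx]
  · intro g hg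
    by_cases hy : (⟨ConjClasses.mk g, ⟨g, ConjClasses.mem_carrier_mk, hg⟩⟩ :
        {C : ConjClasses G // ∃ g ∈ C.carrier, χ.1 g ≠ 0}) = ⟨ConjClasses.mk 1, h1⟩
    · left
      have h2 : ConjClasses.mk g = ConjClasses.mk 1 := congrArg Subtype.val hy
      exact isConj_one_left.mp (ConjClasses.mk_eq_mk_iff_isConj.mp h2)
    · right
      have h2 := huniq _ hy
      have h3 : ConjClasses.mk g = C := congrArg Subtype.val h2
      rw [← hxC'] at h3
      exact (ConjClasses.mk_eq_mk_iff_isConj.mp h3).symm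

/-- Basic structure of a character nonzero on exactly two classes. -/
theorem gagola_struct {G : Type*} [Group G] [Finite G] (hG : 2 < Nat.card G)
    (χ : Cfsg.IrrCharacter G) (x : G) (hx1 : x ≠ 1)
    (hsupp : ∀ g : G, χ.1 g ≠ 0 → g = 1 ∨ IsConj x g) :
    χ ≠ irrOne G ∧ (∀ ψ : Cfsg.IrrCharacter G, ψ ≠ χ → ψ.1 x = ψ.1 1) ∧ χ.1 x ≠ χ.1 1 := by
  classical
  haveI : Fintype G := Fintype.ofFinite G
  have hGc := card_ne_zero_C (G := G)
  have hsum : ∀ ψ : Cfsg.IrrCharacter G, ∑ g : G, χ.1 g * (starRingEnd ℂ) (ψ.1 g)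
      = χ.1 1 * (starRingEnd ℂ) (ψ.1 1) + ((Finset.univ.filter (fun g => IsConj x g)).card : ℂ)
        * (χ.1 x * (starRingEnd ℂ) (ψ.1 x)) := by
    intro ψ
    apply two_class_sum x hx1 (fun g => χ.1 g * (starRingEnd ℂ) (ψ.1 g))
    · intro g hg1 hgx
      have : χ.1 g = 0 := by
        by_contra h0
        rcases hsupp g h0 with h | h
        · exact hg1 h
        · exact hgx h
      show χ.1 g * (starRingEnd ℂ) (ψ.1 g) = 0
      rw [this, zero_mul]
    · intro g hg
      show χ.1 g * (starRingEnd ℂ) (ψ.1 g) = χ.1 x * (starRingEnd ℂ) (ψ.1 x)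
      rw [isClassFunction_conj_eq (isClassFunction_of_irr χ) hg,
        isClassFunction_conj_eq (isClassFunction_of_irr ψ) hg]
  have hinner : ∀ ψ : Cfsg.IrrCharacter G, ψ ≠ χ →
      χ.1 1 * (starRingEnd ℂ) (ψ.1 1) + ((Finset.univ.filter (fun g => IsConj x g)).card : ℂ)
        * (χ.1 x * (starRingEnd ℂ) (ψ.1 x)) = 0 := by
    intro ψ hψ
    rw [← hsum ψ]
    have h1 := irr_inner_ne (Ne.symm hψ)
    unfold Cfsg.classInner at h1
    rcases mul_eq_zero.mp h1 with h | h
    · exact absurd h (inv_ne_zero hGc)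
    · exact h
  have hne1 : χ ≠ irrOne G := by
    intro h
    -- then every element is 1 or conjugate to x
    have hall : ∀ g : G, g = 1 ∨ IsConj x g := by
      intro g
      apply hsupp g
      rw [h]
      show (1 : ℂ) ≠ 0
      exact one_ne_zero
    have hcard : Nat.card G = 1 + (Finset.univ.filter (fun g => IsConj x g)).card := by
      have h1 : (Finset.univ : Finset G) = insert 1 (Finset.univ.filter (fun g => IsConj x g)) := by
        ext g
        simp only [Finset.mem_univ, Finset.mem_insert, Finset.mem_filter, true_and, true_iff]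
        exact hall g
      have h2 : (1 : G) ∉ Finset.univ.filter (fun g => IsConj x g) := by
        intro h
        exact hx1 (isConj_one_left.mp (Finset.mem_filter.mp h).2)
      have h3 := congrArg Finset.card h1
      rw [Finset.card_insert_of_notMem h2, Finset.card_univ] at h3
      rw [Nat.card_eq_fintype_card, h3, add_comm]
    have hdvd : (Finset.univ.filter (fun g => IsConj x g)).card ∣ Nat.card G := by
      have h3 := card_conj_mul_card_centralizer x
      have h4 : Nat.card {y : G // IsConj x y} = (Finset.univ.filter (fun g => IsConj x g)).card := by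
        rw [Nat.card_eq_fintype_card, Fintype.card_subtype]
      rw [h4] at h3
      exact Dvd.intro _ h3
    rw [hcard] at hdvd
    have h5 : (Finset.univ.filter (fun g => IsConj x g)).card ∣ 1 :=
      (Nat.dvd_add_left (dvd_refl _)).mp hdvd
    have h6 := Nat.dvd_one.mp h5
    rw [h6] at hcard
    omega
  have hb := hinner (irrOne G) (Ne.symm hne1)
  have hb' : χ.1 1 + ((Finset.univ.filter (fun g => IsConj x g)).card : ℂ) * χ.1 x = 0 := by
    have e1 : (irrOne G).1 1 = 1 := rfl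
    have e2 : (irrOne G).1 x = 1 := rfl
    rw [e1, e2, map_one, mul_one, mul_one] at hb
    exact hb
  have hχ1 := irr_deg_ne_zero χ
  refine ⟨hne1, ?_, ?_⟩
  · intro ψ hψ
    have h1 := hinner ψ hψ
    have h2 : χ.1 1 * ((starRingEnd ℂ) (ψ.1 1) - (starRingEnd ℂ) (ψ.1 x)) = 0 := by
      linear_combination h1 - (starRingEnd ℂ) (ψ.1 x) * hb'
    rcases mul_eq_zero.mp h2 with h | h
    · exact absurd h hχ1
    · have h3 : (starRingEnd ℂ) (ψ.1 x) = (starRingEnd ℂ) (ψ.1 1) := (sub_eq_zero.mp h).symm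
      exact (starRingEnd ℂ).injective h3
  · intro h
    rw [h] at hb'
    have h2 : ((1 + (Finset.univ.filter (fun g => IsConj x g)).card : ℕ) : ℂ) * χ.1 1 = 0 := by
      push_cast
      linear_combination hb'
    rcases mul_eq_zero.mp h2 with h3 | h3
    · have : (1 + (Finset.univ.filter (fun g => IsConj x g)).card : ℕ) = 0 := by exact_mod_cast h3
      omega
    · exact hχ1 h3

/-- A character nonzero on exactly two classes is faithful. -/
theorem gagola_faithful {G : Type*} [Group G] [Finite G] (hG : 2 < Nat.card G)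
    (χ : Cfsg.IrrCharacter G)
    (hχ : Nat.card {C : ConjClasses G // ∃ g ∈ C.carrier, (χ : G → ℂ) g ≠ 0} = 2) :
    ∀ g : G, χ.1 g = χ.1 1 → g = 1 := by
  obtain ⟨x, hx1, hx0, hsupp⟩ := gagola_two_classes χ hχ
  obtain ⟨-, -, h2⟩ := gagola_struct hG χ x hx1 hsupp
  intro g hg
  have hg0 : χ.1 g ≠ 0 := by
    rw [hg]
    exact irr_deg_ne_zero χ
  rcases hsupp g hg0 with h | h
  · exact h
  · exfalso
    apply h2
    rw [isClassFunction_conj_eq (isClassFunction_of_irr χ) h, hg]

/-- S4836. -/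
theorem gagola_unique {G : Type*} [Group G] [Finite G] (hG : 2 < Nat.card G)
    (χ : Cfsg.IrrCharacter G)
    (hχ : Nat.card {C : ConjClasses G // ∃ g ∈ C.carrier, (χ : G → ℂ) g ≠ 0} = 2) :
    (∀ g : G, (χ : G → ℂ) g = (χ : G → ℂ) 1 → g = 1) ∧
      (∀ ψ : Cfsg.IrrCharacter G, (∀ g : G, (ψ : G → ℂ) g = (ψ : G → ℂ) 1 → g = 1) → ψ = χ) ∧
      (∀ ψ : Cfsg.IrrCharacter G,
        Nat.card {C : ConjClasses G // ∃ g ∈ C.carrier, (ψ : G → ℂ) g ≠ 0} = 2 → ψ = χ) := by
  obtain ⟨x, hx1, hx0, hsupp⟩ := gagola_two_classes χ hχ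
  obtain ⟨-, h1, h2⟩ := gagola_struct hG χ x hx1 hsupp
  have hpart2 : ∀ ψ : Cfsg.IrrCharacter G, (∀ g : G, ψ.1 g = ψ.1 1 → g = 1) → ψ = χ := by
    intro ψ hψ
    by_contra hne
    exact hx1 (hψ x (h1 ψ hne))
  exact ⟨gagola_faithful hG χ hχ, hpart2, fun ψ hψ => hpart2 ψ (gagola_faithful hG ψ hψ)⟩

end Cfsg.Agent.Lib.Helper8
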