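import Mathlib
import Cfsg.Agent.Lib.Helper8.Gagola

set_option autoImplicit false

namespace Cfsg.Agent.Lib.Helper8

open Cfsg.Agent.Lib.Lead Module

/-- Multiplying by an element of the kernel does not change the character value. -/
theorem irr_mul_ker {G : Type*} [Group G] [Finite G] (ψ : Cfsg.IrrCharacter G) (g k : G)
    (h : ψ.1 g = ψ.1 1) : ψ.1 (k * g) = ψ.1 k := by
  obtain ⟨n, ρ, hρ, hρχ⟩ := ψ.2
  rw [← hρχ] at h ⊢
  rw [Representation.char_one] at h
  have h1 := (char_eq_deg_iff ρ g).mp h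
  unfold Representation.character
  rw [map_mul, h1, mul_one]

/-- S4835. -/
theorem gagola_minimal {G : Type*} [Group G] [Finite G] (hG : 2 < Nat.card G)
    (χ : Cfsg.IrrCharacter G)
    (hχ : Nat.card {C : ConjClasses G // ∃ g ∈ C.carrier, (χ : G → ℂ) g ≠ 0} = 2) :
    ∃ N : Subgroup G, N.Normal ∧ N ≠ ⊥ ∧ (∀ K : Subgroup G, K.Normal → K ≠ ⊥ → N ≤ K) ∧
      (∃ p : ℕ, p.Prime ∧ Cfsg.IsElementaryAbelian p N) ∧
      (∀ g : G, (χ : G → ℂ) g ≠ 0 ↔ g ∈ N) ∧
      (∀ x ∈ N, ∀ y ∈ N, x ≠ 1 → y ≠ 1 → ∃ g : G, g * x * g⁻¹ = y) := by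
  classical
  haveI : Fintype G := Fintype.ofFinite G
  haveI : Fintype (Cfsg.IrrCharacter G) := Fintype.ofFinite _
  obtain ⟨x, hx1, hx0, hsupp⟩ := gagola_two_classes χ hχ
  obtain ⟨hne1, h1, h2⟩ := gagola_struct hG χ x hx1 hsupp
  choose K hKn hK using fun ψ : Cfsg.IrrCharacter G => exists_ker_subgroup ψ
  obtain ⟨N, hNdef⟩ : ∃ N : Subgroup G,
      N = ⨅ ψ : {ψ : Cfsg.IrrCharacter G // ψ ≠ χ}, K ψ.1 := ⟨_, rfl⟩
  have hNmem : ∀ g, g ∈ N ↔ ∀ ψ : Cfsg.IrrCharacter G, ψ ≠ χ → ψ.1 g = ψ.1 1 := by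
    intro g
    rw [hNdef, Subgroup.mem_iInf]
    constructor
    · intro h ψ hψ
      exact (hK ψ g).mp (h ⟨ψ, hψ⟩)
    · intro h ψ
      exact (hK ψ.1 g).mpr (h ψ.1 ψ.2)
  have hNn : N.Normal := by
    rw [hNdef]
    exact Subgroup.normal_iInf_normal (fun ψ => hKn ψ.1)
  have hxN : x ∈ N := (hNmem x).mpr h1
  have hN0 : N ≠ ⊥ := by
    intro h
    rw [h] at hxN
    exact hx1 (Subgroup.mem_bot.mp hxN)
  have hconjN : ∀ g, IsConj x g → g ∈ N := by
    intro g hg
    obtain ⟨c, hc⟩ := isConj_iff.mp hg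
    rw [← hc]
    exact hNn.conj_mem x hxN c
  have hN_iff : ∀ g : G, χ.1 g ≠ 0 ↔ g ∈ N := by
    intro g
    constructor
    · intro hg
      rcases hsupp g hg with h | h
      · rw [h]
        exact N.one_mem
      · exact hconjN g h
    · intro hgN hg0
      have hg1 : g ≠ 1 := by
        intro h
        rw [h] at hg0
        exact irr_deg_ne_zero χ hg0
      have e1 := col_orth' g 1
      rw [if_neg (fun hc => hg1 (isConj_one_left.mp hc))] at e1
      have e2 := Finset.add_sum_erase Finset.univ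
        (fun ψ : Cfsg.IrrCharacter G => ψ.1 g * (starRingEnd ℂ) (ψ.1 1)) (Finset.mem_univ χ)
      rw [e1] at e2
      simp only [hg0, zero_mul, zero_add] at e2
      have e3 : ∑ ψ ∈ Finset.univ.erase χ, ψ.1 g * (starRingEnd ℂ) (ψ.1 1)
          = ((∑ ψ ∈ Finset.univ.erase χ, Cfsg.charDegree ψ.1 ^ 2 : ℕ) : ℂ) := by
        rw [Nat.cast_sum]
        apply Finset.sum_congr rfl
        intro ψ hψ
        rw [(hNmem g).mp hgN ψ (Finset.ne_of_mem_erase hψ), irr_conj_one,
          (Cfsg.Agent.Lib.Helper7.DZ.charDegree_spec ψ).2.1]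
        push_cast
        ring
      rw [e3] at e2
      have e4 : ∑ ψ ∈ Finset.univ.erase χ, Cfsg.charDegree ψ.1 ^ 2 = 0 := by exact_mod_cast e2
      have e5 := (Finset.sum_eq_zero_iff.mp e4) (irrOne G)
        (Finset.mem_erase.mpr ⟨Ne.symm hne1, Finset.mem_univ _⟩)
      rw [charDegree_irrOne] at e5
      norm_num at e5
  have hmin : ∀ K' : Subgroup G, K'.Normal → K' ≠ ⊥ → N ≤ K' := by
    intro K' hK'n hK'0
    have hxK : x ∈ K' := by
      by_cases hle : K' ≤ N
      · obtain ⟨⟨k, hk⟩, hk1⟩ := (Subgroup.ne_bot_iff_exists_ne_one).mp hK'0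
        have hk1' : k ≠ 1 := fun h => hk1 (Subtype.ext h)
        have hkN : k ∈ N := hle hk
        rcases hsupp k ((hN_iff k).mpr hkN) with h | h
        · exact absurd h hk1'
        · obtain ⟨c, hc⟩ := isConj_iff.mp h
          have e : x = c⁻¹ * k * c⁻¹⁻¹ := by
            rw [← hc]
            group
          rw [e]
          exact hK'n.conj_mem k hk c⁻¹
      · obtain ⟨k, hk, hkN⟩ := SetLike.not_le_iff_exists.mp hle
        have hconj : IsConj k (k * x) := by
          rw [isConj_iff_irr]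
          intro ψ
          by_cases hψ : ψ = χ
          · rw [hψ]
            have e1 : χ.1 k = 0 := by
              by_contra h
              exact hkN ((hN_iff k).mp h)
            have e2 : χ.1 (k * x) = 0 := by
              by_contra h
              have := (hN_iff (k * x)).mp h
              exact hkN ((Subgroup.mul_mem_cancel_right N hxN).mp this)
            rw [e1, e2]
          · exact (irr_mul_ker ψ x k (h1 ψ hψ)).symm
        obtain ⟨c, hc⟩ := isConj_iff.mp hconj
        have h3 : k * x ∈ K' := by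
          rw [← hc]
          exact hK'n.conj_mem k hk c
        exact (Subgroup.mul_mem_cancel_left K' hk).mp h3
    intro n hn
    rcases hsupp n ((hN_iff n).mpr hn) with h | h
    · rw [h]
      exact K'.one_mem
    · obtain ⟨c, hc⟩ := isConj_iff.mp h
      rw [← hc]
      exact hK'n.conj_mem x hxK c
  have hord : orderOf x ≠ 1 := fun h => hx1 (orderOf_eq_one_iff.mp h)
  have hpos : 0 < orderOf x := orderOf_pos x
  obtain ⟨p, hpdef⟩ : ∃ p, p = (orderOf x).minFac := ⟨_, rfl⟩
  have hp : p.Prime := by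
    rw [hpdef]
    exact Nat.minFac_prime hord
  have hpd : p ∣ orderOf x := by
    rw [hpdef]
    exact Nat.minFac_dvd _
  have hy1 : x ^ (orderOf x / p) ≠ 1 := by
    intro h
    have h3 := orderOf_dvd_of_pow_eq_one h
    have h4 : orderOf x / p < orderOf x := Nat.div_lt_self hpos hp.one_lt
    have h5 : 0 < orderOf x / p := Nat.div_pos (Nat.le_of_dvd hpos hpd) hp.pos
    exact absurd (Nat.le_of_dvd h5 h3) (not_le.mpr h4)
  have hyp : (x ^ (orderOf x / p)) ^ p = 1 := by
    rw [← pow_mul, Nat.div_mul_cancel hpd, pow_orderOf_eq_one]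
  have hyN : x ^ (orderOf x / p) ∈ N := N.pow_mem hxN _
  have hxp : x ^ p = 1 := by
    rcases hsupp _ ((hN_iff _).mpr hyN) with h | h
    · exact absurd h hy1
    · obtain ⟨c, hc⟩ := isConj_iff.mp h
      have h3 : (c * x * c⁻¹) ^ p = 1 := by
        rw [hc]
        exact hyp
      rw [conj_pow] at h3
      have e : x ^ p = c⁻¹ * (c * x ^ p * c⁻¹) * c := by group
      rw [e, h3]
      group
  have hexp : ∀ a ∈ N, a ^ p = 1 := by
    intro a ha
    rcases hsupp a ((hN_iff a).mpr ha) with h | h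
    · rw [h, one_pow]
    · obtain ⟨c, hc⟩ := isConj_iff.mp h
      rw [← hc, conj_pow, hxp]
      group
  haveI : Fact p.Prime := ⟨hp⟩
  have hNp : IsPGroup p N := by
    intro a
    refine ⟨1, ?_⟩
    rw [pow_one]
    apply Subtype.ext
    rw [Subgroup.coe_pow]
    exact hexp a.1 a.2
  haveI : Nontrivial N := (Subgroup.nontrivial_iff_ne_bot N).mpr hN0
  haveI := hNp.center_nontrivial
  obtain ⟨⟨z, hz⟩, hz1⟩ := exists_ne (1 : Subgroup.center N)
  have hzc : ∀ b ∈ N, (z : G) * b = b * (z : G) := by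
    intro b hb
    have := (Subgroup.mem_center_iff.mp hz) ⟨b, hb⟩
    exact (congrArg Subtype.val this).symm
  have hz1' : (z : G) ≠ 1 := fun h => hz1 (Subtype.ext (Subtype.ext h))
  have hcentral : ∀ a ∈ N, ∀ b ∈ N, a * b = b * a := by
    intro a ha b hb
    rcases hsupp a ((hN_iff a).mpr ha) with h | h
    · rw [h, one_mul, mul_one]
    · rcases hsupp (z : G) ((hN_iff _).mpr z.2) with h' | h'
      · exact absurd h' hz1'
      · have haz : IsConj (z : G) a := h'.symm.trans h
        obtain ⟨u, hu⟩ := isConj_iff.mp haz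
        have hb' : u⁻¹ * b * u ∈ N := by
          have := hNn.conj_mem b hb u⁻¹
          simpa using this
        have h5 := hzc _ hb'
        rw [← hu]
        calc u * (z : G) * u⁻¹ * b = u * ((z : G) * (u⁻¹ * b * u)) * u⁻¹ := by group
          _ = u * ((u⁻¹ * b * u) * (z : G)) * u⁻¹ := by rw [h5]
          _ = b * (u * (z : G) * u⁻¹) := by group
  refine ⟨N, hNn, hN0, hmin,
    ⟨p, hp, ⟨⟨⟨fun a b => Subtype.ext (hcentral a.1 a.2 b.1 b.2)⟩⟩, hexp⟩⟩, hN_iff, ?_⟩
  intro a ha b hb ha1 hb1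
  rcases hsupp a ((hN_iff a).mpr ha) with h | h
  · exact absurd h ha1
  · rcases hsupp b ((hN_iff b).mpr hb) with h' | h'
    · exact absurd h' hb1
    · exact isConj_iff.mp (h.symm.trans h')

end Cfsg.Agent.Lib.Helper8
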