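import Mathlib
import Cfsg.Agent.Lib.Lead.Galois
import Cfsg.Agent.Lib.Lead.Char16
import Cfsg.Agent.Lib.Helper8.ChrB
import Cfsg.Agent.Lib.Helper8.Gagola2
import Cfsg.Agent.Lib.Helper8.Codeg8

set_option autoImplicit false

namespace Cfsg.Agent.Lib.Helper8

open Cfsg.Agent.Lib.Lead Module Representation

/-- AM-GM bound (first power) for character values on a set of nonvanishing elements closed
under coprime powers -/
theorem amgm_sum_norm {G : Type*} [Group G] [Fintype G] [DecidableEq G] {V : Type*}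
    [AddCommGroup V]
    [Module ℂ V] [FiniteDimensional ℂ V] (ρ : Representation ℂ G V) (A : Finset G)
    (hA0 : ∀ g ∈ A, ρ.character g ≠ 0)
    (hA : ∀ m : ℕ, m.Coprime (Nat.card G) → ∀ g ∈ A, g ^ m ∈ A) :
    (A.card : ℝ) ≤ ∑ g ∈ A, ‖ρ.character g‖ := by
  classical
  haveI : NeZero (Nat.card G) := ⟨Nat.card_pos.ne'⟩
  let φ₀ : CyclotomicField (Nat.card G) ℚ →ₐ[ℚ] ℂ := IsAlgClosed.lift
  have hgN : ∀ g : G, g ^ Nat.card G = 1 := fun g => pow_card_eq_one'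
  choose x hx1 hx2 hx3 using fun g => char_galois (Nat.card G) ρ hgN φ₀ g
  haveI : Nonempty (CyclotomicField (Nat.card G) ℚ →ₐ[ℚ] ℂ) := ⟨φ₀⟩
  have hE : ∀ (inst : Fintype (CyclotomicField (Nat.card G) ℚ →ₐ[ℚ] ℂ)) (g : G), g ∈ A →
      (Fintype.card (CyclotomicField (Nat.card G) ℚ →ₐ[ℚ] ℂ) : ℝ)
        ≤ ∑ σ : CyclotomicField (Nat.card G) ℚ →ₐ[ℚ] ℂ, ‖σ (x g)‖ := by
    intro inst g hgA
    have hxne : x g ≠ 0 := by
      intro h
      apply hA0 g hgA
      rw [← hx1 g, h, map_zero]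
    have hnorm_int : IsIntegral ℤ (Algebra.norm ℚ (x g)) := Algebra.isIntegral_norm ℚ (hx2 g)
    obtain ⟨k, hk⟩ := IsIntegrallyClosed.isIntegral_iff.mp hnorm_int
    have hk0 : k ≠ 0 := by
      rintro rfl
      rw [map_zero] at hk
      exact hxne (Algebra.norm_eq_zero_iff.mp hk.symm)
    have hprod : (algebraMap ℚ ℂ) (Algebra.norm ℚ (x g))
        = ∏ σ : CyclotomicField (Nat.card G) ℚ →ₐ[ℚ] ℂ, σ (x g) := by
      rw [Algebra.norm_eq_prod_embeddings ℚ ℂ (x g)]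
      exact Finset.prod_congr (Finset.ext (by simp)) (fun _ _ => rfl)
    have h1 : (1 : ℝ) ≤ ∏ σ : CyclotomicField (Nat.card G) ℚ →ₐ[ℚ] ℂ, ‖σ (x g)‖ := by
      rw [← norm_prod, ← hprod, ← hk]
      have h2 : ‖(algebraMap ℚ ℂ) ((algebraMap ℤ ℚ) k)‖ = |(k : ℝ)| := by
        simp
      rw [h2]
      exact_mod_cast Int.one_le_abs hk0
    have hcard : (0 : ℝ) < Fintype.card (CyclotomicField (Nat.card G) ℚ →ₐ[ℚ] ℂ) := by
      exact_mod_cast Fintype.card_pos
    have hamgm := Real.geom_mean_le_arith_mean Finset.univ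
      (fun _ : CyclotomicField (Nat.card G) ℚ →ₐ[ℚ] ℂ => (1 : ℝ)) (fun σ => ‖σ (x g)‖)
      (fun _ _ => zero_le_one) (by
        rw [Finset.sum_const, Finset.card_univ, nsmul_eq_mul, mul_one]; exact hcard)
      (fun _ _ => norm_nonneg _)
    simp only [Real.rpow_one, one_mul, Finset.sum_const, Finset.card_univ, nsmul_eq_mul,
      mul_one] at hamgm
    have h2 : (1 : ℝ) ≤ (∏ σ : CyclotomicField (Nat.card G) ℚ →ₐ[ℚ] ℂ, ‖σ (x g)‖)
        ^ ((Fintype.card (CyclotomicField (Nat.card G) ℚ →ₐ[ℚ] ℂ) : ℝ))⁻¹ :=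
      Real.one_le_rpow h1 (inv_nonneg.mpr hcard.le)
    have h3 := h2.trans hamgm
    rwa [le_div_iff₀ hcard, one_mul] at h3
  haveI inst : Fintype (CyclotomicField (Nat.card G) ℚ →ₐ[ℚ] ℂ) := Fintype.ofFinite _
  have hcard : (0 : ℝ) < Fintype.card (CyclotomicField (Nat.card G) ℚ →ₐ[ℚ] ℂ) := by
    exact_mod_cast Fintype.card_pos
  have hσ : ∀ σ : CyclotomicField (Nat.card G) ℚ →ₐ[ℚ] ℂ,
      ∑ g ∈ A, ‖σ (x g)‖ = ∑ g ∈ A, ‖ρ.character g‖ := by
    intro σ
    obtain ⟨m, hm, hσm⟩ := cyc_embed_pow (Nat.card G) φ₀ σ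
    have h1 : ∀ g : G, ‖σ (x g)‖ = ‖ρ.character (g ^ m)‖ := by
      intro g
      rw [hx3 g σ m hσm]
    rw [Finset.sum_congr rfl (fun g _ => h1 g)]
    have hm' : (Nat.card G).Coprime m := hm.symm
    have hinj : Function.Injective (fun g : G => g ^ m) := (powCoprime hm').injective
    have himg : A.image (fun g => g ^ m) = A := by
      apply Finset.eq_of_subset_of_card_le
      · intro y hy
        obtain ⟨g, hg, rfl⟩ := Finset.mem_image.mp hy
        exact hA m hm g hg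
      · rw [Finset.card_image_of_injective _ hinj]
    conv_rhs => rw [← himg]
    rw [Finset.sum_image (fun a _ b _ h => hinj h)]
  have h1 : ∑ g ∈ A, ∑ σ : CyclotomicField (Nat.card G) ℚ →ₐ[ℚ] ℂ, ‖σ (x g)‖
      = (Fintype.card (CyclotomicField (Nat.card G) ℚ →ₐ[ℚ] ℂ) : ℝ)
        * ∑ g ∈ A, ‖ρ.character g‖ := by
    rw [Finset.sum_comm, Finset.sum_congr rfl (fun σ _ => hσ σ), Finset.sum_const,
      Finset.card_univ, nsmul_eq_mul]
  have h2 : ∑ g ∈ A, (Fintype.card (CyclotomicField (Nat.card G) ℚ →ₐ[ℚ] ℂ) : ℝ)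
      ≤ ∑ g ∈ A, ∑ σ : CyclotomicField (Nat.card G) ℚ →ₐ[ℚ] ℂ, ‖σ (x g)‖ :=
    Finset.sum_le_sum (fun g hg => hE inst g hg)
  rw [Finset.sum_const, nsmul_eq_mul, h1, mul_comm] at h2
  exact le_of_mul_le_mul_left h2 hcard

theorem cosetAvg_class {G : Type*} [Group G] (N : Subgroup G) [N.Normal]
    [Fintype N] (χ : Cfsg.IrrCharacter G) (Θ : G → ℂ)
    (hΘ : ∀ g, Θ g = (Nat.card N : ℂ)⁻¹
      * ∑ n : N, χ.1 (g * n) * (starRingEnd ℂ) (χ.1 (g * n))) :
    Cfsg.IsClassFunction G Θ := by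
  intro g h
  rw [hΘ, hΘ]
  congr 1
  refine Fintype.sum_equiv (MulAut.conjNormal h⁻¹ : N ≃* N).toEquiv _ _ (fun n => ?_)
  have e : h * g * h⁻¹ * (n : G)
      = h * (g * ((MulAut.conjNormal h⁻¹ : N ≃* N) n : N)) * h⁻¹ := by
    rw [MulAut.conjNormal_apply]
    group
  show χ.1 (h * g * h⁻¹ * (n : G)) * _ = χ.1 (g * ↑((MulAut.conjNormal h⁻¹ : N ≃* N) n)) * _
  rw [e, isClassFunction_of_irr χ _ h]
  rfl

theorem cosetAvg_inner {G : Type*} [Group G] [Fintype G] (N : Subgroup G) [N.Normal]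
    [Fintype N] (χ : Cfsg.IrrCharacter G) (Θ : G → ℂ)
    (hΘ : ∀ g, Θ g = (Nat.card N : ℂ)⁻¹
      * ∑ n : N, χ.1 (g * n) * (starRingEnd ℂ) (χ.1 (g * n)))
    (ψ : Cfsg.IrrCharacter G) :
    (¬ (∀ x ∈ N, ψ.1 x = ψ.1 1) → Cfsg.classInner Θ ψ.1 = 0) ∧
    ((∀ x ∈ N, ψ.1 x = ψ.1 1) → Cfsg.classInner Θ ψ.1
        = Cfsg.classInner (fun g => χ.1 g * (starRingEnd ℂ) (χ.1 g)) ψ.1) := by
  classical
  have hNc : (Nat.card N : ℂ) ≠ 0 := card_ne_zero_C
  have key : ∑ g : G, Θ g * (starRingEnd ℂ) (ψ.1 g)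
      = (Nat.card N : ℂ)⁻¹ * ∑ y : G, (χ.1 y * (starRingEnd ℂ) (χ.1 y))
          * (starRingEnd ℂ) (∑ n : N, ψ.1 (y * (n : G)⁻¹)) := by
    have h1 : ∀ g : G, Θ g * (starRingEnd ℂ) (ψ.1 g)
        = (Nat.card N : ℂ)⁻¹ * ∑ n : N, χ.1 (g * n) * (starRingEnd ℂ) (χ.1 (g * n))
            * (starRingEnd ℂ) (ψ.1 g) := by
      intro g
      rw [hΘ, mul_assoc, Finset.sum_mul]
    rw [Finset.sum_congr rfl (fun g _ => h1 g), ← Finset.mul_sum, Finset.sum_comm]
    congr 1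
    have h2 : ∀ n : N, ∑ g : G, χ.1 (g * n) * (starRingEnd ℂ) (χ.1 (g * n))
          * (starRingEnd ℂ) (ψ.1 g)
        = ∑ y : G, χ.1 y * (starRingEnd ℂ) (χ.1 y)
          * (starRingEnd ℂ) (ψ.1 (y * (n : G)⁻¹)) := by
      intro n
      refine Fintype.sum_equiv (Equiv.mulRight (n : G)) _ _ (fun g => ?_)
      simp only [Equiv.coe_mulRight, mul_inv_cancel_right]
    rw [Finset.sum_congr rfl (fun n _ => h2 n), Finset.sum_comm]
    refine Finset.sum_congr rfl (fun y _ => ?_)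
    rw [map_sum, Finset.mul_sum]
  constructor
  · intro hψ
    push Not at hψ
    obtain ⟨x0, hx0N, hx0⟩ := hψ
    have hz : ∀ y : G, ∑ n : N, ψ.1 (y * (n : G)⁻¹) = 0 := by
      intro y
      have h3 := sum_normal_coset_eq_zero N ψ ⟨x0, hx0N, hx0⟩ y
      rw [← h3]
      have h4 : ∑ n : N, ψ.1 (y * (n : G)⁻¹) = ∑ n : N, ψ.1 (y * (n : G)) := by
        refine Fintype.sum_equiv (Equiv.inv N) _ _ (fun n => ?_)
        simp
      rw [h4]
      have h5 : ∑ x : G, (if x ∈ N then (1 : ℂ) else 0) * ψ.1 (y * x)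
          = ∑ x ∈ Finset.univ.filter (· ∈ N), ψ.1 (y * x) := by
        rw [Finset.sum_filter]
        refine Finset.sum_congr rfl (fun x _ => ?_)
        split_ifs <;> simp
      rw [h5]
      exact (Finset.sum_subtype (Finset.univ.filter (· ∈ N)) (fun x => by simp)
        (fun x => ψ.1 (y * x))).symm
    unfold Cfsg.classInner
    rw [key]
    simp only [hz, map_zero, mul_zero, Finset.sum_const_zero]
  · intro hψ
    have hc : ∀ y : G, ∑ n : N, ψ.1 (y * (n : G)⁻¹) = (Nat.card N : ℂ) * ψ.1 y := by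
      intro y
      have : ∀ n : N, ψ.1 (y * (n : G)⁻¹) = ψ.1 y := by
        intro n
        exact irr_mul_ker ψ _ y (hψ _ (N.inv_mem n.2))
      rw [Finset.sum_congr rfl (fun n _ => this n), Finset.sum_const, Finset.card_univ,
        nsmul_eq_mul, Nat.card_eq_fintype_card]
    unfold Cfsg.classInner
    rw [key]
    congr 1
    simp only [hc, map_mul, map_natCast]
    rw [Finset.mul_sum]
    refine Finset.sum_congr rfl (fun y _ => ?_)
    field_simp

theorem cosetAvg_nat {G : Type*} [Group G] [Fintype G] (N : Subgroup G) [N.Normal]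
    [Fintype N] (χ : Cfsg.IrrCharacter G) (Θ : G → ℂ)
    (hΘ : ∀ g, Θ g = (Nat.card N : ℂ)⁻¹
      * ∑ n : N, χ.1 (g * n) * (starRingEnd ℂ) (χ.1 (g * n)))
    (ψ : Cfsg.IrrCharacter G) : ∃ k : ℕ, Cfsg.classInner Θ ψ.1 = (k : ℂ) := by
  obtain ⟨h0, h1⟩ := cosetAvg_inner N χ Θ hΘ ψ
  by_cases hψ : ∀ x ∈ N, ψ.1 x = ψ.1 1
  · rw [h1 hψ]
    exact classInner_char_nat (isCharacter_mul (isCharacter_of_irr χ.2)
      (isCharacter_conj (isCharacter_of_irr χ.2))) (isCharacter_of_irr ψ.2)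
  · exact ⟨0, by rw [h0 hψ]; simp⟩

theorem cosetAvg_inner_one {G : Type*} [Group G] [Fintype G] (N : Subgroup G) [N.Normal]
    [Fintype N] (χ : Cfsg.IrrCharacter G) (Θ : G → ℂ)
    (hΘ : ∀ g, Θ g = (Nat.card N : ℂ)⁻¹
      * ∑ n : N, χ.1 (g * n) * (starRingEnd ℂ) (χ.1 (g * n))) :
    Cfsg.classInner Θ (irrOne G).1 = 1 := by
  obtain ⟨-, h1⟩ := cosetAvg_inner N χ Θ hΘ (irrOne G)
  rw [h1 (fun x _ => rfl)]
  have h2 := irr_inner_self χ
  unfold Cfsg.classInner at h2 ⊢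
  rw [← h2]
  congr 1
  refine Finset.sum_congr rfl (fun g _ => ?_)
  show χ.1 g * (starRingEnd ℂ) (χ.1 g) * (starRingEnd ℂ) (1 : ℂ) = _
  rw [map_one, mul_one]

theorem cosetAvg_eq_one_of_irr {G : Type*} [Group G] [Fintype G] (N : Subgroup G) [N.Normal]
    [Fintype N] (χ : Cfsg.IrrCharacter G) (Θ : G → ℂ)
    (hΘ : ∀ g, Θ g = (Nat.card N : ℂ)⁻¹
      * ∑ n : N, χ.1 (g * n) * (starRingEnd ℂ) (χ.1 (g * n)))
    (hirr : Cfsg.IsIrrCharacter N (fun n : N => χ.1 n)) (x : G) : Θ x = 1 := by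
  classical
  haveI : Fintype (Cfsg.IrrCharacter G) := Fintype.ofFinite _
  have hcls := cosetAvg_class N χ Θ hΘ
  choose m hm using cosetAvg_nat N χ Θ hΘ
  have hexp := class_fn_expand' Θ hcls
  have hΘ1 : Θ 1 = 1 := by
    have h1 := irr_inner_self (⟨fun n : N => χ.1 n, hirr⟩ : Cfsg.IrrCharacter N)
    unfold Cfsg.classInner at h1
    rw [hΘ]
    simp only [one_mul]
    exact h1
  have hsumN : ∑ ψ : Cfsg.IrrCharacter G, m ψ * Cfsg.charDegree ψ.1 = 1 := by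
    have h := congrFun hexp 1
    rw [hΘ1, Finset.sum_apply] at h
    have h2 : ∀ ψ : Cfsg.IrrCharacter G, (Cfsg.classInner Θ ψ.1 • (ψ : G → ℂ)) 1
        = ((m ψ * Cfsg.charDegree ψ.1 : ℕ) : ℂ) := by
      intro ψ
      rw [Pi.smul_apply, smul_eq_mul, hm ψ, (Cfsg.Agent.Lib.Helper7.DZ.charDegree_spec ψ).2.1]
      push_cast
      ring
    rw [Finset.sum_congr rfl (fun ψ _ => h2 ψ), ← Nat.cast_sum] at h
    exact_mod_cast h.symm
  have hm1 : m (irrOne G) = 1 := by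
    have h := hm (irrOne G)
    rw [cosetAvg_inner_one N χ Θ hΘ] at h
    exact_mod_cast h.symm
  have hrest : ∀ ψ : Cfsg.IrrCharacter G, ψ ≠ irrOne G → m ψ = 0 := by
    have e := Finset.add_sum_erase Finset.univ
      (fun ψ : Cfsg.IrrCharacter G => m ψ * Cfsg.charDegree ψ.1) (Finset.mem_univ (irrOne G))
    rw [hsumN] at e
    simp only [hm1, charDegree_irrOne, mul_one] at e
    have e2 : ∑ ψ ∈ Finset.univ.erase (irrOne G), m ψ * Cfsg.charDegree ψ.1 = 0 := by omega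
    intro ψ hψ
    have e3 := (Finset.sum_eq_zero_iff.mp e2) ψ (Finset.mem_erase.mpr ⟨hψ, Finset.mem_univ _⟩)
    rcases Nat.mul_eq_zero.mp e3 with h | h
    · exact h
    · exact absurd h (Cfsg.Agent.Lib.Helper7.DZ.charDegree_spec ψ).1.ne'
  have h := congrFun hexp x
  rw [Finset.sum_apply] at h
  rw [h, Finset.sum_eq_single (irrOne G)]
  · rw [Pi.smul_apply, hm, hm1]
    show ((1 : ℕ) : ℂ) • (1 : ℂ) = 1
    simp
  · intro ψ _ hψ
    rw [Pi.smul_apply, hm, hrest ψ hψ]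
    simp
  · intro h
    exact absurd (Finset.mem_univ _) h

theorem irr_restrict_of_no_vanishing_coset {G : Type*} [Group G] [Fintype G]
    (N : Subgroup G) [N.Normal] [Fintype N]
    (χ : Cfsg.IrrCharacter G) (hnv : ∀ x : G, ∃ n : N, χ.1 (x * n) ≠ 0) :
    Cfsg.IsIrrCharacter N (fun n : N => χ.1 n) := by
  classical
  obtain ⟨R, hR⟩ : ∃ R : G → ℝ, ∀ g, R g = (Nat.card N : ℝ)⁻¹
      * ∑ n : N, Complex.normSq (χ.1 (g * n)) := ⟨_, fun _ => rfl⟩
  obtain ⟨Θ, hΘR⟩ : ∃ Θ : G → ℂ, ∀ g, Θ g = ((R g : ℝ) : ℂ) := ⟨_, fun _ => rfl⟩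
  have hΘ : ∀ g, Θ g = (Nat.card N : ℂ)⁻¹
      * ∑ n : N, χ.1 (g * n) * (starRingEnd ℂ) (χ.1 (g * n)) := by
    intro g
    rw [hΘR, hR]
    push_cast
    congr 1
    refine Finset.sum_congr rfl (fun n _ => ?_)
    rw [Complex.mul_conj]
  have hNpos : (0 : ℝ) < Nat.card N := by exact_mod_cast Nat.card_pos
  have hR0 : ∀ g, 0 ≤ R g := by
    intro g
    rw [hR]
    exact mul_nonneg (inv_nonneg.mpr hNpos.le)
      (Finset.sum_nonneg (fun n _ => Complex.normSq_nonneg _))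
  have hRpos : ∀ g, 0 < R g := by
    intro g
    obtain ⟨n, hn⟩ := hnv g
    rw [hR]
    apply mul_pos (inv_pos.mpr hNpos)
    exact Finset.sum_pos' (fun n _ => Complex.normSq_nonneg _)
      ⟨n, Finset.mem_univ _, Complex.normSq_pos.mpr hn⟩
  have hchar : Cfsg.IsCharacter G Θ :=
    isCharacter_of_inner_nat Θ (cosetAvg_class N χ Θ hΘ) (cosetAvg_nat N χ Θ hΘ)
  obtain ⟨k, ρ, hρ⟩ := hchar
  obtain ⟨A, hAdef⟩ : ∃ A : Finset G, A = Finset.univ.filter (fun g => g ∉ N) := ⟨_, rfl⟩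
  have hA0 : ∀ g ∈ A, ρ.character g ≠ 0 := by
    intro g _
    rw [hρ, hΘR]
    exact_mod_cast (hRpos g).ne'
  have hApow : ∀ m : ℕ, m.Coprime (Nat.card G) → ∀ g ∈ A, g ^ m ∈ A := by
    intro m hm g hg
    rw [hAdef, Finset.mem_filter] at hg ⊢
    refine ⟨Finset.mem_univ _, fun hgm => hg.2 ?_⟩
    have hcop : m.Coprime (orderOf g) :=
      Nat.Coprime.coprime_dvd_right (orderOf_dvd_natCard g) hm
    obtain ⟨j, hj⟩ := exists_pow_eq_self_of_coprime hcop
    rw [← hj]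
    exact N.pow_mem hgm j
  have hamgm := amgm_sum_norm ρ A hA0 hApow
  have hnorm : ∀ g, ‖ρ.character g‖ = R g := by
    intro g
    rw [hρ, hΘR, Complex.norm_real, Real.norm_of_nonneg (hR0 g)]
  rw [Finset.sum_congr rfl (fun g _ => hnorm g)] at hamgm
  have hS : ∑ y : G, Complex.normSq (χ.1 y) = (Nat.card G : ℝ) := by
    have h1 := irr_inner_self χ
    unfold Cfsg.classInner at h1
    have hGc : (Nat.card G : ℂ) ≠ 0 := card_ne_zero_C
    have h2 : ∑ g : G, χ.1 g * (starRingEnd ℂ) (χ.1 g) = (Nat.card G : ℂ) := by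
      have h3 := congrArg (fun z => (Nat.card G : ℂ) * z) h1
      simp only [mul_inv_cancel_left₀ hGc, mul_one] at h3
      exact h3
    have h3 : ((∑ y : G, Complex.normSq (χ.1 y) : ℝ) : ℂ) = ((Nat.card G : ℝ) : ℂ) := by
      push_cast
      rw [← h2]
      exact Finset.sum_congr rfl (fun y _ => (Complex.mul_conj _).symm)
    exact_mod_cast h3
  have htot : ∑ g : G, R g = Nat.card G := by
    have h1 : ∀ n : N, ∑ g : G, Complex.normSq (χ.1 (g * n)) = (Nat.card G : ℝ) := by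
      intro n
      rw [← hS]
      exact Fintype.sum_equiv (Equiv.mulRight (n : G)) _ _ (fun g => rfl)
    simp only [hR]
    rw [← Finset.mul_sum, Finset.sum_comm, Finset.sum_congr rfl (fun n _ => h1 n),
      Finset.sum_const, Finset.card_univ, nsmul_eq_mul, ← Nat.card_eq_fintype_card]
    field_simp
  have hcardN : (Finset.univ.filter (fun g : G => g ∈ N)).card = Nat.card N := by
    rw [Nat.card_eq_fintype_card]
    exact (Fintype.card_of_subtype _ (fun x => by simp)).symm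
  have hN : ∑ g ∈ Finset.univ.filter (fun g => g ∈ N), R g = Nat.card N * R 1 := by
    have h1 : ∀ g ∈ Finset.univ.filter (fun g : G => g ∈ N), R g = R 1 := by
      intro g hg
      have hgN : g ∈ N := (Finset.mem_filter.mp hg).2
      rw [hR, hR]
      congr 1
      refine Fintype.sum_equiv (Equiv.mulLeft (⟨g, hgN⟩ : N)) _ _ (fun n => ?_)
      simp [Subgroup.coe_mul]
    rw [Finset.sum_congr rfl h1, Finset.sum_const, hcardN, nsmul_eq_mul]
  have hsplit : ∑ g ∈ A, R g = Nat.card G - Nat.card N * R 1 := by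
    have h1 := Finset.sum_filter_add_sum_filter_not Finset.univ (fun g : G => g ∈ N) R
    rw [htot, hN] at h1
    rw [hAdef]
    linarith
  have hAcard : (A.card : ℝ) = Nat.card G - Nat.card N := by
    have h1 := Finset.card_filter_add_card_filter_not (s := (Finset.univ : Finset G))
      (fun g => g ∈ N)
    rw [hcardN, ← hAdef, Finset.card_univ, ← Nat.card_eq_fintype_card] at h1
    have h2 : (Nat.card N : ℝ) + A.card = Nat.card G := by exact_mod_cast h1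
    linarith
  have hR1 : R 1 ≤ 1 := by
    rw [hsplit, hAcard] at hamgm
    have h1 : (Nat.card N : ℝ) * R 1 ≤ Nat.card N * 1 := by linarith
    exact le_of_mul_le_mul_left h1 hNpos
  have hin : Cfsg.classInner (fun n : N => χ.1 n) (fun n : N => χ.1 n) = ((R 1 : ℝ) : ℂ) := by
    unfold Cfsg.classInner
    rw [hR]
    push_cast
    congr 1
    refine Finset.sum_congr rfl (fun n _ => ?_)
    rw [one_mul, Complex.mul_conj]
  have hresc : Cfsg.IsCharacter N (fun n : N => χ.1 n) :=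
    isCharacter_restrict N (isCharacter_of_irr χ.2)
  obtain ⟨j, hj⟩ := classInner_char_nat hresc hresc
  rw [hin] at hj
  have hj' : R 1 = (j : ℝ) := by exact_mod_cast hj
  have hj1 : j = 1 := by
    have h1 : (j : ℝ) ≤ 1 := by
      rw [← hj']
      exact hR1
    have h2 : (0 : ℝ) < j := by
      rw [← hj']
      exact hRpos 1
    have h3 : j ≤ 1 := by exact_mod_cast h1
    have h4 : 0 < j := by exact_mod_cast h2
    omega
  apply isIrrCharacter_of_norm_one hresc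
  rw [hin, hj', hj1]
  simp

theorem restrict_reducible_iff {G : Type*} [Group G] [Finite G] (N : Subgroup G) [N.Normal]
    (χ : Cfsg.IrrCharacter G) :
    ¬ Cfsg.IsIrrCharacter ↥N (fun n : ↥N => (χ : G → ℂ) n)
      ↔ ∃ x : G, ∀ n : ↥N, (χ : G → ℂ) ((n : G) * x) = 0 := by
  classical
  haveI : Fintype G := Fintype.ofFinite G
  haveI : Fintype N := Fintype.ofFinite N
  constructor
  · intro hnot
    by_contra hcon
    push Not at hcon
    apply hnot
    apply irr_restrict_of_no_vanishing_coset N χ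
    intro x
    obtain ⟨n, hn⟩ := hcon x
    have hmem : x⁻¹ * (n : G) * x ∈ N := by
      have := Subgroup.Normal.conj_mem inferInstance (n : G) n.2 x⁻¹
      simpa using this
    refine ⟨⟨x⁻¹ * n * x, hmem⟩, ?_⟩
    have e : x * (x⁻¹ * (n : G) * x) = n * x := by group
    show χ.1 (x * (x⁻¹ * (n : G) * x)) ≠ 0
    rw [e]
    exact hn
  · rintro ⟨x, hx⟩ hirr
    obtain ⟨Θ, hΘ⟩ : ∃ Θ : G → ℂ, ∀ g, Θ g = (Nat.card N : ℂ)⁻¹
        * ∑ n : N, χ.1 (g * n) * (starRingEnd ℂ) (χ.1 (g * n)) := ⟨_, fun _ => rfl⟩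
    have h1 := cosetAvg_eq_one_of_irr N χ Θ hΘ hirr x
    rw [hΘ] at h1
    have h0 : ∀ n : N, χ.1 (x * n) = 0 := by
      intro n
      have e : x * (n : G) = (x * n * x⁻¹) * x := by group
      rw [e]
      exact hx ⟨x * n * x⁻¹, Subgroup.Normal.conj_mem inferInstance (n : G) n.2 x⟩
    simp only [h0, zero_mul, Finset.sum_const_zero, mul_zero] at h1
    exact zero_ne_one h1

end Cfsg.Agent.Lib.Helper8
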