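import Mathlib
import Cfsg.Prelude.Def_Characters
import Cfsg.Agent.Lib.Helper8.Cliff12

set_option autoImplicit false

namespace Cfsg.Agent.Lib.Helper8

open Matrix Cfsg.Agent.Lib.Lead Cfsg.Agent.Lib.Helper7 Cfsg.Agent.Lib.Helper7.Cliff

/-- S4912 -/
theorem linear_fs_le_index_mul8 {G : Type*} [Group G] [Finite G] (N : Subgroup G)
    (hN : N.Normal)
    (hmin : ∀ M : Subgroup G, M.Normal → M ≤ N → M = ⊥ ∨ M = N)
    (hna : ¬ IsMulCommutative ↥N) (φ : Cfsg.IrrCharacter ↥N) (I : Subgroup G)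
    (hI : ∀ g : G, g ∈ I ↔ ∀ n n' : ↥N, (n' : G) = g * (n : G) * g⁻¹ →
      (φ : ↥N → ℂ) n' = (φ : ↥N → ℂ) n) (hNI : N ≤ I)
    (hext : ∃ ψ : Cfsg.IrrCharacter ↥I,
      (Nat.card ↥I : ℂ)⁻¹ * ∑ᶠ g : ↥I, (ψ : ↥I → ℂ) (g * g) = 1 ∧
      ∀ n : ↥N, (ψ : ↥I → ℂ) (Subgroup.inclusion hNI n) = (φ : ↥N → ℂ) n) :
    Nat.card {χ : Cfsg.IrrCharacter G // Cfsg.charDegree (χ : G → ℂ) = 1 ∧
        (Nat.card G : ℂ)⁻¹ * ∑ᶠ g : G, (χ : G → ℂ) (g * g) = 1}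
      ≤ I.index * Nat.card {χ : Cfsg.IrrCharacter G //
        Cfsg.charDegree (χ : G → ℂ) = Cfsg.charDegree (φ : ↥N → ℂ) * I.index ∧
        (Nat.card G : ℂ)⁻¹ * ∑ᶠ g : G, (χ : G → ℂ) (g * g) = 1} := by
  classical
  haveI := hN
  haveI : Fintype G := Fintype.ofFinite G
  haveI : Fintype N := Fintype.ofFinite N
  haveI : Fintype I := Fintype.ofFinite I
  haveI : Fintype (Cfsg.IrrCharacter G) := Fintype.ofFinite _
  obtain ⟨ψ, hν, hψ⟩ := hext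
  rw [finsum_eq_sum_of_fintype] at hν
  simp only [finsum_eq_sum_of_fintype]
  obtain ⟨χ₀, hdeg, hχ₀, huniq, hE⟩ := clifford_ext_main9 N φ I hI hNI ψ hψ
  obtain ⟨hψreal, hφν⟩ := fs_restrict_irr8 N I hNI φ ψ hψ hν
  have hdegC : χ₀.1 1 = (I.index : ℂ) * ψ.1 1 := by
    obtain ⟨-, h1, -⟩ := DZ.charDegree_spec χ₀
    obtain ⟨-, h2, -⟩ := DZ.charDegree_spec φ
    have hψ1 : ψ.1 1 = φ.1 1 := by
      have := hψ 1
      rwa [map_one] at this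
    rw [h1, hdeg, hψ1, h2]
    push_cast
    ring
  have hχreal := real_of_unique_over8 I ψ hψreal χ₀ hχ₀ hdegC
  have hνχ₀ := fs_clifford_corr8 N φ hφν χ₀ hχreal hE
  have hNc := minimal_nonabelian_le_commutator8 N hN hmin hna
  have hlin1 : ∀ l : {χ : Cfsg.IrrCharacter G // Cfsg.charDegree χ.1 = 1 ∧
      (Nat.card G : ℂ)⁻¹ * ∑ g : G, χ.1 (g * g) = 1}, l.1.1 1 = 1 :=
    fun l => (deg_one_iff8 l.1).mp l.2.1
  have hlinN : ∀ l : {χ : Cfsg.IrrCharacter G // Cfsg.charDegree χ.1 = 1 ∧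
      (Nat.card G : ℂ)⁻¹ * ∑ g : G, χ.1 (g * g) = 1}, ∀ n ∈ N, l.1.1 n = 1 :=
    fun l n hn => irr_linear_commutator l.1 (hlin1 l) (hNc hn)
  have hlinsq : ∀ l : {χ : Cfsg.IrrCharacter G // Cfsg.charDegree χ.1 = 1 ∧
      (Nat.card G : ℂ)⁻¹ * ∑ g : G, χ.1 (g * g) = 1}, ∀ g : G, l.1.1 (g * g) = 1 := by
    intro l g
    have hreal : ∀ g : G, (l.1.1 g).im = 0 := by
      by_contra hnr
      have h0 := (FS.fs_cases l.1).2 hnr
      have h1 := l.2.2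
      rw [h0] at h1
      exact zero_ne_one h1
    rw [irr_linear_mul l.1 (hlin1 l)]
    have h2 := LT.linear_mul_conj l.1 (hlin1 l) g
    rwa [Complex.conj_eq_iff_im.mpr (hreal g)] at h2
  obtain ⟨Φ, hΦ⟩ : ∃ Φ : {χ : Cfsg.IrrCharacter G // Cfsg.charDegree χ.1 = 1 ∧
      (Nat.card G : ℂ)⁻¹ * ∑ g : G, χ.1 (g * g) = 1} →
      {χ : Cfsg.IrrCharacter G // Cfsg.charDegree χ.1 = Cfsg.charDegree φ.1 * I.index ∧
        (Nat.card G : ℂ)⁻¹ * ∑ g : G, χ.1 (g * g) = 1},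
      ∀ l, (Φ l).1.1 = l.1.1 * χ₀.1 :=
    ⟨fun l => ⟨⟨l.1.1 * χ₀.1, LT.irr_linear_twist l.1 χ₀ (hlin1 l)⟩, by
      constructor
      · show Cfsg.charDegree (l.1.1 * χ₀.1) = _
        rw [LT.charDegree_twist l.1 χ₀ (hlin1 l), hdeg]
      · show (Nat.card G : ℂ)⁻¹ * ∑ g : G, (l.1.1 * χ₀.1) (g * g) = 1
        refine Eq.trans ?_ hνχ₀
        congr 1
        apply Finset.sum_congr rfl
        intro g _
        rw [Pi.mul_apply, hlinsq l g, one_mul]⟩, fun l => rfl⟩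
  rw [Nat.card_eq_fintype_card (α := {χ : Cfsg.IrrCharacter G // Cfsg.charDegree χ.1 = 1 ∧
        (Nat.card G : ℂ)⁻¹ * ∑ g : G, χ.1 (g * g) = 1}),
    Nat.card_eq_fintype_card (α := {χ : Cfsg.IrrCharacter G //
        Cfsg.charDegree χ.1 = Cfsg.charDegree φ.1 * I.index ∧
        (Nat.card G : ℂ)⁻¹ * ∑ g : G, χ.1 (g * g) = 1})]
  have hfib : ∀ a ∈ (Finset.univ : Finset _).image Φ,
      (Finset.univ.filter (fun x => Φ x = a)).card ≤ I.index := by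
    intro a ha
    obtain ⟨l₁, -, rfl⟩ := Finset.mem_image.mp ha
    have hcard : (Finset.univ.filter (fun x => Φ x = Φ l₁)).card
        = ((Finset.univ.filter (fun x => Φ x = Φ l₁)).map
            ⟨Subtype.val, Subtype.val_injective⟩).card := (Finset.card_map _).symm
    rw [hcard]
    apply card_linear_agree_le_index8 I _ l₁.1 (hlin1 l₁)
    intro l hl i hi
    rw [Finset.mem_map] at hl
    obtain ⟨l', hl', rfl⟩ := hl
    rw [Finset.mem_filter] at hl'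
    have heq : ∀ g, l'.1.1 g * χ₀.1 g = l₁.1.1 g * χ₀.1 g := by
      intro g
      have e1 : (Φ l').1.1 g = (Φ l₁).1.1 g := by rw [hl'.2]
      rw [hΦ, hΦ] at e1
      exact e1
    exact twist_fiber8 N φ I hNI ψ hψ χ₀ hχ₀ huniq l'.1 l₁.1 (hlin1 l') (hlin1 l₁) (hlinN l')
      (hlinN l₁) heq i hi
  calc Fintype.card {χ : Cfsg.IrrCharacter G // Cfsg.charDegree χ.1 = 1 ∧
        (Nat.card G : ℂ)⁻¹ * ∑ g : G, χ.1 (g * g) = 1}
      = (Finset.univ : Finset {χ : Cfsg.IrrCharacter G // Cfsg.charDegree χ.1 = 1 ∧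
        (Nat.card G : ℂ)⁻¹ * ∑ g : G, χ.1 (g * g) = 1}).card := Finset.card_univ.symm
    _ ≤ I.index * ((Finset.univ : Finset _).image Φ).card :=
        Finset.card_le_mul_card_image _ _ hfib
    _ ≤ I.index * Fintype.card _ := Nat.mul_le_mul_left _ (Finset.card_le_univ _)

end Cfsg.Agent.Lib.Helper8
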