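import Cfsg.Agent.Lib.Helper8.Solv3
import Cfsg.Agent.Lib.Helper8.HypGen
import Cfsg.Agent.Lib.Helper8.Ess
import Cfsg.Agent.Lib.Helper8.AutRes

set_option autoImplicit false
open Cfsg
open scoped commutatorElement

namespace Cfsg.Agent.Lib.Helper8

variable {Ω : Type*} [Group Ω] {S : Subgroup Ω}

/-- The preimage in `S` of `O_p(Aut_F(Q))`. -/
def opPre (F : FusionSystem S) (p : ℕ) (Q : Subgroup Ω) : Subgroup Ω where
  carrier := {s | s ∈ S ∧ ∃ a : ↥(F.autGroup Q), a ∈ pCore p ↥(F.autGroup Q) ∧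
    ∀ x : Q, (((a : MulAut Q) x : Q) : Ω) = s * x * s⁻¹}
  one_mem' := ⟨S.one_mem, 1, Subgroup.one_mem _, fun x => by
    show (x : Ω) = 1 * x * 1⁻¹
    group⟩
  mul_mem' := by
    rintro s t ⟨hs, a, ha, hae⟩ ⟨ht, b, hb, hbe⟩
    refine ⟨S.mul_mem hs ht, a * b, Subgroup.mul_mem _ ha hb, fun x => ?_⟩
    show (((a : MulAut Q) ((b : MulAut Q) x) : Q) : Ω) = _
    rw [hae, hbe]
    group
  inv_mem' := by
    rintro s ⟨hs, a, ha, hae⟩
    refine ⟨S.inv_mem hs, a⁻¹, Subgroup.inv_mem _ ha, fun x => ?_⟩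
    have h := hae ((a : MulAut Q)⁻¹ x)
    rw [MulAut.apply_inv_self] at h
    show ((((a : MulAut Q)⁻¹) x : Q) : Ω) = _
    rw [h]
    group

theorem opPre_sc [Finite S] (F : FusionSystem S) (p : ℕ) {Q : Subgroup Ω} (hQ : F.IsNormal Q) :
    F.StronglyClosed (opPre F p Q) := by
  refine ⟨fun s hs => hs.1, fun P hP φ hφ x => ?_⟩
  obtain ⟨ψ, hψ, he, hm⟩ := hQ.2 P φ hφ
  have hQle : Q ≤ P ⊔ Q := le_sup_right
  have hψQ := fs_restrict F hQle hψ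
  have hK : ∀ z : Q, (ψ.comp (Subgroup.inclusion hQle)) z ∈ Q := by
    intro z
    exact hm.le ⟨Subgroup.inclusion hQle z, z.2, rfl⟩
  obtain ⟨γ, hγ, hγe⟩ := exists_aut_of_hom F hψQ hK
  obtain ⟨hxS, a, ha, hae⟩ := hP x.2
  refine ⟨(F.le_of_mem hφ).2 x, ⟨γ, hγ⟩ * a * ⟨γ, hγ⟩⁻¹,
    (pCore_normal p _).conj_mem a ha _, fun q => ?_⟩
  show ((γ ((a : MulAut Q) (γ⁻¹ q)) : Q) : Ω) = _
  rw [hγe]
  have e1 : Subgroup.inclusion hQle ((a : MulAut Q) (γ⁻¹ q)) =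
      Subgroup.inclusion le_sup_left x * Subgroup.inclusion hQle (γ⁻¹ q) *
        (Subgroup.inclusion le_sup_left x)⁻¹ := Subtype.ext (hae _)
  show ψ (Subgroup.inclusion hQle ((a : MulAut Q) (γ⁻¹ q))) = _
  rw [e1, map_mul, map_mul, map_inv, he x]
  have e2 : ψ (Subgroup.inclusion hQle (γ⁻¹ q)) = q := by
    have h := hγe (γ⁻¹ q)
    rw [MulAut.apply_inv_self] at h
    exact h.symm
  rw [e2]

theorem opPre_le_cr [Finite S] {p : ℕ} [Fact p.Prime] (hS : IsPGroup p S) (F : FusionSystem S)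
    {Q : Subgroup Ω} (hQ : F.IsNormal Q) (hcent : FusionSystem.centralizerIn S Q ≤ Q)
    {U : Subgroup Ω} (hUc : F.IsCentric U) (hUr : F.IsRadical p U) : opPre F p Q ≤ U := by
  have hQU : Q ≤ U := normal_le_cr hS F hQ hUc hUr
  have hQsc := sc_of_normal F hQ
  have hUS := hUc.1
  haveI : Finite U := finite_of_le hUS
  haveI : Finite (MulAut U) := finite_mulAut U
  have hinvQ : ∀ β ∈ F.autGroup U, ∀ x : U, (x : Ω) ∈ Q → ((β x : U) : Ω) ∈ Q :=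
    fun β hβ x hx => sc_map_mem F hQsc ((mem_autGroup_iff F hUS β).mp hβ) x hx
  let D : Subgroup (MulAut U) :=
    { carrier := {α | α ∈ F.autGroup U ∧ ∃ a : ↥(F.autGroup Q), a ∈ pCore p ↥(F.autGroup Q) ∧
        ∀ q : Q, (((a : MulAut Q) q : Q) : Ω) = ((α ⟨q, hQU q.2⟩ : U) : Ω)}
      one_mem' := ⟨Subgroup.one_mem _, 1, Subgroup.one_mem _, fun q => rfl⟩
      mul_mem' := by
        rintro α β ⟨hα, a, ha, hae⟩ ⟨hβ, b, hb, hbe⟩
        refine ⟨Subgroup.mul_mem _ hα hβ, a * b, Subgroup.mul_mem _ ha hb, fun q => ?_⟩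
        show (((a : MulAut Q) ((b : MulAut Q) q) : Q) : Ω) = ((α (β ⟨q, hQU q.2⟩) : U) : Ω)
        have e : β ⟨q, hQU q.2⟩ = ⟨((b : MulAut Q) q : Q), hQU (Subtype.property _)⟩ :=
          Subtype.ext (hbe q).symm
        rw [e]
        exact hae _
      inv_mem' := by
        rintro α ⟨hα, a, ha, hae⟩
        refine ⟨Subgroup.inv_mem _ hα, a⁻¹, Subgroup.inv_mem _ ha, fun q => ?_⟩
        show ((((a : MulAut Q)⁻¹ q : Q)) : Ω) = ((α⁻¹ ⟨q, hQU q.2⟩ : U) : Ω)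
        have h := hae ((a : MulAut Q)⁻¹ q)
        rw [MulAut.apply_inv_self] at h
        have e : (⟨q, hQU q.2⟩ : U) =
            α ⟨((a : MulAut Q)⁻¹ q : Q), hQU (Subtype.property _)⟩ := Subtype.ext h
        rw [e, MulAut.inv_apply_self] }
  apply le_of_normal_pgroup_aut hS F hUc hUr (opPre_sc F p hQ).1
    (sc_conj_mem F (opPre_sc F p hQ)) D
  · intro α hα
    exact hα.1
  · rintro α ⟨hα, a, ha, hae⟩ β hβ
    obtain ⟨b, hb⟩ : ∃ b : ↥(F.autGroup Q), b = ⟨autRestrict F hQU hinvQ ⟨β, hβ⟩,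
        autRestrict_mem F hUS hQU hinvQ ⟨β, hβ⟩⟩ := ⟨_, rfl⟩
    have hbe : ∀ y : Q, (((b : MulAut Q) y : Q) : Ω) = ((β ⟨y, hQU y.2⟩ : U) : Ω) := by
      intro y
      rw [hb]
      rfl
    have hbi : ∀ y : Q, (((b : MulAut Q)⁻¹ y : Q) : Ω) = ((β⁻¹ ⟨y, hQU y.2⟩ : U) : Ω) := by
      intro y
      have h := hbe ((b : MulAut Q)⁻¹ y)
      rw [MulAut.apply_inv_self] at h
      have e : (⟨y, hQU y.2⟩ : U) =
          β ⟨((b : MulAut Q)⁻¹ y : Q), hQU (Subtype.property _)⟩ := Subtype.ext h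
      rw [e, MulAut.inv_apply_self]
    refine ⟨Subgroup.mul_mem _ (Subgroup.mul_mem _ hβ hα) (Subgroup.inv_mem _ hβ),
      b * a * b⁻¹, (pCore_normal p _).conj_mem a ha b, fun q => ?_⟩
    show (((b : MulAut Q) ((a : MulAut Q) ((b : MulAut Q)⁻¹ q)) : Q) : Ω) =
      ((β (α (β⁻¹ ⟨q, hQU q.2⟩)) : U) : Ω)
    rw [hbe]
    congr 2
    apply Subtype.ext
    show (((a : MulAut Q) ((b : MulAut Q)⁻¹ q) : Q) : Ω) = ((α (β⁻¹ ⟨q, hQU q.2⟩) : U) : Ω)
    rw [hae]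
    congr 2
    exact Subtype.ext (hbi q)
  · apply isPGroup_of_coprime_trivial
    rintro α ⟨hα, a, ha, hae⟩ m hm hαm
    have h1 : ∀ k : ℕ, ∀ q : Q, ((((a : MulAut Q) ^ k) q : Q) : Ω) =
        (((α ^ k) ⟨q, hQU q.2⟩ : U) : Ω) := by
      intro k
      induction k with
      | zero => intro q; rfl
      | succ k ih =>
        intro q
        rw [pow_succ, pow_succ]
        show ((((a : MulAut Q) ^ k) ((a : MulAut Q) q) : Q) : Ω) =
          (((α ^ k) (α ⟨q, hQU q.2⟩) : U) : Ω)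
        rw [ih]
        congr 2
        exact Subtype.ext (hae q)
    have h2 : a ^ m = 1 := by
      apply Subtype.ext
      apply MulEquiv.ext
      intro q
      apply Subtype.ext
      show ((((a : MulAut Q) ^ m) q : Q) : Ω) = q
      rw [h1 m q, hαm]
      rfl
    have h3 : a = 1 := by
      obtain ⟨k, hk⟩ := (pCore_isPGroup p ↥(F.autGroup Q)) ⟨a, ha⟩
      have hk' : a ^ p ^ k = 1 := congrArg Subtype.val hk
      have hd1 := orderOf_dvd_of_pow_eq_one hk'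
      have hd2 := orderOf_dvd_of_pow_eq_one h2
      have hcop : Nat.Coprime (p ^ k) m := Nat.Coprime.pow_left k hm.symm
      exact orderOf_eq_one_iff.mp (Nat.eq_one_of_dvd_coprimes hcop hd1 hd2)
    have h4 : ∀ x : U, (x : Ω) ∈ Q → α x = x := by
      intro x hx
      have h := hae ⟨x, hx⟩
      rw [h3] at h
      exact Subtype.ext h.symm
    refine aut_eq_one_of_chain (hS.to_le hUS) α m hm hαm 1 (fun i => if i = 0 then S else Q)
      (fun x => hUS x.2) (fun x hx => h4 x hx) (fun i hi x _ => ?_)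
    have hi0 : i = 0 := by omega
    subst hi0
    show ((x⁻¹ * α x : U) : Ω) ∈ Q
    apply hcent
    refine ⟨S.mul_mem (S.inv_mem (hUS x.2)) (hUS (α x).2), ?_⟩
    show _ ∈ Subgroup.centralizer (Q : Set Ω)
    rw [Subgroup.mem_centralizer_iff]
    intro q hq
    have hq' : α ⟨q, hQU hq⟩ = ⟨q, hQU hq⟩ := h4 _ hq
    have hy : α (x * ⟨q, hQU hq⟩ * x⁻¹) = x * ⟨q, hQU hq⟩ * x⁻¹ :=
      h4 _ (sc_conj_mem F hQsc x (hUS x.2) q hq)
    rw [map_mul, map_mul, map_inv, hq'] at hy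
    have hy' : ((α x : U) : Ω) * q * ((α x : U) : Ω)⁻¹ = (x : Ω) * q * (x : Ω)⁻¹ :=
      congrArg Subtype.val hy
    show q * ((x : Ω)⁻¹ * ((α x : U) : Ω)) = (x : Ω)⁻¹ * ((α x : U) : Ω) * q
    calc q * ((x : Ω)⁻¹ * ((α x : U) : Ω))
        = (x : Ω)⁻¹ * ((x : Ω) * q * (x : Ω)⁻¹) * ((α x : U) : Ω) := by group
      _ = (x : Ω)⁻¹ * (((α x : U) : Ω) * q * ((α x : U) : Ω)⁻¹) * ((α x : U) : Ω) := by rw [hy']
      _ = (x : Ω)⁻¹ * ((α x : U) : Ω) * q := by group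
  · rintro t ⟨htS, a, ha, hae⟩ α hα
    refine ⟨autInducedBy_le_autGroup F hUS ((mem_autInducedBy_iff S U α).mpr ⟨t, htS, hα⟩),
      a, ha, fun q => ?_⟩
    rw [hae, hα]

theorem opPre_le [Finite S] {p : ℕ} [Fact p.Prime] (hS : IsPGroup p S) (F : FusionSystem S)
    (hF : F.IsSaturated p) {Q : Subgroup Ω} (hQ : F.IsNormal Q)
    (hcent : FusionSystem.centralizerIn S Q ≤ Q) : opPre F p Q ≤ F.core :=
  le_sSup (normal_of_sc_of_le_cr hS F hF (opPre_sc F p hQ)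
    (fun _ _ hUc hUr => opPre_le_cr hS F hQ hcent hUc hUr))

end Cfsg.Agent.Lib.Helper8
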