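import Cfsg.Agent.Lib.Helper8.Constr

set_option autoImplicit false
open Cfsg
open scoped commutatorElement

namespace Cfsg.Agent.Lib.Helper8

variable {Ω : Type*} [Group Ω] {S : Subgroup Ω}

/-- An element of a strongly closed subgroup `T` centralizing `O_p(F) ∩ T` lies in `O_p(F)`,
when `O_p(F)` contains its centralizer in `S`. -/
theorem stab_mem_core [Finite S] {p : ℕ} [Fact p.Prime] (hS : IsPGroup p S) (F : FusionSystem S)
    (hF : F.IsSaturated p) (hcent : FusionSystem.centralizerIn S F.core ≤ F.core)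
    {T : Subgroup Ω} (hT : F.StronglyClosed T) {x : Ω} (hxT : x ∈ T)
    (hx : x ∈ Subgroup.centralizer ((F.core ⊓ T : Subgroup Ω) : Set Ω)) : x ∈ F.core := by
  have hQ := core_isNormal F
  have hQS := hQ.1
  have hQsc := sc_of_normal F hQ
  haveI : Finite F.core := finite_of_le hQS
  haveI : Finite (MulAut F.core) := finite_mulAut _
  have hmapT : ∀ (b : ↥(F.autGroup F.core)) (q : F.core), (q : Ω) ∈ T →
      (((b : MulAut F.core) q : F.core) : Ω) ∈ T :=
    fun b q hq => sc_map_mem F hT ((mem_autGroup_iff F hQS (b : MulAut F.core)).mp b.2) q hq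
  let B : Subgroup ↥(F.autGroup F.core) :=
    { carrier := {a | (∀ q : F.core, (q : Ω) ∈ T → (a : MulAut F.core) q = q) ∧
        ∀ q : F.core, ((q⁻¹ * (a : MulAut F.core) q : F.core) : Ω) ∈ T}
      one_mem' := ⟨fun q _ => rfl, fun q => by
        have e : q⁻¹ * ((1 : ↥(F.autGroup F.core)) : MulAut F.core) q = 1 := inv_mul_cancel q
        rw [e]
        exact T.one_mem⟩
      mul_mem' := by
        rintro a b ⟨ha1, ha2⟩ ⟨hb1, hb2⟩
        refine ⟨fun q hq => ?_, fun q => ?_⟩
        · show (a : MulAut F.core) ((b : MulAut F.core) q) = q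
          rw [hb1 q hq, ha1 q hq]
        · have e : q⁻¹ * (a : MulAut F.core) ((b : MulAut F.core) q) =
              (q⁻¹ * (b : MulAut F.core) q) *
                (((b : MulAut F.core) q)⁻¹ * (a : MulAut F.core) ((b : MulAut F.core) q)) := by
            group
          show ((q⁻¹ * (a : MulAut F.core) ((b : MulAut F.core) q) : F.core) : Ω) ∈ T
          rw [e]
          exact T.mul_mem (hb2 q) (ha2 _)
      inv_mem' := by
        rintro a ⟨ha1, ha2⟩
        refine ⟨fun q hq => ?_, fun q => ?_⟩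
        · show (a : MulAut F.core)⁻¹ q = q
          have h := ha1 q hq
          calc (a : MulAut F.core)⁻¹ q = (a : MulAut F.core)⁻¹ ((a : MulAut F.core) q) := by
                rw [h]
            _ = q := MulAut.inv_apply_self _ _ _
        · have h := ha2 ((a : MulAut F.core)⁻¹ q)
          rw [MulAut.apply_inv_self] at h
          have e : q⁻¹ * (a : MulAut F.core)⁻¹ q = (((a : MulAut F.core)⁻¹ q)⁻¹ * q)⁻¹ := by
            group
          show ((q⁻¹ * (a : MulAut F.core)⁻¹ q : F.core) : Ω) ∈ T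
          rw [e]
          exact T.inv_mem h }
  have hBn : B.Normal := by
    constructor
    rintro a ⟨ha1, ha2⟩ b
    refine ⟨fun q hq => ?_, fun q => ?_⟩
    · show (b : MulAut F.core) ((a : MulAut F.core) ((b : MulAut F.core)⁻¹ q)) = q
      have h1 : ((((b⁻¹ : ↥(F.autGroup F.core)) : MulAut F.core) q : F.core) : Ω) ∈ T :=
        hmapT b⁻¹ q hq
      have h2 := ha1 ((b : MulAut F.core)⁻¹ q) h1
      rw [h2, MulAut.apply_inv_self]
    · have h1 := ha2 ((b : MulAut F.core)⁻¹ q)
      have h2 := hmapT b _ h1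
      have e : q⁻¹ * (b : MulAut F.core) ((a : MulAut F.core) ((b : MulAut F.core)⁻¹ q)) =
          (b : MulAut F.core) (((b : MulAut F.core)⁻¹ q)⁻¹ *
            (a : MulAut F.core) ((b : MulAut F.core)⁻¹ q)) := by
        rw [map_mul, map_inv, MulAut.apply_inv_self]
      show ((q⁻¹ * (b : MulAut F.core) ((a : MulAut F.core) ((b : MulAut F.core)⁻¹ q)) :
        F.core) : Ω) ∈ T
      rw [e]
      exact h2
  have hBp : IsPGroup p B := by
    apply isPGroup_of_coprime_trivial
    rintro y ⟨hy1, hy2⟩ m hm hym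
    have hym' : (y : MulAut F.core) ^ m = 1 := congrArg Subtype.val hym
    have h1 : (y : MulAut F.core) = 1 :=
      aut_eq_one_of_chain (hS.to_le hQS) (y : MulAut F.core) m hm hym' 1
        (fun i => if i = 0 then S else T) (fun q => hQS q.2) (fun q hq => hy1 q hq)
        (fun i hi q _ => by
          have hi0 : i = 0 := by omega
          subst hi0
          exact hy2 q)
    exact Subtype.ext h1
  have hle := le_pCore hBn hBp
  have hxS := hT.1 hxT
  have hxN : x ∈ FusionSystem.normalizerIn S F.core := ⟨hxS, sc_le_normalizer F hQsc hxS⟩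
  have haB : normAut F hQS ⟨x, hxN⟩ ∈ B := by
    refine ⟨fun q hq => ?_, fun q => ?_⟩
    · apply Subtype.ext
      rw [normAut_apply]
      have h1 := (Subgroup.mem_centralizer_iff.mp hx) q ⟨q.2, hq⟩
      show x * (q : Ω) * x⁻¹ = q
      rw [← h1]
      group
    · show (q : Ω)⁻¹ * (x * (q : Ω) * x⁻¹) ∈ T
      have e : (q : Ω)⁻¹ * (x * (q : Ω) * x⁻¹) = ((q : Ω)⁻¹ * x * (q : Ω)⁻¹⁻¹) * x⁻¹ := by group
      rw [e]
      exact T.mul_mem (sc_conj_mem F hT _ (S.inv_mem (hQS q.2)) x hxT) (T.inv_mem hxT)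
  exact opPre_le hS F hF hQ hcent
    ⟨hxS, normAut F hQS ⟨x, hxN⟩, hle haB, fun q => normAut_apply F hQS ⟨x, hxN⟩ q⟩

/-- The intersection of a subgroup normal in `F` with `T` is normal in any saturated subsystem
over `T`. -/
theorem inf_normal_sub [Finite S] {p : ℕ} [Fact p.Prime] (hS : IsPGroup p S) (F : FusionSystem S)
    {T : Subgroup Ω} (E : FusionSystem T) (hsub : E.IsSubsystemOf F) (hTS : T ≤ S)
    (hEsat : E.IsSaturated p) {Q : Subgroup Ω} (hQ : F.IsNormal Q) : E.IsNormal (Q ⊓ T) := by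
  haveI : Finite T := finite_of_le hTS
  have hT' : IsPGroup p T := hS.to_le hTS
  obtain ⟨m, C, hC0, hCm, hCmono, hCcomm, hCnorm⟩ := ucs_data_nat hS F hQ
  have hsc : ∀ W : Subgroup Ω, F.StronglyClosed W → E.StronglyClosed (W ⊓ T) := fun W hW =>
    ⟨inf_le_right, fun R hR φ hφ x =>
      ⟨hW.2 R (hR.trans inf_le_left) φ (hsub R hφ) x, (E.le_of_mem hφ).2 x⟩⟩
  refine normal_of_series hT' E hEsat (hsc Q (sc_of_normal F hQ)) m (fun i => C i ⊓ T)
    ?_ ?_ ?_ ?_ ?_
  · show C 0 ⊓ T = ⊥
    rw [hC0, bot_inf_eq]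
  · show C m ⊓ T = Q ⊓ T
    rw [hCm]
  · intro i hi
    exact inf_le_inf_right T (hCmono i hi)
  · intro i hi
    exact le_inf ((Subgroup.commutator_mono inf_le_left inf_le_left).trans (hCcomm i hi))
      ((Subgroup.commutator_mono inf_le_right inf_le_right).trans (Subgroup.commutator_le_self T))
  · intro i hi
    exact wc_of_sc E (hsc (C i) (sc_of_normal F (hCnorm i hi.le)))

/-- A saturated subsystem over a strongly closed subgroup of a constrained system is
constrained. -/
theorem constrained_sub [Finite S] {p : ℕ} [Fact p.Prime] (hS : IsPGroup p S) (F : FusionSystem S)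
    (hFc : F.IsConstrained p) {T : Subgroup Ω} (E : FusionSystem T) (hsub : E.IsSubsystemOf F)
    (hT : F.StronglyClosed T) (hEsat : E.IsSaturated p) : E.IsConstrained p := by
  obtain ⟨hF, Q₀, hQ₀n, hQ₀c⟩ := hFc
  have hcent : FusionSystem.centralizerIn S F.core ≤ F.core := by
    intro x hx
    have h1 : Q₀ ≤ F.core := le_sSup hQ₀n
    have h2 : x ∈ FusionSystem.centralizerIn S Q₀ :=
      ⟨hx.1, Subgroup.centralizer_le (SetLike.coe_subset_coe.mpr h1) hx.2⟩
    exact h1 (hQ₀c.2 Q₀ (fs_isConj_refl F hQ₀n.1) h2)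
  haveI : Finite T := finite_of_le hT.1
  have hN := inf_normal_sub hS F E hsub hT.1 hEsat (core_isNormal F)
  refine ⟨hEsat, F.core ⊓ T, hN, normal_centric_of_cent_le E hN ?_⟩
  intro x hx
  exact ⟨stab_mem_core hS F hF hcent hT hx.1 hx.2, hx.1⟩

theorem constrained_subnormal_aux {T : Subgroup Ω} (E : FusionSystem T) {S : Subgroup Ω}
    (F : FusionSystem S) (p : ℕ) (h : E.IsSubnormalIn F p) :
    Fact p.Prime → Finite S → IsPGroup p S → F.IsConstrained p → E.IsConstrained p := by
  induction h with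
  | refl F p =>
    intro _ _ _ h
    exact h
  | @step U S' E' D F' p' h1 h2 ih =>
    intro hp hfin hS hFc
    haveI := hp
    haveI := hfin
    have hU := h2.1.2.2.2.1
    exact ih hp (finite_of_le hU.1) (hS.to_le hU.1)
      (constrained_sub hS F' hFc D h2.1.2.2.1 hU h2.1.1)

/-- A subnormal subsystem of a constrained system is constrained. -/
theorem constrained_subnormal [Finite S] (p : ℕ) [Fact p.Prime] (hS : IsPGroup p S)
    (F : FusionSystem S) (hF : F.IsConstrained p) {T : Subgroup Ω} (E : FusionSystem T)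
    (hE : E.IsSubnormalIn F p) : E.IsConstrained p :=
  constrained_subnormal_aux E F p hE inferInstance inferInstance hS hF

end Cfsg.Agent.Lib.Helper8
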