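import Mathlib
import Cfsg.Prelude

set_option autoImplicit false

namespace Cfsg.Agent.Lib.Helper8

open scoped commutatorElement

section
variable {T : Type*} [Group T]

/-- the elements of order dividing `p` (or `4` when `p = 2`) -/
def SmallElt (p : ℕ) (x : T) : Prop := x ^ p = 1 ∨ (p = 2 ∧ x ^ 4 = 1)

theorem coprime_fix {p : ℕ} (hT : IsPGroup p T) (α : MulAut T) {m : ℕ} (hm : m.Coprime p)
    (hαm : α ^ m = 1) {x : T} (h : α (x⁻¹ * α x) = x⁻¹ * α x) : α x = x := by
  have e : α x = x * (x⁻¹ * α x) := by group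
  have hpow : ∀ k : ℕ, (α ^ k) x = x * (x⁻¹ * α x) ^ k := by
    intro k
    induction k with
    | zero => simp
    | succ k ih =>
      rw [pow_succ', MulAut.mul_apply, ih, map_mul, map_pow, h, pow_succ']
      calc α x * (x⁻¹ * α x) ^ k = x * (x⁻¹ * α x) * (x⁻¹ * α x) ^ k := by rw [← e]
        _ = x * ((x⁻¹ * α x) * (x⁻¹ * α x) ^ k) := mul_assoc _ _ _
  have h1 := hpow m
  rw [hαm, MulAut.one_apply] at h1
  have hcm : (x⁻¹ * α x) ^ m = 1 := by
    have h2 : x * (x⁻¹ * α x) ^ m = x * 1 := by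
      rw [mul_one]
      exact h1.symm
    exact mul_left_cancel h2
  obtain ⟨k, hk⟩ := hT (x⁻¹ * α x)
  have hc1 : x⁻¹ * α x = 1 := by
    have h2 : orderOf (x⁻¹ * α x) ∣ m := orderOf_dvd_of_pow_eq_one hcm
    have h3 : orderOf (x⁻¹ * α x) ∣ p ^ k := orderOf_dvd_of_pow_eq_one hk
    have h4 : orderOf (x⁻¹ * α x) ∣ Nat.gcd m (p ^ k) := Nat.dvd_gcd h2 h3
    have h5 : Nat.gcd m (p ^ k) = 1 := Nat.Coprime.pow_right k hm
    rw [h5, Nat.dvd_one] at h4
    exact orderOf_eq_one_iff.mp h4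
  exact (inv_mul_eq_one.mp hc1).symm

/-- power of a product when the commutator is central -/
theorem class2_pow (x c z : T) (hz : z = x⁻¹ * c * x * c⁻¹) (hzx : Commute z x) (hzc : Commute z c)
    (n : ℕ) : (x * c) ^ n = x ^ n * c ^ n * z ^ (∑ i ∈ Finset.range n, i) := by
  have hconj : ∀ k : ℕ, c ^ k * x = x * z ^ k * c ^ k := by
    intro k
    have h1 : x⁻¹ * c * x = z * c := by
      rw [hz]
      group
    have h2 : (x⁻¹ * c * x) ^ k = x⁻¹ * c ^ k * x := by
      have := conj_pow (a := x⁻¹) (b := c) (i := k)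
      rw [inv_inv] at this
      exact this
    have h3 : (z * c) ^ k = z ^ k * c ^ k := hzc.mul_pow k
    calc c ^ k * x = x * (x⁻¹ * c ^ k * x) := by group
      _ = x * (z ^ k * c ^ k) := by rw [← h2, h1, h3]
      _ = x * z ^ k * c ^ k := (mul_assoc _ _ _).symm
  induction n with
  | zero => simp
  | succ n ih =>
    have e1 : (x * c) ^ (n + 1) = (x * c) ^ n * (x * c) := pow_succ _ _
    have e2 : ∑ i ∈ Finset.range (n + 1), i = (∑ i ∈ Finset.range n, i) + n :=
      Finset.sum_range_succ _ _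
    rw [e1, ih, e2]
    have hzx' : Commute (z ^ (∑ i ∈ Finset.range n, i)) x := hzx.pow_left _
    have hzc' : Commute (z ^ n) (c ^ n) := (hzc.pow_left n).pow_right n
    have hzc'' : Commute (z ^ n) c := hzc.pow_left n
    have hzz : Commute (z ^ (∑ i ∈ Finset.range n, i)) c := hzc.pow_left _
    calc x ^ n * c ^ n * z ^ (∑ i ∈ Finset.range n, i) * (x * c)
        = x ^ n * c ^ n * (z ^ (∑ i ∈ Finset.range n, i) * x) * c := by group
      _ = x ^ n * c ^ n * (x * z ^ (∑ i ∈ Finset.range n, i)) * c := by rw [hzx'.eq]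
      _ = x ^ n * (c ^ n * x) * z ^ (∑ i ∈ Finset.range n, i) * c := by group
      _ = x ^ n * (x * z ^ n * c ^ n) * z ^ (∑ i ∈ Finset.range n, i) * c := by rw [hconj n]
      _ = x ^ n * x * (z ^ n * c ^ n) * (z ^ (∑ i ∈ Finset.range n, i) * c) := by group
      _ = x ^ n * x * (c ^ n * z ^ n) * (c * z ^ (∑ i ∈ Finset.range n, i)) := by
        rw [hzc'.eq, hzz.eq]
      _ = x ^ n * x * c ^ n * (z ^ n * c) * z ^ (∑ i ∈ Finset.range n, i) := by group
      _ = x ^ n * x * c ^ n * (c * z ^ n) * z ^ (∑ i ∈ Finset.range n, i) := by rw [hzc''.eq]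
      _ = x ^ (n + 1) * c ^ (n + 1) * z ^ ((∑ i ∈ Finset.range n, i) + n) := by
        rw [pow_succ x n, pow_succ c n, pow_add z]
        group

theorem exists_index_p {p : ℕ} [Fact p.Prime] [Finite T] (hT : IsPGroup p T) (W : Subgroup T)
    (hW : W ≠ ⊥) :
    ∃ H : Subgroup T, H ≤ W ∧ Nat.card H < Nat.card W ∧ ⁅W, W⁆ ≤ H ∧ ∀ x ∈ W, x ^ p ∈ H := by
  have hp : p.Prime := Fact.out
  have hWp : IsPGroup p W := hT.to_subgroup W
  obtain ⟨n, hn⟩ := IsPGroup.iff_card.mp hWp
  have hn0 : n ≠ 0 := by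
    intro h0
    rw [h0, pow_zero] at hn
    exact hW (Subgroup.card_eq_one.mp hn)
  obtain ⟨k, hk⟩ := Nat.exists_eq_succ_of_ne_zero hn0
  rw [hk] at hn
  obtain ⟨H₀, hH₀⟩ := Sylow.exists_subgroup_card_pow_prime (G := W) p (n := k)
    (by rw [hn]; exact pow_dvd_pow p (Nat.le_succ k))
  have hidx : H₀.index = p := by
    have h1 := Subgroup.card_mul_index H₀
    rw [hH₀, hn, pow_succ] at h1
    exact Nat.eq_of_mul_eq_mul_left (pow_pos hp.pos k) h1
  haveI hnorm : H₀.Normal := by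
    apply Subgroup.normal_of_index_eq_minFac_card
    rw [hidx, hn, Nat.pow_minFac (Nat.succ_ne_zero k), hp.minFac_eq]
  have hcardQ : Nat.card (W ⧸ H₀) = p := by
    rw [← Subgroup.index_eq_card, hidx]
  haveI : IsCyclic (W ⧸ H₀) := isCyclic_of_prime_card hcardQ
  have hcomm : IsMulCommutative (W ⧸ H₀) := IsCyclic.isMulCommutative
  have hcle : _root_.commutator W ≤ H₀ :=
    Subgroup.Normal.quotient_commutative_iff_commutator_le.mp hcomm
  refine ⟨H₀.map W.subtype, ?_, ?_, ?_, ?_⟩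
  · rintro _ ⟨y, _, rfl⟩
    exact y.2
  · rw [Subgroup.card_map_of_injective W.subtype_injective, hH₀, hn]
    exact Nat.pow_lt_pow_right hp.one_lt (Nat.lt_succ_self k)
  · rw [← Subgroup.map_subtype_commutator]
    exact Subgroup.map_mono hcle
  · intro x hx
    refine ⟨⟨x, hx⟩ ^ p, ?_, rfl⟩
    have h1 : ((⟨x, hx⟩ : W) : W ⧸ H₀) ^ p = 1 := by
      rw [← hcardQ]
      exact pow_card_eq_one'
    rw [← QuotientGroup.mk_pow] at h1
    exact (QuotientGroup.eq_one_iff _).mp h1

/-- `z ^ n` for the commutator `z = x⁻¹ c x c⁻¹` commuting with `c` -/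
theorem zpow_id (x c z : T) (hz : z = x⁻¹ * c * x * c⁻¹) (hzc : Commute z c) (n : ℕ) :
    z ^ n = x⁻¹ * c ^ n * x * (c ^ n)⁻¹ := by
  have h1 : x⁻¹ * c * x = z * c := by
    rw [hz]
    group
  have h2 : (x⁻¹ * c * x) ^ n = x⁻¹ * c ^ n * x := by
    have := conj_pow (a := x⁻¹) (b := c) (i := n)
    rw [inv_inv] at this
    exact this
  have h3 : (z * c) ^ n = z ^ n * c ^ n := hzc.mul_pow n
  rw [← h2, h1, h3]
  group

/-- a `p'`-automorphism of a finite `p`-group stabilising a subgroup `W` and fixing its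
elements of order `p` (or `4`) fixes `W` pointwise -/
theorem gl1_aux {p : ℕ} [Fact p.Prime] [Finite T] (hT : IsPGroup p T) (α : MulAut T) {m : ℕ}
    (hm : m.Coprime p) (hαm : α ^ m = 1) :
    ∀ (n : ℕ) (W : Subgroup T), Nat.card W = n → (∀ x ∈ W, α x ∈ W) →
      (∀ x ∈ W, SmallElt p x → α x = x) → ∀ x ∈ W, α x = x := by
  have hp : p.Prime := Fact.out
  intro n
  induction n using Nat.strong_induction_on with
  | _ n ih =>
  intro W hWn hinv hfix
  obtain ⟨K, hKdef⟩ : ∃ K : Subgroup T, K = Subgroup.closure {y | ∃ x ∈ W, y = x⁻¹ * α x} :=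
    ⟨_, rfl⟩
  have hKW : K ≤ W := by
    rw [hKdef, Subgroup.closure_le]
    rintro _ ⟨x, hx, rfl⟩
    exact W.mul_mem (W.inv_mem hx) (hinv x hx)
  have hKinv : ∀ y ∈ K, α y ∈ K := by
    intro y hy
    rw [hKdef] at hy ⊢
    induction hy using Subgroup.closure_induction with
    | mem y hy =>
      obtain ⟨x, hx, rfl⟩ := hy
      apply Subgroup.subset_closure
      refine ⟨α x, hinv x hx, ?_⟩
      rw [map_mul, map_inv]
    | one => rw [map_one]; exact Subgroup.one_mem _
    | mul a b _ _ ha hb => rw [map_mul]; exact Subgroup.mul_mem _ ha hb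
    | inv a _ ha => rw [map_inv]; exact Subgroup.inv_mem _ ha
  have hgen : ∀ x ∈ W, x⁻¹ * α x ∈ K := by
    intro x hx
    rw [hKdef]
    exact Subgroup.subset_closure ⟨x, hx, rfl⟩
  by_cases hlt : Nat.card K < Nat.card W
  · have hK := ih (Nat.card K) (hWn ▸ hlt) K rfl hKinv (fun x hx hs => hfix x (hKW hx) hs)
    intro x hx
    exact coprime_fix hT α hm hαm (hK _ (hgen x hx))
  · have hKeq : K = W := Subgroup.eq_of_le_of_card_ge hKW (not_lt.mp hlt)
    by_cases hbot : W = ⊥
    · intro x hx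
      rw [hbot, Subgroup.mem_bot] at hx
      rw [hx, map_one]
    obtain ⟨H, hHW, hHlt, hcH, hpH⟩ := exists_index_p hT W hbot
    have hW'inv : ∀ y ∈ ⁅W, W⁆, α y ∈ ⁅W, W⁆ := by
      intro y hy
      have h1 : α y ∈ (⁅W, W⁆).map α.toMonoidHom := ⟨y, hy, rfl⟩
      rw [Subgroup.map_commutator] at h1
      have h2 : W.map α.toMonoidHom ≤ W := by
        rintro _ ⟨w, hw, rfl⟩
        exact hinv w hw
      exact Subgroup.commutator_mono h2 h2 h1
    have hW'lt : Nat.card (⁅W, W⁆ : Subgroup T) < n := by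
      rw [← hWn]
      exact lt_of_le_of_lt (Subgroup.card_le_of_le hcH) hHlt
    have hW'fix := ih _ hW'lt ⁅W, W⁆ rfl hW'inv
      (fun x hx hs => hfix x (Subgroup.commutator_le_self W hx) hs)
    have hcent : ∀ w ∈ W, ∀ y ∈ ⁅W, W⁆, Commute w y := by
      intro w hw y hy
      rw [← hKeq, hKdef] at hw
      induction hw using Subgroup.closure_induction with
      | mem w hw =>
        obtain ⟨x, hx, rfl⟩ := hw
        have hyW : y ∈ W := Subgroup.commutator_le_self W hy
        have h1 : x * y * x⁻¹ ∈ ⁅W, W⁆ := by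
          have h0 : x * y * x⁻¹ = ⁅x, y⁆ * y := by rw [commutatorElement_def]; group
          rw [h0]
          exact Subgroup.mul_mem _ (Subgroup.commutator_mem_commutator hx hyW) hy
        have h2 := hW'fix _ h1
        rw [map_mul, map_mul, map_inv, hW'fix y hy] at h2
        show (x⁻¹ * α x) * y = y * (x⁻¹ * α x)
        calc (x⁻¹ * α x) * y = x⁻¹ * (α x * y * (α x)⁻¹) * α x := by group
          _ = x⁻¹ * (x * y * x⁻¹) * α x := by rw [h2]
          _ = y * (x⁻¹ * α x) := by group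
      | one => exact Commute.one_left y
      | mul a b _ _ ha hb => exact ha.mul_left hb
      | inv a _ ha => exact ha.inv_left
    obtain ⟨M, hMdef⟩ : ∃ M : Subgroup T, M = Subgroup.closure {y | ∃ x ∈ W, y = x ^ p} :=
      ⟨_, rfl⟩
    have hMH : M ≤ H := by
      rw [hMdef, Subgroup.closure_le]
      rintro _ ⟨x, hx, rfl⟩
      exact hpH x hx
    have hMinv : ∀ y ∈ M, α y ∈ M := by
      intro y hy
      rw [hMdef] at hy ⊢
      induction hy using Subgroup.closure_induction with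
      | mem y hy =>
        obtain ⟨x, hx, rfl⟩ := hy
        apply Subgroup.subset_closure
        refine ⟨α x, hinv x hx, ?_⟩
        rw [map_pow]
      | one => rw [map_one]; exact Subgroup.one_mem _
      | mul a b _ _ ha hb => rw [map_mul]; exact Subgroup.mul_mem _ ha hb
      | inv a _ ha => rw [map_inv]; exact Subgroup.inv_mem _ ha
    have hMlt : Nat.card M < n := by
      rw [← hWn]
      exact lt_of_le_of_lt (Subgroup.card_le_of_le hMH) hHlt
    have hMfix := ih _ hMlt M rfl hMinv (fun x hx hs => hfix x (hHW (hMH hx)) hs)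
    intro x hx
    have hxp : α (x ^ p) = x ^ p := by
      apply hMfix
      rw [hMdef]
      exact Subgroup.subset_closure ⟨x, hx, rfl⟩
    obtain ⟨c, hc⟩ : ∃ c : T, c = x⁻¹ * α x := ⟨_, rfl⟩
    have hcW : c ∈ W := by
      rw [hc]
      exact W.mul_mem (W.inv_mem hx) (hinv x hx)
    obtain ⟨z, hz⟩ : ∃ z : T, z = x⁻¹ * c * x * c⁻¹ := ⟨_, rfl⟩
    have hzW' : z ∈ ⁅W, W⁆ := by
      have h0 : z = ⁅x⁻¹, c⁆ := by rw [commutatorElement_def, inv_inv, hz]
      rw [h0]
      exact Subgroup.commutator_mem_commutator (W.inv_mem hx) hcW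
    have hzx : Commute z x := (hcent x hx z hzW').symm
    have hzc : Commute z c := (hcent c hcW z hzW').symm
    have hpow := class2_pow x c z hz hzx hzc p
    have hxc : x * c = α x := by rw [hc]; group
    rw [hxc, ← map_pow, hxp] at hpow
    have hcz : c ^ p * z ^ (∑ i ∈ Finset.range p, i) = 1 := by
      have h0 : x ^ p * 1 = x ^ p * (c ^ p * z ^ (∑ i ∈ Finset.range p, i)) := by
        rw [mul_one, ← mul_assoc]; exact hpow
      exact (mul_left_cancel h0).symm
    have hcpW' : c ^ p ∈ ⁅W, W⁆ := by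
      have h0 : c ^ p = (z ^ (∑ i ∈ Finset.range p, i))⁻¹ := eq_inv_of_mul_eq_one_left hcz
      rw [h0]
      exact Subgroup.inv_mem _ (Subgroup.pow_mem _ hzW' _)
    have hzp : z ^ p = 1 := by
      rw [zpow_id x c z hz hzc p]
      have h1 : Commute x (c ^ p) := hcent x hx _ hcpW'
      calc x⁻¹ * c ^ p * x * (c ^ p)⁻¹ = x⁻¹ * (c ^ p * x) * (c ^ p)⁻¹ := by group
        _ = x⁻¹ * (x * c ^ p) * (c ^ p)⁻¹ := by rw [h1.eq]
        _ = 1 := by group
    have hsmall : SmallElt p c := by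
      rcases hp.eq_two_or_odd' with h2 | hodd
      · right
        refine ⟨h2, ?_⟩
        rw [h2] at hcz hzp
        have ht : ∑ i ∈ Finset.range 2, i = 1 := by decide
        rw [ht, pow_one] at hcz
        have h0 : c ^ 2 = z⁻¹ := eq_inv_of_mul_eq_one_left hcz
        calc c ^ 4 = (c ^ 2) ^ 2 := by rw [← pow_mul]
          _ = (z⁻¹) ^ 2 := by rw [h0]
          _ = (z ^ 2)⁻¹ := inv_pow z 2
          _ = 1 := by rw [hzp, inv_one]
      · left
        obtain ⟨j, hj⟩ := hodd
        have ht : ∑ i ∈ Finset.range p, i = p * j := by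
          have h1 := Finset.sum_range_id_mul_two p
          have h2 : p - 1 = j * 2 := by omega
          rw [h2, ← mul_assoc] at h1
          exact Nat.eq_of_mul_eq_mul_right (by norm_num) h1
        rw [ht, pow_mul, hzp, one_pow, mul_one] at hcz
        exact hcz
    have hcfix : α c = c := hfix c hcW hsmall
    rw [hc] at hcfix
    exact coprime_fix hT α hm hαm hcfix

theorem gl1 {p : ℕ} [Fact p.Prime] [Finite T] (hT : IsPGroup p T) (α : MulAut T) {m : ℕ}
    (hm : m.Coprime p) (hαm : α ^ m = 1) (W : Subgroup T) (hinv : ∀ x ∈ W, α x ∈ W)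
    (hfix : ∀ x ∈ W, SmallElt p x → α x = x) : ∀ x ∈ W, α x = x :=
  gl1_aux hT α hm hαm _ W rfl hinv hfix

end

end Cfsg.Agent.Lib.Helper8
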