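import Cfsg.Agent.Lib.Helper8.GL2
import Cfsg.Agent.Lib.Helper8.Chain
import Cfsg.Agent.Lib.Helper8.Sat
import Cfsg.Agent.Lib.Helper8.Hyp
import Cfsg.Agent.Lib.Helper8.Alp
import Cfsg.Agent.S5124

set_option autoImplicit false
open Cfsg

namespace Cfsg.Agent.Lib.Helper8

open scoped commutatorElement

variable {Ω : Type*} [Group Ω] {S : Subgroup Ω}

/-- a descending central chain of `S`, as subgroups of the ambient group -/
theorem exists_central_chain [Finite S] {p : ℕ} [Fact p.Prime] (hS : IsPGroup p S) :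
    ∃ (k : ℕ) (C : ℕ → Subgroup Ω), C 0 = S ∧ C k = ⊥ ∧ (∀ i, C i ≤ S) ∧
      (∀ i, ∀ s ∈ S, ∀ x ∈ C i, s * x * s⁻¹ ∈ C i) ∧
      ∀ i, ∀ x ∈ C i, ∀ s ∈ S, x⁻¹ * (s * x * s⁻¹) ∈ C (i + 1) := by
  haveI : Group.IsNilpotent S := hS.isNilpotent
  obtain ⟨n, hn⟩ := Group.IsNilpotent.nilpotent (G := S)
  refine ⟨n, fun i => (Subgroup.upperCentralSeries S (n - i)).map S.subtype, ?_, ?_, ?_, ?_, ?_⟩
  · show (Subgroup.upperCentralSeries S (n - 0)).map S.subtype = S
    rw [Nat.sub_zero, hn, ← MonoidHom.range_eq_map, Subgroup.range_subtype]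
  · show (Subgroup.upperCentralSeries S (n - n)).map S.subtype = ⊥
    rw [Nat.sub_self, Subgroup.upperCentralSeries_zero, Subgroup.map_bot]
  · intro i
    exact Subgroup.map_subtype_le _
  · rintro i s hs _ ⟨z, hz, rfl⟩
    refine ⟨⟨s, hs⟩ * z * ⟨s, hs⟩⁻¹, ?_, rfl⟩
    exact (inferInstance : (Subgroup.upperCentralSeries S (n - i)).Normal).conj_mem z hz ⟨s, hs⟩
  · rintro i _ ⟨z, hz, rfl⟩ s hs
    by_cases hi : i < n
    · have e : n - i = (n - (i + 1)) + 1 := by omega
      have hz' : z ∈ Subgroup.upperCentralSeries S ((n - (i + 1)) + 1) := by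
        rw [← e]
        exact hz
      have h1 := Subgroup.mem_upperCentralSeries_succ_iff.mp (inv_mem hz') ⟨s, hs⟩
      refine ⟨_, h1, ?_⟩
      simp [commutatorElement_def, mul_assoc]
    · have e : n - i = 0 := by omega
      have hz' : z ∈ Subgroup.upperCentralSeries S 0 := by
        rw [← e]
        exact hz
      rw [Subgroup.upperCentralSeries_zero, Subgroup.mem_bot] at hz'
      rw [hz']
      simp

/-- S5298, local part: under the hypothesis, `p'`-elements of `Aut_F(U)` are trivial. -/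
theorem hyp_small_trivial [Finite S] {p : ℕ} [Fact p.Prime] (hS : IsPGroup p S)
    (F : FusionSystem S) (hF : F.IsSaturated p)
    (h : ∀ A B : Subgroup Ω, A ≤ (F.hyperfocalSubgroup p) → B ≤ (F.hyperfocalSubgroup p) →
      IsCyclic ↥A → (Nat.card ↥A = p ∨ Nat.card ↥A = 4) → IsCyclic ↥B →
      (Nat.card ↥B = p ∨ Nat.card ↥B = 4) →
      F.homSet A B ⊆ (innerFusionSystem S).Hom A)
    {U : Subgroup Ω} (hUS : U ≤ S) (α : MulAut U) (hα : α ∈ F.autGroup U) {m : ℕ}
    (hm : m.Coprime p) (hαm : α ^ m = 1) : α = 1 := by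
  haveI : Finite U := finite_of_le hUS
  have hUp : IsPGroup p U := hS.to_le hUS
  have hαF := (mem_autGroup_iff F hUS α).mp hα
  obtain ⟨k, C, hC0, hCk, hCS, hCn, hCc⟩ := exists_central_chain hS
  have hgen : ∀ x : U, (x : Ω)⁻¹ * ((α x : U) : Ω) ∈ F.hyperfocalSubgroup p := by
    intro x
    apply Subgroup.subset_closure
    refine ⟨U, ⟨α, hα⟩, x, hUS, ?_, rfl⟩
    apply mem_pResidual_of_pow_eq_one _ m hm
    exact Subtype.ext hαm
  have hVinv : ∀ x : U, (x : Ω) ∈ F.hyperfocalSubgroup p →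
      ((α x : U) : Ω) ∈ F.hyperfocalSubgroup p := by
    intro x hx
    have e : ((α x : U) : Ω) = (x : Ω) * ((x : Ω)⁻¹ * ((α x : U) : Ω)) := by group
    rw [e]
    exact Subgroup.mul_mem _ hx (hgen x)
  have hord : ∀ x : U, orderOf ((α x : U) : Ω) = orderOf (x : Ω) := by
    intro x
    rw [Subgroup.orderOf_coe, Subgroup.orderOf_coe]
    exact MulEquiv.orderOf_eq α x
  have hkey : ∀ x : U, (x : Ω) ∈ F.hyperfocalSubgroup p → SmallElt p (x : Ω) →
      ∃ g ∈ S, ((α x : U) : Ω) = g * x * g⁻¹ := by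
    intro x hx hs
    by_cases hx1 : (x : Ω) = 1
    · refine ⟨1, S.one_mem, ?_⟩
      have h0 : x = 1 := Subtype.ext hx1
      rw [h0, map_one]
      simp
    have hA : Subgroup.zpowers (x : Ω) ≤ F.hyperfocalSubgroup p := Subgroup.zpowers_le.mpr hx
    have hB : Subgroup.zpowers ((α x : U) : Ω) ≤ F.hyperfocalSubgroup p :=
      Subgroup.zpowers_le.mpr (hVinv x hx)
    have hAU : Subgroup.zpowers (x : Ω) ≤ U := Subgroup.zpowers_le.mpr x.2
    have hcardA : Nat.card (Subgroup.zpowers (x : Ω)) = p ∨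
        Nat.card (Subgroup.zpowers (x : Ω)) = 4 := by
      rw [Nat.card_zpowers]
      rcases hs with h1 | ⟨h2, h1⟩
      · left
        exact orderOf_eq_prime h1 hx1
      · have hd : orderOf (x : Ω) ∣ 2 ^ 2 := orderOf_dvd_of_pow_eq_one h1
        obtain ⟨j, hj, hj'⟩ := (Nat.dvd_prime_pow Nat.prime_two).mp hd
        have hj0 : j ≠ 0 := by
          intro h0
          rw [h0, pow_zero] at hj'
          exact hx1 (orderOf_eq_one_iff.mp hj')
        have hj12 : j = 1 ∨ j = 2 := by omega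
        rcases hj12 with h3 | h3
        · left
          rw [hj', h3, h2]
          rfl
        · right
          rw [hj', h3]
          rfl
    have hcardB : Nat.card (Subgroup.zpowers ((α x : U) : Ω)) = p ∨
        Nat.card (Subgroup.zpowers ((α x : U) : Ω)) = 4 := by
      rw [Nat.card_zpowers, hord x, ← Nat.card_zpowers]
      exact hcardA
    have hφ : (U.subtype.comp α.toMonoidHom).comp (Subgroup.inclusion hAU) ∈
        F.Hom (Subgroup.zpowers (x : Ω)) := fs_restrict F hAU hαF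
    have hφB : ∀ y : Subgroup.zpowers (x : Ω),
        ((U.subtype.comp α.toMonoidHom).comp (Subgroup.inclusion hAU)) y ∈
          Subgroup.zpowers ((α x : U) : Ω) := by
      rintro ⟨y, hy⟩
      obtain ⟨j, hj⟩ := Subgroup.mem_zpowers_iff.mp hy
      have e : (⟨y, hAU hy⟩ : U) = x ^ j := Subtype.ext (by rw [Subgroup.coe_zpow]; exact hj.symm)
      show ((α ⟨y, hAU hy⟩ : U) : Ω) ∈ _
      rw [e, map_zpow, Subgroup.coe_zpow]
      exact Subgroup.zpow_mem_zpowers _ j
    have h1 := h _ _ hA hB inferInstance hcardA inferInstance hcardB ⟨hφ, hφB⟩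
    obtain ⟨-, g, hg, hgx⟩ := h1
    exact ⟨g, hg, hgx ⟨x, Subgroup.mem_zpowers _⟩⟩
  have hfix : ∀ x ∈ (F.hyperfocalSubgroup p).subgroupOf U, α x = x := by
    apply gl2 hUp α hm hαm (fun i => (C i).subgroupOf U) k
    · show (C k).subgroupOf U = ⊥
      rw [hCk]
      exact Subgroup.bot_subgroupOf (H := U)
    · intro i
      constructor
      intro n hn g
      exact hCn i g (hUS g.2) n hn
    · intro x _
      show (x : Ω) ∈ C 0
      rw [hC0]
      exact hUS x.2
    · intro x hx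
      exact hVinv x hx
    · intro x hx hs i hxi
      have hs' : SmallElt p (x : Ω) := by
        rcases hs with h1 | ⟨h2, h1⟩
        · left
          rw [← Subgroup.coe_pow, h1]
          rfl
        · right
          refine ⟨h2, ?_⟩
          rw [← Subgroup.coe_pow, h1]
          rfl
      obtain ⟨g, hg, hgx⟩ := hkey x hx hs'
      show (x : Ω)⁻¹ * ((α x : U) : Ω) ∈ C (i + 1)
      rw [hgx]
      exact hCc i x hxi g hg
  apply MulEquiv.ext
  intro x
  have h1 : x⁻¹ * α x ∈ (F.hyperfocalSubgroup p).subgroupOf U := hgen x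
  have h3 := coprime_fix hUp α hm hαm (hfix _ h1)
  rw [h3]
  rfl

/-- S5298 -/
theorem hyp_small_inner [Finite S] {p : ℕ} [Fact p.Prime] (hS : IsPGroup p S)
    (F : FusionSystem S) (hF : F.IsSaturated p)
    (h : ∀ A B : Subgroup Ω, A ≤ (F.hyperfocalSubgroup p) → B ≤ (F.hyperfocalSubgroup p) →
      IsCyclic ↥A → (Nat.card ↥A = p ∨ Nat.card ↥A = 4) → IsCyclic ↥B →
      (Nat.card ↥B = p ∨ Nat.card ↥B = 4) →
      F.homSet A B ⊆ (innerFusionSystem S).Hom A) :
    ∀ P : Subgroup Ω, F.Hom P = (innerFusionSystem S).Hom P := by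
  have hle : F ≤ innerFusionSystem S := by
    apply alperin_ind_cr hS F hF
    intro R hfn hfa hrec hcen hrad _ α hα
    have hRS := hcen.1
    haveI : Finite R := finite_of_le hRS
    haveI : Finite (MulAut R) := finite_mulAut R
    have hαA : α ∈ F.autGroup R := (mem_autGroup_iff F hRS α).mpr hα
    have hpg : IsPGroup p (F.autGroup R) :=
      isPGroup_of_coprime_trivial (F.autGroup R)
        (fun y hy m hm hym => hyp_small_trivial hS F hF h hRS y hy hm hym)
    obtain ⟨-, P₁, hP₁⟩ := hfa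
    have htop : (P₁ : Subgroup (F.autGroup R)) = ⊤ :=
      (P₁.is_maximal' (hpg.to_subgroup ⊤) le_top).symm
    have hmem : (⟨α, hαA⟩ : F.autGroup R) ∈ (P₁ : Subgroup (F.autGroup R)) := by
      rw [htop]
      trivial
    rw [hP₁] at hmem
    have hmem' : α ∈ autInducedBy S R := Subgroup.mem_subgroupOf.mp hmem
    obtain ⟨g, hg, hgx⟩ := (mem_autInducedBy_iff S R α).mp hmem'
    exact ⟨hRS, g, hg, hgx⟩
  intro P
  exact Set.Subset.antisymm (hle P) (inner_le F P)

end Cfsg.Agent.Lib.Helper8
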