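import Cfsg.Agent.Lib.Helper8.GL3
import Cfsg.Agent.Lib.Helper8.Chain
import Cfsg.Agent.Lib.Helper8.Sat
import Cfsg.Agent.Lib.Helper8.Hyp
import Cfsg.Agent.S5124

set_option autoImplicit false
open Cfsg

namespace Cfsg.Agent.Lib.Helper8

open scoped commutatorElement

variable {Ω : Type*} [Group Ω] {S : Subgroup Ω}

/-- a descending central chain of `S` whose terms are stable under automorphisms of `S` -/
theorem exists_central_chain2 [Finite S] {p : ℕ} [Fact p.Prime] (hS : IsPGroup p S) :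
    ∃ (k : ℕ) (C : ℕ → Subgroup Ω), C 0 = S ∧ C k = ⊥ ∧ (∀ i, C i ≤ S) ∧
      (∀ i, ∀ s ∈ S, ∀ x ∈ C i, s * x * s⁻¹ ∈ C i) ∧
      (∀ i, ∀ x ∈ C i, ∀ s ∈ S, x⁻¹ * (s * x * s⁻¹) ∈ C (i + 1)) ∧
      ∀ i, ∀ σ : S ≃* S, ∀ x : S, (x : Ω) ∈ C i → ((σ x : S) : Ω) ∈ C i := by
  haveI : Group.IsNilpotent S := hS.isNilpotent
  obtain ⟨n, hn⟩ := Group.IsNilpotent.nilpotent (G := S)
  refine ⟨n, fun i => (Subgroup.upperCentralSeries S (n - i)).map S.subtype,
    ?_, ?_, ?_, ?_, ?_, ?_⟩
  · show (Subgroup.upperCentralSeries S (n - 0)).map S.subtype = S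
    rw [Nat.sub_zero, hn, ← MonoidHom.range_eq_map, Subgroup.range_subtype]
  · show (Subgroup.upperCentralSeries S (n - n)).map S.subtype = ⊥
    rw [Nat.sub_self, Subgroup.upperCentralSeries_zero, Subgroup.map_bot]
  · intro i
    exact Subgroup.map_subtype_le _
  · rintro i s hs _ ⟨z, hz, rfl⟩
    refine ⟨⟨s, hs⟩ * z * ⟨s, hs⟩⁻¹, ?_, rfl⟩
    exact (inferInstance : (Subgroup.upperCentralSeries S (n - i)).Normal).conj_mem z hz ⟨s, hs⟩
  · rintro i _ ⟨z, hz, rfl⟩ s hs
    by_cases hi : i < n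
    · have e : n - i = (n - (i + 1)) + 1 := by omega
      have hz' : z ∈ Subgroup.upperCentralSeries S ((n - (i + 1)) + 1) := by
        rw [← e]
        exact hz
      have h1 := Subgroup.mem_upperCentralSeries_succ_iff.mp (inv_mem hz') ⟨s, hs⟩
      refine ⟨_, h1, ?_⟩
      simp [commutatorElement_def, mul_assoc]
    · have e : n - i = 0 := by omega
      have hz' : z ∈ Subgroup.upperCentralSeries S 0 := by
        rw [← e]
        exact hz
      rw [Subgroup.upperCentralSeries_zero, Subgroup.mem_bot] at hz'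
      rw [hz']
      simp
  · rintro i σ x ⟨z, hz, hzx⟩
    have hzx' : z = x := Subtype.ext hzx
    rw [hzx'] at hz
    have h1 : (Subgroup.upperCentralSeries S (n - i)).map σ.toMonoidHom =
        Subgroup.upperCentralSeries S (n - i) :=
      Subgroup.characteristic_iff_map_eq.mp inferInstance σ
    have h2 : σ x ∈ Subgroup.upperCentralSeries S (n - i) := by
      rw [← h1]
      exact ⟨x, hz, rfl⟩
    exact ⟨σ x, h2, rfl⟩

/-- S5297 -/
theorem hyp_small_normal [Finite S] {p : ℕ} [Fact p.Prime] (hS : IsPGroup p S)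
    (F : FusionSystem S) (hF : F.IsSaturated p)
    (h : ∀ A B : Subgroup Ω, A ≤ (F.hyperfocalSubgroup p) → B ≤ (F.hyperfocalSubgroup p) →
      IsCyclic ↥A → (Nat.card ↥A = p ∨ Nat.card ↥A = 4) → IsCyclic ↥B →
      (Nat.card ↥B = p ∨ Nat.card ↥B = 4) →
      F.homSet A B ⊆ F.normalizerHom S A) :
    F.IsNormal S := by
  have hsc : F.StronglyClosed S := ⟨le_rfl, fun R hR φ hφ x => (F.le_of_mem hφ).2 x⟩
  apply normal_of_sc_of_le_cr hS F hF hsc
  intro U _ hUc hUr
  have hUS := hUc.1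
  haveI : Finite U := finite_of_le hUS
  haveI : Finite (MulAut U) := finite_mulAut U
  have hUp : IsPGroup p U := hS.to_le hUS
  obtain ⟨k, C, hC0, hCk, hCS, hCn, hCc, hCchar⟩ := exists_central_chain2 hS
  have hhsc := Cfsg.Agent.S5124.result p hS F hF
  have hVinv : ∀ α ∈ F.autGroup U, ∀ x : U, (x : Ω) ∈ F.hyperfocalSubgroup p →
      ((α x : U) : Ω) ∈ F.hyperfocalSubgroup p := by
    intro α hα x hx
    have hαF := (mem_autGroup_iff F hUS α).mp hα
    have hA : Subgroup.zpowers (x : Ω) ≤ F.hyperfocalSubgroup p := Subgroup.zpowers_le.mpr hx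
    have hAU : Subgroup.zpowers (x : Ω) ≤ U := Subgroup.zpowers_le.mpr x.2
    have hφ := fs_restrict F hAU hαF
    exact hhsc.2 _ hA _ hφ ⟨x, Subgroup.mem_zpowers _⟩
  have hkey : ∀ α ∈ F.autGroup U, ∀ x : U, (x : Ω) ∈ F.hyperfocalSubgroup p →
      SmallElt p (x : Ω) → ∀ i, (x : Ω) ∈ C i → ((α x : U) : Ω) ∈ C i := by
    intro α hα x hx hs i hxi
    by_cases hx1 : (x : Ω) = 1
    · have h0 : x = 1 := Subtype.ext hx1
      rw [h0, map_one]
      exact Subgroup.one_mem _
    have hαF := (mem_autGroup_iff F hUS α).mp hα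
    have hord : orderOf ((α x : U) : Ω) = orderOf (x : Ω) := by
      rw [Subgroup.orderOf_coe, Subgroup.orderOf_coe]
      exact MulEquiv.orderOf_eq α x
    have hA : Subgroup.zpowers (x : Ω) ≤ F.hyperfocalSubgroup p := Subgroup.zpowers_le.mpr hx
    have hB : Subgroup.zpowers ((α x : U) : Ω) ≤ F.hyperfocalSubgroup p :=
      Subgroup.zpowers_le.mpr (hVinv α hα x hx)
    have hAU : Subgroup.zpowers (x : Ω) ≤ U := Subgroup.zpowers_le.mpr x.2
    have hcardA : Nat.card (Subgroup.zpowers (x : Ω)) = p ∨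
        Nat.card (Subgroup.zpowers (x : Ω)) = 4 := by
      rw [Nat.card_zpowers]
      rcases hs with h1 | ⟨h2, h1⟩
      · left
        exact orderOf_eq_prime h1 hx1
      · have hd : orderOf (x : Ω) ∣ 2 ^ 2 := orderOf_dvd_of_pow_eq_one h1
        obtain ⟨j, hj, hj'⟩ := (Nat.dvd_prime_pow Nat.prime_two).mp hd
        have hj0 : j ≠ 0 := by
          intro h0
          rw [h0, pow_zero] at hj'
          exact hx1 (orderOf_eq_one_iff.mp hj')
        have hj12 : j = 1 ∨ j = 2 := by omega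
        rcases hj12 with h3 | h3
        · left
          rw [hj', h3, h2]
          rfl
        · right
          rw [hj', h3]
          rfl
    have hcardB : Nat.card (Subgroup.zpowers ((α x : U) : Ω)) = p ∨
        Nat.card (Subgroup.zpowers ((α x : U) : Ω)) = 4 := by
      rw [Nat.card_zpowers, hord, ← Nat.card_zpowers]
      exact hcardA
    have hφ : (U.subtype.comp α.toMonoidHom).comp (Subgroup.inclusion hAU) ∈
        F.Hom (Subgroup.zpowers (x : Ω)) := fs_restrict F hAU hαF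
    have hφB : ∀ y : Subgroup.zpowers (x : Ω),
        ((U.subtype.comp α.toMonoidHom).comp (Subgroup.inclusion hAU)) y ∈
          Subgroup.zpowers ((α x : U) : Ω) := by
      rintro ⟨y, hy⟩
      obtain ⟨j, hj⟩ := Subgroup.mem_zpowers_iff.mp hy
      have e : (⟨y, hAU hy⟩ : U) = x ^ j := Subtype.ext (by rw [Subgroup.coe_zpow]; exact hj.symm)
      show ((α ⟨y, hAU hy⟩ : U) : Ω) ∈ _
      rw [e, map_zpow, Subgroup.coe_zpow]
      exact Subgroup.zpow_mem_zpowers _ j
    have h1 := h _ _ hA hB inferInstance hcardA inferInstance hcardB ⟨hφ, hφB⟩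
    obtain ⟨-, -, -, ψ, hψ, hext, -⟩ := h1
    have hψS : ∀ s : S, (ψ.comp (Subgroup.inclusion le_sup_right)) s ∈ S :=
      fun s => (F.le_of_mem hψ).2 _
    have hinj : Function.Injective
        ((ψ.comp (Subgroup.inclusion le_sup_right)).codRestrict S hψS) := by
      intro a b hab
      have h2 : ψ (Subgroup.inclusion le_sup_right a) = ψ (Subgroup.inclusion le_sup_right b) :=
        congrArg Subtype.val hab
      exact Subgroup.inclusion_injective _ (F.injective_of_mem hψ h2)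
    have hbij : Function.Bijective
        ((ψ.comp (Subgroup.inclusion le_sup_right)).codRestrict S hψS) :=
      ⟨hinj, Finite.injective_iff_surjective.mp hinj⟩
    have hσ := hCchar i (MulEquiv.ofBijective _ hbij) ⟨x, hUS x.2⟩ hxi
    have e : ((MulEquiv.ofBijective _ hbij ⟨(x : Ω), hUS x.2⟩ : S) : Ω) = ((α x : U) : Ω) := by
      show ψ (Subgroup.inclusion le_sup_right ⟨(x : Ω), hUS x.2⟩) = _
      have e1 : (Subgroup.inclusion le_sup_right ⟨(x : Ω), hUS x.2⟩ :
          ↥(Subgroup.zpowers (x : Ω) ⊔ S)) =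
          Subgroup.inclusion le_sup_left ⟨(x : Ω), Subgroup.mem_zpowers _⟩ := Subtype.ext rfl
      rw [e1, hext]
      rfl
    rw [← e]
    exact hσ
  obtain ⟨P₀, hP₀def⟩ : ∃ P₀ : Set (MulAut U),
      P₀ = {γ | ∃ t ∈ S, ∀ x : U, ((γ x : U) : Ω) = t * x * t⁻¹} := ⟨_, rfl⟩
  have hP₀A : P₀ ⊆ F.autGroup U := by
    rw [hP₀def]
    rintro γ ⟨t, ht, hγ⟩
    exact autInducedBy_le_autGroup F hUS ((mem_autInducedBy_iff S U γ).mpr ⟨t, ht, hγ⟩)
  have hfix := pclosure_fix_aux hUp (F.autGroup U) P₀ hP₀A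
    ((F.hyperfocalSubgroup p).subgroupOf U) (fun i => (C i).subgroupOf U) k
    (by
      show (C k).subgroupOf U = ⊥
      rw [hCk]
      exact Subgroup.bot_subgroupOf (H := U))
    (by
      intro i
      constructor
      intro n hn g
      exact hCn i g (hUS g.2) n hn)
    (by
      intro x _
      show (x : Ω) ∈ C 0
      rw [hC0]
      exact hUS x.2)
    (by
      intro α hα x hx hs i hxi
      have hs' : SmallElt p (x : Ω) := by
        rcases hs with h1 | ⟨h2, h1⟩
        · left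
          rw [← Subgroup.coe_pow, h1]
          rfl
        · right
          refine ⟨h2, ?_⟩
          rw [← Subgroup.coe_pow, h1]
          rfl
      exact hkey α hα x hx hs' i hxi)
    (by
      intro γ hγ x hx i hxi
      rw [hP₀def] at hγ
      obtain ⟨t, ht, hγt⟩ := hγ
      show (x : Ω)⁻¹ * ((γ x : U) : Ω) ∈ C (i + 1)
      rw [hγt]
      exact hCc i x hxi t ht)
    _ ((F.hyperfocalSubgroup p).subgroupOf U) rfl le_rfl (fun α hα x hx => hVinv α hα x hx)
  obtain ⟨R, hRdef⟩ : ∃ R : Subgroup (MulAut U), R = Subgroup.closure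
      {δ : MulAut U | ∃ α ∈ F.autGroup U, ∃ γ ∈ P₀, δ = α * γ * α⁻¹} := ⟨_, rfl⟩
  rw [← hRdef] at hfix
  have hRA : R ≤ F.autGroup U := by
    rw [hRdef, Subgroup.closure_le]
    rintro _ ⟨α, hα, γ, hγ, rfl⟩
    exact Subgroup.mul_mem _ (Subgroup.mul_mem _ hα (hP₀A hγ)) (Subgroup.inv_mem _ hα)
  apply le_of_normal_pgroup_aut hS F hUc hUr (le_refl S)
    (fun s hs x hx => S.mul_mem (S.mul_mem hs hx) (S.inv_mem hs)) R hRA
  · intro β hβ α hα
    rw [hRdef] at hβ ⊢
    induction hβ using Subgroup.closure_induction with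
    | mem δ hδ =>
      obtain ⟨α', hα', γ, hγ, rfl⟩ := hδ
      apply Subgroup.subset_closure
      refine ⟨α * α', Subgroup.mul_mem _ hα hα', γ, hγ, ?_⟩
      group
    | one =>
      rw [mul_one, mul_inv_cancel]
      exact Subgroup.one_mem _
    | mul a b _ _ ha hb =>
      have e : α * (a * b) * α⁻¹ = (α * a * α⁻¹) * (α * b * α⁻¹) := by group
      rw [e]
      exact Subgroup.mul_mem _ ha hb
    | inv a _ ha =>
      have e : α * a⁻¹ * α⁻¹ = (α * a * α⁻¹)⁻¹ := by group
      rw [e]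
      exact Subgroup.inv_mem _ ha
  · apply isPGroup_of_coprime_trivial
    intro β hβ m hm hβm
    have hβA := hRA hβ
    have hgen : ∀ x : U, (x : Ω)⁻¹ * ((β x : U) : Ω) ∈ F.hyperfocalSubgroup p := by
      intro x
      apply Subgroup.subset_closure
      refine ⟨U, ⟨β, hβA⟩, x, hUS, ?_, rfl⟩
      apply mem_pResidual_of_pow_eq_one _ m hm
      exact Subtype.ext hβm
    apply MulEquiv.ext
    intro x
    have h1 : x⁻¹ * β x ∈ (F.hyperfocalSubgroup p).subgroupOf U := hgen x
    have h3 := coprime_fix hUp β hm hβm (hfix β hβ m hm hβm _ h1)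
    rw [h3]
    rfl
  · intro t ht α hα
    rw [hRdef]
    apply Subgroup.subset_closure
    refine ⟨1, Subgroup.one_mem _, α, ?_, ?_⟩
    · rw [hP₀def]
      exact ⟨t, ht, hα⟩
    · group

end Cfsg.Agent.Lib.Helper8
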