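import Mathlib
import Cfsg.Prelude.Def_Characters
import Cfsg.Agent.Lib.Lead.Char16
import Cfsg.Agent.Lib.Helper7.Vanish
import Cfsg.Agent.Lib.Helper7.PDeg
import Cfsg.Agent.Lib.Helper7.Codeg
import Cfsg.Agent.Lib.Helper8.KGV3
import Cfsg.Agent.S4558

set_option autoImplicit false

namespace Cfsg.Agent.Lib.Helper8

open Cfsg.Agent.Lib.Lead

theorem card_conjClasses_congr8 {A B : Type*} [Group A] [Group B] (e : A ≃* B) :
    Nat.card (ConjClasses A) = Nat.card (ConjClasses B) := by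
  apply Nat.card_congr
  refine Equiv.ofBijective (ConjClasses.map e.toMonoidHom)
    ⟨?_, ConjClasses.map_surjective e.surjective⟩
  intro C D h
  obtain ⟨x, rfl⟩ := ConjClasses.exists_rep C
  obtain ⟨y, rfl⟩ := ConjClasses.exists_rep D
  have h1 : ConjClasses.mk (e x) = ConjClasses.mk (e y) := h
  rw [ConjClasses.mk_eq_mk_iff_isConj] at h1 ⊢
  rw [isConj_iff] at h1 ⊢
  obtain ⟨c, hc⟩ := h1
  refine ⟨e.symm c, e.injective ?_⟩
  rw [map_mul, map_mul, map_inv, e.apply_symm_apply, hc]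

/-- irreducible characters do not vanish on a normal abelian Sylow subgroup -/
theorem irr_ne_zero_on_abelian_sylow8 {X : Type*} [Group X] [Finite X] (p : ℕ) [Fact p.Prime]
    (V : Subgroup X) [V.Normal] (hVp : IsPGroup p V) (hidx : ¬ p ∣ V.index)
    (hab : ∀ a ∈ V, ∀ b ∈ V, a * b = b * a) (χ : Cfsg.IrrCharacter X) (u : X) (hu : u ∈ V) :
    χ.1 u ≠ 0 := by
  intro h0
  have hPD := Cfsg.Agent.Lib.Helper7.PDeg.PD_of_normal_comm p V hab hidx
  apply hPD χ
  obtain ⟨j, hj⟩ := hVp ⟨u, hu⟩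
  have h1 : u ^ (p ^ j) = 1 := by
    have := congrArg Subtype.val hj
    simpa using this
  obtain ⟨k, -, hk⟩ := (Nat.dvd_prime_pow (Fact.out : p.Prime)).mp (orderOf_dvd_of_pow_eq_one h1)
  exact Cfsg.Agent.S4558.result p χ.1 (isCharacter_of_irr χ.2) u ⟨k, hk⟩ h0

/-- second orthogonality, diagonal, real form -/
theorem sum_norm_sq_irr8 {X : Type*} [Group X] [Fintype X] [Fintype (Cfsg.IrrCharacter X)]
    (g : X) :
    ∑ χ : Cfsg.IrrCharacter X, ‖χ.1 g‖ ^ 2
      = (Nat.card (Subgroup.centralizer ({g} : Set X)) : ℝ) := by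
  have h := col_orth' g g
  rw [if_pos (IsConj.refl g)] at h
  apply Complex.ofReal_injective
  rw [Complex.ofReal_natCast, ← h, Complex.ofReal_sum]
  apply Finset.sum_congr rfl
  intro χ _
  rw [Complex.mul_conj, Complex.normSq_eq_norm_sq]

/-- irreducible characters of the quotient vs characters trivial on `V` -/
theorem quot_irr_bij8 {X : Type*} [Group X] [Finite X] (V : Subgroup X) [V.Normal] :
    ∃ e : Cfsg.IrrCharacter (X ⧸ V) ≃ {χ : Cfsg.IrrCharacter X // ∀ u ∈ V, χ.1 u = χ.1 1},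
      ∀ ψ (g : X), (e ψ).1.1 g = ψ.1 (QuotientGroup.mk' V g) := by
  obtain ⟨F, hF⟩ : ∃ F : Cfsg.IrrCharacter (X ⧸ V) →
      {χ : Cfsg.IrrCharacter X // ∀ u ∈ V, χ.1 u = χ.1 1},
      ∀ ψ (g : X), (F ψ).1.1 g = ψ.1 (QuotientGroup.mk' V g) := by
    refine ⟨fun ψ => ⟨⟨fun g => ψ.1 (QuotientGroup.mk' V g),
      isIrrCharacter_comp_surj (QuotientGroup.mk' V) (QuotientGroup.mk'_surjective V) ψ.2⟩,
      fun u hu => ?_⟩, fun ψ g => rfl⟩
    show ψ.1 (QuotientGroup.mk' V u) = ψ.1 (QuotientGroup.mk' V 1)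
    have e1 : (QuotientGroup.mk' V u) = 1 := (QuotientGroup.eq_one_iff u).mpr hu
    rw [e1, map_one]
  have hbij : Function.Bijective F := by
    constructor
    · intro ψ ψ' h
      apply Subtype.ext
      funext q
      obtain ⟨g, rfl⟩ := QuotientGroup.mk'_surjective V q
      rw [← hF ψ g, ← hF ψ' g, h]
    · intro χ
      obtain ⟨ψ, hψ⟩ := Cfsg.Agent.Lib.Helper7.Codeg.exists_irr_quot χ.1 V χ.2
      refine ⟨ψ, Subtype.ext (Subtype.ext (funext fun g => ?_))⟩
      rw [hF ψ g]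
      exact hψ g
  exact ⟨Equiv.ofBijective F hbij, fun ψ g => hF ψ g⟩

theorem centralizer_pow_coprime8 {X : Type*} [Group X] [Finite X] (v : X) (m : ℕ)
    (hm : m.Coprime (Nat.card X)) :
    Subgroup.centralizer ({v ^ m} : Set X) = Subgroup.centralizer ({v} : Set X) := by
  have hm' : m.Coprime (orderOf v) := Nat.Coprime.coprime_dvd_right (orderOf_dvd_natCard v) hm
  obtain ⟨m', hm'⟩ := exists_pow_eq_self_of_coprime hm'
  ext k
  rw [Subgroup.mem_centralizer_singleton_iff, Subgroup.mem_centralizer_singleton_iff]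
  constructor
  · intro h
    have h1 : Commute k (v ^ m) := h
    have h2 := h1.pow_right m'
    rw [hm'] at h2
    exact h2
  · intro h
    have h1 : Commute k v := h
    exact h1.pow_right m

/-- the centralizer of `v ∈ V` in `X = V ⋊ G` -/
theorem card_centralizer_compl8 {X : Type*} [Group X] [Finite X] (V : Subgroup X)
    (hab : ∀ a ∈ V, ∀ b ∈ V, a * b = b * a) (G : Subgroup X)
    (hGV : Subgroup.IsComplement' V G) (v : X) (hv : v ∈ V) :
    Nat.card (Subgroup.centralizer ({v} : Set X))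
      = Nat.card ↥(G ⊓ Subgroup.centralizer ({v} : Set X)) * Nat.card V := by
  have hVC : ∀ u ∈ V, u ∈ Subgroup.centralizer ({v} : Set X) := by
    intro u hu
    rw [Subgroup.mem_centralizer_singleton_iff]
    exact hab u hu v hv
  rw [mul_comm, ← Nat.card_prod]
  symm
  apply Nat.card_congr
  refine Equiv.ofBijective
    (fun q : V × ↥(G ⊓ Subgroup.centralizer ({v} : Set X)) =>
      (⟨(q.1 : X) * (q.2 : X), mul_mem (hVC _ q.1.2) q.2.2.2⟩ :
        Subgroup.centralizer ({v} : Set X))) ⟨?_, ?_⟩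
  · rintro ⟨u1, g1⟩ ⟨u2, g2⟩ h
    have h1 : (u1 : X) * (g1 : X) = (u2 : X) * (g2 : X) := congrArg Subtype.val h
    obtain ⟨e1, e2⟩ := compl_unique8 V G hGV _ _ _ _ u1.2 u2.2 g1.2.1 g2.2.1 h1
    exact Prod.ext (Subtype.ext e1) (Subtype.ext e2)
  · rintro ⟨c, hc⟩
    obtain ⟨⟨u, g⟩, hug⟩ := hGV.2 c
    have hug' : (u : X) * (g : X) = c := hug
    have hg : (g : X) ∈ Subgroup.centralizer ({v} : Set X) := by
      have e : (g : X) = (u : X)⁻¹ * c := by rw [← hug']; group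
      rw [e]
      exact mul_mem (inv_mem (hVC _ u.2)) hc
    exact ⟨(u, ⟨g, ⟨g.2, hg⟩⟩), Subtype.ext hug'⟩

end Cfsg.Agent.Lib.Helper8
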