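import Mathlib
import Cfsg.Prelude.Def_Characters
import Cfsg.Agent.Lib.Helper8.KGV4

set_option autoImplicit false

namespace Cfsg.Agent.Lib.Helper8

open Cfsg.Agent.Lib.Lead

/-- S4955: Knörr-type bound `k(X) + |G| ≤ |C_G(v)| |V| + k(G)`. -/
theorem kgv_knorr8 {X : Type*} [Group X] [Finite X] (p : ℕ) [Fact p.Prime] (V : Subgroup X)
    [V.Normal] (hVp : IsPGroup p V) (hidx : ¬ p ∣ V.index)
    (hab : ∀ a ∈ V, ∀ b ∈ V, a * b = b * a) (G : Subgroup X)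
    (hGV : Subgroup.IsComplement' V G) (v : X) (hv : v ∈ V) :
    Nat.card (ConjClasses X) + Nat.card G
      ≤ Nat.card ↥(G ⊓ Subgroup.centralizer ({v} : Set X)) * Nat.card V
        + Nat.card (ConjClasses G) := by
  classical
  haveI : Fintype X := Fintype.ofFinite X
  haveI : Fintype (X ⧸ V) := Fintype.ofFinite _
  haveI : Fintype (Cfsg.IrrCharacter X) := Fintype.ofFinite _
  haveI : Fintype (Cfsg.IrrCharacter (X ⧸ V)) := Fintype.ofFinite _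
  -- the Galois orbit of v
  obtain ⟨A, hA⟩ : ∃ A : Finset X, A = Finset.univ.filter
      (fun g : X => ∃ m : ℕ, m.Coprime (Nat.card X) ∧ g = v ^ m) := ⟨_, rfl⟩
  have hAmem : ∀ g, g ∈ A ↔ ∃ m : ℕ, m.Coprime (Nat.card X) ∧ g = v ^ m := by
    intro g
    rw [hA, Finset.mem_filter]
    exact ⟨fun h => h.2, fun h => ⟨Finset.mem_univ _, h⟩⟩
  have hvA : v ∈ A := (hAmem v).mpr ⟨1, Nat.coprime_one_left _, (pow_one v).symm⟩
  have hAV : ∀ g ∈ A, g ∈ V := by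
    intro g hg
    obtain ⟨m, -, rfl⟩ := (hAmem g).mp hg
    exact pow_mem hv m
  have hAC : ∀ g ∈ A,
      Subgroup.centralizer ({g} : Set X) = Subgroup.centralizer ({v} : Set X) := by
    intro g hg
    obtain ⟨m, hm, rfl⟩ := (hAmem g).mp hg
    exact centralizer_pow_coprime8 v m hm
  have hApow : ∀ m : ℕ, m.Coprime (Nat.card X) → ∀ g ∈ A, g ^ m ∈ A := by
    intro m hm g hg
    obtain ⟨m0, hm0, rfl⟩ := (hAmem g).mp hg
    exact (hAmem _).mpr ⟨m0 * m, Nat.Coprime.mul_left hm0 hm, (pow_mul v m0 m).symm⟩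
  have hApos : (0 : ℝ) < A.card := by
    exact_mod_cast Finset.card_pos.mpr ⟨v, hvA⟩
  -- AM-GM for every χ
  have hamgm : ∀ χ : Cfsg.IrrCharacter X, (A.card : ℝ) ≤ ∑ g ∈ A, ‖χ.1 g‖ ^ 2 := by
    intro χ
    obtain ⟨n, ρ, hρ, hρχ⟩ := χ.2
    have h1 := Cfsg.Agent.Lib.Helper7.Van.amgm_sum ρ A (by
      intro g hg
      rw [hρχ]
      exact irr_ne_zero_on_abelian_sylow8 p V hVp hidx hab χ g (hAV g hg)) hApow
    rw [hρχ] at h1
    exact h1
  -- the two parts of Irr(X)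
  obtain ⟨T, hTdef⟩ : ∃ T : Finset (Cfsg.IrrCharacter X), T = Finset.univ.filter
      (fun χ : Cfsg.IrrCharacter X => ∀ u ∈ V, χ.1 u = χ.1 1) := ⟨_, rfl⟩
  obtain ⟨B, hBdef⟩ : ∃ B : Finset (Cfsg.IrrCharacter X), B = Finset.univ.filter
      (fun χ : Cfsg.IrrCharacter X => ¬ ∀ u ∈ V, χ.1 u = χ.1 1) := ⟨_, rfl⟩
  have hsplit : ∀ f : Cfsg.IrrCharacter X → ℝ, ∑ χ, f χ = ∑ χ ∈ T, f χ + ∑ χ ∈ B, f χ := by
    intro f
    rw [hTdef, hBdef]
    exact (Finset.sum_filter_add_sum_filter_not Finset.univ _ f).symm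
  have hcsplit : Fintype.card (Cfsg.IrrCharacter X) = T.card + B.card := by
    rw [hTdef, hBdef, Finset.card_filter_add_card_filter_not, Finset.card_univ]
  obtain ⟨e, he⟩ := quot_irr_bij8 V
  have hT : ∀ g ∈ A, ∑ χ ∈ T, ‖χ.1 g‖ ^ 2 = (Nat.card (X ⧸ V) : ℝ) := by
    intro g hg
    have h1 : ∑ χ ∈ T, ‖χ.1 g‖ ^ 2 = ∑ χ ∈ T, ‖χ.1 1‖ ^ 2 := by
      apply Finset.sum_congr rfl
      intro χ hχ
      rw [hTdef, Finset.mem_filter] at hχ
      rw [hχ.2 g (hAV g hg)]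
    rw [h1]
    have h2 : ∑ χ ∈ T, ‖χ.1 1‖ ^ 2
        = ∑ χ : {χ : Cfsg.IrrCharacter X // ∀ u ∈ V, χ.1 u = χ.1 1}, ‖χ.1.1 1‖ ^ 2 := by
      rw [hTdef, ← Finset.sum_subtype_eq_sum_filter, Finset.subtype_univ]
    rw [h2, ← Equiv.sum_comp e]
    have h3 : ∀ ψ : Cfsg.IrrCharacter (X ⧸ V), ‖(e ψ).1.1 1‖ ^ 2 = ‖ψ.1 1‖ ^ 2 := by
      intro ψ
      rw [he ψ 1, map_one]
    rw [Finset.sum_congr rfl (fun ψ _ => h3 ψ), sum_norm_sq_irr8 (1 : X ⧸ V)]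
    have h4 : Subgroup.centralizer ({(1 : X ⧸ V)} : Set (X ⧸ V)) = ⊤ := by
      ext k
      simp [Subgroup.mem_centralizer_singleton_iff]
    rw [h4, Subgroup.card_top]
  have hB : ∀ g ∈ A, ∑ χ ∈ B, ‖χ.1 g‖ ^ 2
      = (Nat.card (Subgroup.centralizer ({v} : Set X)) : ℝ) - (Nat.card (X ⧸ V) : ℝ) := by
    intro g hg
    have h1 := sum_norm_sq_irr8 g
    rw [hAC g hg, hsplit, hT g hg] at h1
    linarith
  have hmain : (A.card : ℝ) * (B.card : ℝ)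
      ≤ (A.card : ℝ) * ((Nat.card (Subgroup.centralizer ({v} : Set X)) : ℝ)
        - (Nat.card (X ⧸ V) : ℝ)) := by
    calc (A.card : ℝ) * (B.card : ℝ)
        = ∑ χ ∈ B, (A.card : ℝ) := by
          rw [Finset.sum_const, nsmul_eq_mul, mul_comm]
      _ ≤ ∑ χ ∈ B, ∑ g ∈ A, ‖χ.1 g‖ ^ 2 := Finset.sum_le_sum (fun χ _ => hamgm χ)
      _ = ∑ g ∈ A, ∑ χ ∈ B, ‖χ.1 g‖ ^ 2 := Finset.sum_comm
      _ = ∑ g ∈ A, ((Nat.card (Subgroup.centralizer ({v} : Set X)) : ℝ)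
            - (Nat.card (X ⧸ V) : ℝ)) := Finset.sum_congr rfl hB
      _ = _ := by rw [Finset.sum_const, nsmul_eq_mul]
  have hB2 : (B.card : ℝ) ≤ (Nat.card (Subgroup.centralizer ({v} : Set X)) : ℝ)
      - (Nat.card (X ⧸ V) : ℝ) := le_of_mul_le_mul_left hmain hApos
  have hcardX : Nat.card (ConjClasses X) = T.card + B.card := by
    rw [← card_irr, Nat.card_eq_fintype_card, hcsplit]
  have hcardT : T.card = Nat.card (ConjClasses G) := by
    rw [hTdef, ← Fintype.card_subtype, ← Nat.card_eq_fintype_card, ← Nat.card_congr e, card_irr]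
    exact card_conjClasses_congr8 hGV.symm.QuotientMulEquiv
  have hidxG : Nat.card (X ⧸ V) = Nat.card G := by
    rw [← Subgroup.index_eq_card]
    exact hGV.symm.index_eq_card
  have hC := card_centralizer_compl8 V hab G hGV v hv
  rw [hcardX, hcardT, ← hC]
  have h5 : (B.card : ℝ) + (Nat.card G : ℝ)
      ≤ (Nat.card (Subgroup.centralizer ({v} : Set X)) : ℝ) := by
    rw [← hidxG]
    linarith
  have h6 : B.card + Nat.card G ≤ Nat.card (Subgroup.centralizer ({v} : Set X)) := by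
    exact_mod_cast h5
  omega

end Cfsg.Agent.Lib.Helper8
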