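import Cfsg.Agent.Lib.Helper8.Model

set_option autoImplicit false
open Cfsg

namespace Cfsg.Agent.Lib.Helper8

variable {Ω : Type*} [Group Ω] {S : Subgroup Ω} {G : Type*} [Group G]

theorem pcore_lift (ι : S →* G) {p : ℕ} (T : Sylow p G)
    (hT : (T : Subgroup G) = ι.range) (z : G) (hz : z ∈ pCore p G) :
    ∃ y : S, (y : Ω) ∈ FusionSystem.preimageAlong ι (pCore p G) ∧ ι y = z := by
  have h1 : z ∈ ι.range := hT ▸ pCore_le_sylow' T hz
  obtain ⟨y, rfl⟩ := h1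
  exact ⟨y, (mem_preimageAlong ι _ y).mpr hz, rfl⟩

theorem model_normal (F : FusionSystem S) (ι : S →* G) (hr : F.IsRealizedBy ι) {p : ℕ}
    (T : Sylow p G) (hT : (T : Subgroup G) = ι.range) :
    F.IsNormal (FusionSystem.preimageAlong ι (pCore p G)) := by
  obtain ⟨hinj, hr⟩ := hr
  have hQS := preimageAlong_le ι (pCore p G)
  haveI := pCore_normal p G
  refine ⟨hQS, ?_⟩
  intro P φ hφ
  have hP := (F.le_of_mem hφ).1
  have hφS := (F.le_of_mem hφ).2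
  obtain ⟨g, hg⟩ := (hr P hP φ hφS).mp hφ
  have hPQS : P ⊔ FusionSystem.preimageAlong ι (pCore p G) ≤ S := sup_le hP hQS
  have hH : P ⊔ FusionSystem.preimageAlong ι (pCore p G) ≤
      ((ι.range.comap (MulAut.conj g).toMonoidHom).comap ι).map S.subtype := by
    apply sup_le
    · intro x hx
      refine ⟨⟨x, hP hx⟩, ?_, rfl⟩
      show g * ι ⟨x, hP hx⟩ * g⁻¹ ∈ ι.range
      rw [← hg ⟨x, hx⟩]
      exact ⟨_, rfl⟩
    · intro x hx
      refine ⟨⟨x, hQS hx⟩, ?_, rfl⟩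
      show g * ι ⟨x, hQS hx⟩ * g⁻¹ ∈ ι.range
      rw [← hT]
      apply pCore_le_sylow' T
      exact (pCore_normal p G).conj_mem _ ((mem_preimageAlong ι _ ⟨x, hQS hx⟩).mp hx) g
  have hmem : ∀ x : ↥(P ⊔ FusionSystem.preimageAlong ι (pCore p G)),
      ((MulAut.conj g).toMonoidHom.comp (ι.comp (Subgroup.inclusion hPQS))) x ∈ ι.range := by
    intro x
    obtain ⟨s, hs, hsx⟩ := hH x.2
    have e : Subgroup.inclusion hPQS x = s := Subtype.ext hsx.symm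
    show g * ι (Subgroup.inclusion hPQS x) * g⁻¹ ∈ ι.range
    rw [e]
    exact hs
  obtain ⟨ψ, hψe⟩ : ∃ ψ : ↥(P ⊔ FusionSystem.preimageAlong ι (pCore p G)) →* Ω,
      ∀ x, ψ x = invOn ι hinj ⟨g * ι ⟨x, hPQS x.2⟩ * g⁻¹, hmem x⟩ :=
    ⟨(invOn ι hinj).comp (((MulAut.conj g).toMonoidHom.comp
      (ι.comp (Subgroup.inclusion hPQS))).codRestrict ι.range hmem), fun x => rfl⟩
  have hψS : ∀ x, ψ x ∈ S := by
    intro x
    rw [hψe]
    exact invOn_mem ι hinj _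
  have hιψ : ∀ x, ι ⟨ψ x, hψS x⟩ = g * ι ⟨x, hPQS x.2⟩ * g⁻¹ := by
    intro x
    have e : (⟨ψ x, hψS x⟩ : S) =
        ⟨invOn ι hinj ⟨g * ι ⟨x, hPQS x.2⟩ * g⁻¹, hmem x⟩, invOn_mem ι hinj _⟩ :=
      Subtype.ext (hψe x)
    rw [e, apply_invOn ι hinj]
  refine ⟨ψ, (hr _ hPQS ψ hψS).mpr ⟨g, hιψ⟩, ?_, ?_⟩
  · intro x
    have h1 : (⟨ψ (Subgroup.inclusion le_sup_left x), hψS _⟩ : S) = ⟨φ x, hφS x⟩ := by
      apply hinj
      rw [hιψ, hg]
      rfl
    exact congrArg Subtype.val h1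
  · ext y
    constructor
    · rintro ⟨x, hx, rfl⟩
      refine (mem_preimageAlong ι _ ⟨ψ x, hψS x⟩).mpr ?_
      rw [hιψ]
      exact (pCore_normal p G).conj_mem _ ((mem_preimageAlong ι _ ⟨x, hPQS x.2⟩).mp hx) g
    · intro hy
      have hy' : ι ⟨y, hQS hy⟩ ∈ pCore p G := (mem_preimageAlong ι _ ⟨y, hQS hy⟩).mp hy
      have h1 : g⁻¹ * ι ⟨y, hQS hy⟩ * g⁻¹⁻¹ ∈ pCore p G :=
        (pCore_normal p G).conj_mem _ hy' g⁻¹
      obtain ⟨x, hxQ, hx⟩ := pcore_lift ι T hT _ h1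
      refine ⟨⟨x, le_sup_right (a := P) hxQ⟩, hxQ, ?_⟩
      have h2 : (⟨ψ ⟨x, le_sup_right (a := P) hxQ⟩, hψS _⟩ : S) = ⟨y, hQS hy⟩ := by
        apply hinj
        rw [hιψ]
        show g * ι x * g⁻¹ = _
        rw [hx]
        group
      exact congrArg Subtype.val h2

theorem model_centric (F : FusionSystem S) (ι : S →* G) (hr : F.IsRealizedBy ι) {p : ℕ}
    (T : Sylow p G) (hT : (T : Subgroup G) = ι.range)
    (hc : Subgroup.centralizer ((pCore p G : Subgroup G) : Set G) ≤ pCore p G) :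
    F.IsCentric (FusionSystem.preimageAlong ι (pCore p G)) := by
  obtain ⟨hinj, hr⟩ := hr
  have hQS := preimageAlong_le ι (pCore p G)
  refine ⟨hQS, ?_⟩
  rintro Q₂ ⟨φ, hφ, rfl⟩
  have hφS := (F.le_of_mem hφ).2
  obtain ⟨g, hg⟩ := (hr _ hQS φ hφS).mp hφ
  have hrange : φ.range = FusionSystem.preimageAlong ι (pCore p G) := by
    ext y
    constructor
    · rintro ⟨x, rfl⟩
      refine (mem_preimageAlong ι _ ⟨φ x, hφS x⟩).mpr ?_
      rw [hg]
      exact (pCore_normal p G).conj_mem _ (preimageAlong_map ι _ x) g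
    · intro hy
      have hy' : ι ⟨y, hQS hy⟩ ∈ pCore p G := (mem_preimageAlong ι _ ⟨y, hQS hy⟩).mp hy
      have h1 : g⁻¹ * ι ⟨y, hQS hy⟩ * g⁻¹⁻¹ ∈ pCore p G :=
        (pCore_normal p G).conj_mem _ hy' g⁻¹
      obtain ⟨x, hxQ, hx⟩ := pcore_lift ι T hT _ h1
      refine ⟨⟨x, hxQ⟩, ?_⟩
      have h2 : (⟨φ ⟨x, hxQ⟩, hφS _⟩ : S) = ⟨y, hQS hy⟩ := by
        apply hinj
        rw [hg]
        show g * ι x * g⁻¹ = _
        rw [hx]
        group
      exact congrArg Subtype.val h2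
  rw [hrange]
  intro x hx
  have hxS : x ∈ S := hx.1
  have hxC : x ∈ Subgroup.centralizer ((FusionSystem.preimageAlong ι (pCore p G) : Subgroup Ω) : Set Ω) := hx.2
  refine (mem_preimageAlong ι _ ⟨x, hxS⟩).mpr ?_
  apply hc
  rw [Subgroup.mem_centralizer_iff]
  intro z hz
  obtain ⟨y, hyQ, rfl⟩ := pcore_lift ι T hT z hz
  have h1 := (Subgroup.mem_centralizer_iff.mp hxC) y hyQ
  rw [← map_mul, ← map_mul]
  congr 1
  exact Subtype.ext h1

/-- A fusion system with a model is constrained. -/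
theorem model_constrained (p : ℕ) [Fact p.Prime] (F : FusionSystem S) (ι : S →* G)
    (hG : F.IsModel p G ι) : F.IsConstrained p := by
  obtain ⟨hfin, hr, ⟨T, hT⟩, hc⟩ := hG
  exact ⟨realized_saturated p F ι hr T hT, _, model_normal F ι hr T hT,
    model_centric F ι hr T hT hc⟩

end Cfsg.Agent.Lib.Helper8
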