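import Cfsg.Agent.Lib.Helper8.KSys7
import Cfsg.Agent.Lib.Helper8.Model2
import Cfsg.Agent.Lib.Helper8.NormSub

set_option autoImplicit false
open Cfsg

namespace Cfsg.Agent.Lib.Helper8

variable {Ω : Type*} [Group Ω] {S : Subgroup Ω}

/-- `Q` is normal in its normalizer system. -/
theorem normalizer_isNormal (F : FusionSystem S) {Q : Subgroup Ω} (hQ : Q ≤ S)
    (E : FusionSystem (FusionSystem.normalizerIn S Q)) (hE : F.IsNormalizerSystem Q E) :
    E.IsNormal Q := by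
  refine ⟨le_normalizerIn hQ, fun P φ hφ => ?_⟩
  rw [hE P] at hφ
  obtain ⟨hφF, hPD, hφD, ψ, hψ, hext, hmap⟩ := hφ
  refine ⟨ψ, ?_, hext, hmap⟩
  rw [hE (P ⊔ Q)]
  have hPQD : P ⊔ Q ≤ FusionSystem.normalizerIn S Q := sup_le hPD (le_normalizerIn hQ)
  have hψS := (F.le_of_mem hψ).2
  have hle : (P ⊔ Q) ⊔ Q ≤ P ⊔ Q := sup_le le_rfl le_sup_right
  refine ⟨hψ, hPQD, fun z => ⟨hψS z, ?_⟩, ψ.comp (Subgroup.inclusion hle),
    fs_restrict F hle hψ, fun x => rfl, ?_⟩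
  · have h1 := map_mem_normalizer ψ z (hPQD z.2).2
    rw [hmap] at h1
    exact h1
  · exact (map_subgroupOf_congr (A := (P ⊔ Q) ⊔ Q) (B := P ⊔ Q) le_sup_right le_sup_right
      (ψ.comp (Subgroup.inclusion hle)) ψ (fun q => rfl)).trans hmap

theorem normalizer_conj_self (F : FusionSystem S) {Q : Subgroup Ω}
    (E : FusionSystem (FusionSystem.normalizerIn S Q)) (hE : F.IsNormalizerSystem Q E)
    {Q' : Subgroup Ω} (h : E.IsConj Q Q') : Q' = Q := by
  obtain ⟨φ, hφ, rfl⟩ := h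
  rw [hE Q] at hφ
  obtain ⟨-, -, -, ψ, hψ, hext, hmap⟩ := hφ
  rw [← map_subgroupOf_eq_range le_sup_left ψ φ hext]
  exact hmap

theorem normalizer_autGroup (F : FusionSystem S) {Q : Subgroup Ω} (hQ : Q ≤ S)
    (E : FusionSystem (FusionSystem.normalizerIn S Q)) (hE : F.IsNormalizerSystem Q E) :
    E.autGroup Q = F.autGroup Q := by
  ext α
  rw [mem_autGroup_iff E (le_normalizerIn hQ), mem_autGroup_iff F hQ, hE Q]
  constructor
  · intro h
    exact h.1
  · intro h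
    have hle : Q ⊔ Q ≤ Q := sup_le le_rfl le_rfl
    refine ⟨h, le_normalizerIn hQ, fun x => le_normalizerIn hQ (α x).2,
      (Q.subtype.comp α.toMonoidHom).comp (Subgroup.inclusion hle),
      fs_restrict F hle h, fun x => rfl, ?_⟩
    rw [map_subgroupOf_eq_range le_sup_right _ (Q.subtype.comp α.toMonoidHom) (fun x => rfl)]
    exact range_subtype_comp_aut α

theorem normalizer_centric (F : FusionSystem S) {Q : Subgroup Ω} (hQc : F.IsCentric Q)
    (E : FusionSystem (FusionSystem.normalizerIn S Q)) (hE : F.IsNormalizerSystem Q E) :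
    E.IsCentric Q := by
  refine ⟨le_normalizerIn hQc.1, fun Q' hQ' => ?_⟩
  rw [normalizer_conj_self F E hE hQ']
  intro g hg
  exact hQc.2 Q (fs_isConj_refl F hQc.1) ⟨hg.1.1, hg.2⟩

theorem normalizer_radical (F : FusionSystem S) {p : ℕ} {Q : Subgroup Ω} (hQ : Q ≤ S)
    (hQr : F.IsRadical p Q)
    (E : FusionSystem (FusionSystem.normalizerIn S Q)) (hE : F.IsNormalizerSystem Q E) :
    E.IsRadical p Q := by
  refine ⟨le_normalizerIn hQ, ?_⟩
  rw [normalizer_autGroup F hQ E hE]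
  exact hQr.2

/-- In a model, the image of a subgroup normal in the system is a normal subgroup. -/
theorem model_image_normal {G : Type*} [Group G] (F : FusionSystem S) (ι : S →* G)
    (hr : F.IsRealizedBy ι) {p : ℕ} (T : Sylow p G) (hT : (T : Subgroup G) = ι.range)
    (hc : Subgroup.centralizer ((pCore p G : Subgroup G) : Set G) ≤ pCore p G)
    {R : Subgroup Ω} (hR : F.IsNormal R) : ((R.subgroupOf S).map ι).Normal := by
  obtain ⟨hinj, hr⟩ := hr
  have hQS := preimageAlong_le ι (pCore p G)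
  have hRS := hR.1
  have hsc := sc_conj_mem F (sc_of_normal F hR)
  constructor
  intro n hn g
  obtain ⟨r, hr', rfl⟩ := hn
  have hval : ∀ x : ↥(FusionSystem.preimageAlong ι (pCore p G)),
      g * ι ⟨x, hQS x.2⟩ * g⁻¹ ∈ ι.range := by
    intro x
    rw [← hT]
    apply pCore_le_sylow' T
    exact (pCore_normal p G).conj_mem _ (preimageAlong_map ι _ x) g
  obtain ⟨φ, hφe⟩ : ∃ φ : ↥(FusionSystem.preimageAlong ι (pCore p G)) →* Ω,
      ∀ x, φ x = invOn ι hinj ⟨g * ι ⟨x, hQS x.2⟩ * g⁻¹, hval x⟩ :=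
    ⟨(invOn ι hinj).comp ((((MulAut.conj g).toMonoidHom.comp ι).comp
      (Subgroup.inclusion hQS)).codRestrict ι.range hval), fun x => rfl⟩
  have hφS : ∀ x, φ x ∈ S := by
    intro x
    rw [hφe]
    exact invOn_mem ι hinj _
  have hφ : φ ∈ F.Hom _ := by
    rw [hr _ hQS φ hφS]
    refine ⟨g, fun x => ?_⟩
    have e : (⟨φ x, hφS x⟩ : S) = ⟨invOn ι hinj ⟨g * ι ⟨x, hQS x.2⟩ * g⁻¹, hval x⟩,
        invOn_mem ι hinj _⟩ := Subtype.ext (hφe x)
    rw [e, apply_invOn ι hinj]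
  obtain ⟨ψ, hψ, hext, hmap⟩ := hR.2 _ φ hφ
  have hψS := (F.le_of_mem hψ).2
  have hWS := (F.le_of_mem hψ).1
  obtain ⟨g', hg'⟩ := (hr _ hWS ψ hψS).mp hψ
  have hcen : g⁻¹ * g' ∈ Subgroup.centralizer ((pCore p G : Subgroup G) : Set G) := by
    rw [Subgroup.mem_centralizer_iff]
    intro z hz
    obtain ⟨y, hyQ, rfl⟩ := pcore_lift ι T hT z hz
    have h1 := hg' (Subgroup.inclusion le_sup_left ⟨y, hyQ⟩)
    have h2 : ι ⟨ψ (Subgroup.inclusion le_sup_left ⟨(y : Ω), hyQ⟩), hψS _⟩ = g * ι y * g⁻¹ := by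
      have e : (⟨ψ (Subgroup.inclusion le_sup_left ⟨(y : Ω), hyQ⟩), hψS _⟩ : S) =
          ⟨invOn ι hinj ⟨g * ι ⟨(y : Ω), hQS hyQ⟩ * g⁻¹, hval ⟨y, hyQ⟩⟩, invOn_mem ι hinj _⟩ := by
        apply Subtype.ext
        show ψ (Subgroup.inclusion le_sup_left ⟨(y : Ω), hyQ⟩) = _
        rw [hext, hφe]
      rw [e, apply_invOn ι hinj]
    rw [h2] at h1
    have h3 : g * ι y * g⁻¹ = g' * ι y * g'⁻¹ := h1
    calc ι y * (g⁻¹ * g') = g⁻¹ * (g * ι y * g⁻¹) * g' := by group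
      _ = g⁻¹ * (g' * ι y * g'⁻¹) * g' := by rw [h3]
      _ = g⁻¹ * g' * ι y := by group
  obtain ⟨q, hqQ, hq⟩ := pcore_lift ι T hT _ (hc hcen)
  have hg : g = g' * (ι q)⁻¹ := by
    rw [hq]
    group
  have hr'' : (q : Ω)⁻¹ * r * (q : Ω) ∈ R := by
    have h6 := hsc (q : Ω)⁻¹ (S.inv_mem q.2) r hr'
    rwa [inv_inv] at h6
  have h4 := hg' (Subgroup.inclusion le_sup_right ⟨(q : Ω)⁻¹ * r * (q : Ω), hr''⟩)
  have h5 : g * ι r * g⁻¹ = ι ⟨ψ (Subgroup.inclusion le_sup_right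
      ⟨(q : Ω)⁻¹ * r * (q : Ω), hr''⟩), hψS _⟩ := by
    rw [h4, hg]
    have e : (⟨((Subgroup.inclusion le_sup_right ⟨(q : Ω)⁻¹ * r * (q : Ω), hr''⟩ :
        ↥(FusionSystem.preimageAlong ι (pCore p G) ⊔ R)) : Ω), hWS (Subtype.property _)⟩ : S) =
        q⁻¹ * r * q := Subtype.ext rfl
    rw [e, map_mul, map_mul, map_inv]
    group
  rw [h5]
  refine ⟨_, ?_, rfl⟩
  show ψ (Subgroup.inclusion le_sup_right ⟨(q : Ω)⁻¹ * r * (q : Ω), hr''⟩) ∈ R
  exact hmap.le ⟨_, hr'', rfl⟩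

theorem normalizer_cr_constrained [Finite S] {p : ℕ} [Fact p.Prime] (hS : IsPGroup p S)
    (F : FusionSystem S) (hF : F.IsSaturated p) {R : Subgroup Ω} (hRn : F.IsFullyNormalized R)
    (hRc : F.IsCentric R) (hRr : F.IsRadical p R)
    (E : FusionSystem (FusionSystem.normalizerIn S R)) (hE : F.IsNormalizerSystem R E)
    {G : Type*} [Group G] (ι : ↥(FusionSystem.normalizerIn S R) →* G) :
    E.IsConstrained p ∧ (E.IsModel p G ι → (pCore p G : Subgroup G) =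
      (R.subgroupOf (FusionSystem.normalizerIn S R)).map ι) := by
  have hRS := hRn.1
  have hEn := normalizer_isNormal F hRS E hE
  have hEc := normalizer_centric F hRc E hE
  refine ⟨⟨normalizer_saturated hS F hF hRn E hE, R, hEn, hEc⟩, ?_⟩
  rintro ⟨hfin, hr, ⟨T, hT⟩, hc⟩
  haveI : Finite ↥(FusionSystem.normalizerIn S R) := finite_of_le inf_le_left
  have hSD : IsPGroup p ↥(FusionSystem.normalizerIn S R) := hS.to_le inf_le_left
  have hEr := normalizer_radical F hRS hRr E hE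
  have hQ₀n := model_normal E ι hr T hT
  have hQ₀R := normal_le_cr hSD E hQ₀n hEc hEr
  apply le_antisymm
  · intro z hz
    obtain ⟨y, hyQ, rfl⟩ := pcore_lift ι T hT z hz
    exact ⟨y, hQ₀R hyQ, rfl⟩
  · have hnorm := model_image_normal E ι hr T hT hc hEn
    apply le_pCore hnorm
    exact ((hS.to_le hRS).comap_subtype).map ι

end Cfsg.Agent.Lib.Helper8
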