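import Cfsg.Agent.Lib.Helper8.SatB
import Cfsg.Agent.Lib.Helper8.MorSat2
import Cfsg.Agent.Lib.Helper8.HypGen
import Cfsg.Agent.Lib.Helper8.CentralSub
import Cfsg.Agent.S5078

set_option autoImplicit false
open Cfsg

namespace Cfsg.Agent.Lib.Helper8

variable {Ω : Type*} [Group Ω] {S : Subgroup Ω}

/-- `N_S(Q)` (for `c` false) or `C_S(Q)` (for `c` true). -/
def dOf (S Q : Subgroup Ω) (c : Prop) : Subgroup Ω where
  carrier := {g | g ∈ FusionSystem.normalizerIn S Q ∧ (c → g ∈ Subgroup.centralizer (Q : Set Ω))}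
  one_mem' := ⟨Subgroup.one_mem _, fun _ => Subgroup.one_mem _⟩
  mul_mem' := fun ha hb =>
    ⟨Subgroup.mul_mem _ ha.1 hb.1, fun hc => Subgroup.mul_mem _ (ha.2 hc) (hb.2 hc)⟩
  inv_mem' := fun ha => ⟨Subgroup.inv_mem _ ha.1, fun hc => Subgroup.inv_mem _ (ha.2 hc)⟩

theorem dOf_false (S Q : Subgroup Ω) : dOf S Q False = FusionSystem.normalizerIn S Q := by
  ext g
  constructor
  · intro h
    exact h.1
  · intro h
    exact ⟨h, fun hc => hc.elim⟩

theorem dOf_true (S Q : Subgroup Ω) : dOf S Q True = FusionSystem.centralizerIn S Q := by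
  ext g
  constructor
  · intro h
    exact ⟨h.1.1, h.2 trivial⟩
  · intro h
    exact ⟨⟨h.1, Subgroup.centralizer_le_normalizer _ h.2⟩, fun _ => h.2⟩

theorem dOf_le (S Q : Subgroup Ω) (c : Prop) : dOf S Q c ≤ S := fun _ h => h.1.1

theorem dOf_le_normalizer (S Q : Subgroup Ω) (c : Prop) :
    dOf S Q c ≤ Subgroup.normalizer (Q : Set Ω) := fun _ h => h.1.2

/-- Automorphisms of `P ⊔ Q` stabilizing `P` and `Q` (and centralizing `Q` when `c` holds). -/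
def stabK (P Q : Subgroup Ω) (c : Prop) : Subgroup (MulAut ↥(P ⊔ Q)) where
  carrier := {α | (∀ x : ↥(P ⊔ Q), ((α x : ↥(P ⊔ Q)) : Ω) ∈ P ↔ (x : Ω) ∈ P) ∧
    (∀ x : ↥(P ⊔ Q), ((α x : ↥(P ⊔ Q)) : Ω) ∈ Q ↔ (x : Ω) ∈ Q) ∧
    (c → ∀ x : ↥(P ⊔ Q), (x : Ω) ∈ Q → α x = x)}
  one_mem' := ⟨fun _ => Iff.rfl, fun _ => Iff.rfl, fun _ _ _ => rfl⟩
  mul_mem' := by
    rintro α β ⟨ha1, ha2, ha3⟩ ⟨hb1, hb2, hb3⟩
    refine ⟨fun x => ?_, fun x => ?_, fun hc x hx => ?_⟩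
    · exact (ha1 (β x)).trans (hb1 x)
    · exact (ha2 (β x)).trans (hb2 x)
    · show α (β x) = x
      rw [hb3 hc x hx, ha3 hc x hx]
  inv_mem' := by
    rintro α ⟨ha1, ha2, ha3⟩
    refine ⟨fun x => ?_, fun x => ?_, fun hc x hx => ?_⟩
    · have h := ha1 (α⁻¹ x)
      rw [MulAut.apply_inv_self] at h
      exact h.symm
    · have h := ha2 (α⁻¹ x)
      rw [MulAut.apply_inv_self] at h
      exact h.symm
    · have h := ha3 hc x hx
      have h2 : α⁻¹ (α x) = α⁻¹ x := by rw [h]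
      rw [MulAut.inv_apply_self] at h2
      exact h2.symm

/-- Restriction of an element of `stabK` to `P`. -/
def resP (P Q : Subgroup Ω) (c : Prop) : ↥(stabK P Q c) →* MulAut P where
  toFun a :=
    { toFun := fun x => ⟨((a : MulAut ↥(P ⊔ Q)) ⟨x, Subgroup.mem_sup_left x.2⟩ : ↥(P ⊔ Q)),
        (a.2.1 _).mpr x.2⟩
      invFun := fun x => ⟨(((a⁻¹ : ↥(stabK P Q c)) : MulAut ↥(P ⊔ Q))
        ⟨x, Subgroup.mem_sup_left x.2⟩ : ↥(P ⊔ Q)), ((a⁻¹).2.1 _).mpr x.2⟩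
      left_inv := fun x => by
        apply Subtype.ext
        show (((a : MulAut ↥(P ⊔ Q))⁻¹ ((a : MulAut ↥(P ⊔ Q)) ⟨x, Subgroup.mem_sup_left x.2⟩) :
          ↥(P ⊔ Q)) : Ω) = x
        rw [MulAut.inv_apply_self]
      right_inv := fun x => by
        apply Subtype.ext
        show (((a : MulAut ↥(P ⊔ Q)) ((a : MulAut ↥(P ⊔ Q))⁻¹ ⟨x, Subgroup.mem_sup_left x.2⟩) :
          ↥(P ⊔ Q)) : Ω) = x
        rw [MulAut.apply_inv_self]
      map_mul' := fun x y => by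
        apply Subtype.ext
        show (((a : MulAut ↥(P ⊔ Q)) (⟨x, Subgroup.mem_sup_left x.2⟩ *
          ⟨y, Subgroup.mem_sup_left y.2⟩) : ↥(P ⊔ Q)) : Ω) = _
        rw [map_mul]
        rfl }
  map_one' := by
    ext x
    rfl
  map_mul' := fun a b => by
    ext x
    rfl

theorem resP_apply (P Q : Subgroup Ω) (c : Prop) (a : ↥(stabK P Q c)) (x : P) :
    ((resP P Q c a x : P) : Ω) =
      ((a : MulAut ↥(P ⊔ Q)) ⟨x, Subgroup.mem_sup_left x.2⟩ : ↥(P ⊔ Q)) := rfl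

/-- Elements normalizing `P` and `Q` normalize `P ⊔ Q`. -/
theorem normalizer_sup {P Q : Subgroup Ω} {g : Ω} (hP : g ∈ Subgroup.normalizer (P : Set Ω))
    (hQ : g ∈ Subgroup.normalizer (Q : Set Ω)) :
    g ∈ Subgroup.normalizer ((P ⊔ Q : Subgroup Ω) : Set Ω) := by
  rw [mem_normalizer_iff_cj, cj_sup, mem_normalizer_iff_cj.mp hP, mem_normalizer_iff_cj.mp hQ]

theorem nk_le_normalizerIn (S P Q : Subgroup Ω) (c : Prop) :
    FusionSystem.normalizerIn S P ⊓ dOf S Q c ≤ FusionSystem.normalizerIn S (P ⊔ Q) :=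
  fun _ h => ⟨h.1.1, normalizer_sup h.1.2 h.2.1.2⟩

theorem cent_le_nk (S P Q : Subgroup Ω) (c : Prop) :
    FusionSystem.centralizerIn S (P ⊔ Q) ≤ FusionSystem.normalizerIn S P ⊓ dOf S Q c := by
  intro g hg
  have hgP : g ∈ Subgroup.centralizer (P : Set Ω) :=
    Subgroup.centralizer_le (SetLike.coe_subset_coe.mpr le_sup_left) hg.2
  have hgQ : g ∈ Subgroup.centralizer (Q : Set Ω) :=
    Subgroup.centralizer_le (SetLike.coe_subset_coe.mpr le_sup_right) hg.2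
  exact ⟨⟨hg.1, Subgroup.centralizer_le_normalizer _ hgP⟩,
    ⟨hg.1, Subgroup.centralizer_le_normalizer _ hgQ⟩, fun _ => hgQ⟩

/-- `|N| = |C_S(R)| · |Aut_N(R)|` for `C_S(R) ≤ N ≤ N_S(R)`. -/
theorem card_eq_cent_mul_aut {R N : Subgroup Ω} (h1 : FusionSystem.centralizerIn S R ≤ N)
    (h2 : N ≤ FusionSystem.normalizerIn S R) :
    Nat.card N = Nat.card (FusionSystem.centralizerIn S R) * Nat.card (autInducedBy N R) := by
  have hNn : N ≤ Subgroup.normalizer (R : Set Ω) := fun g hg => (h2 hg).2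
  obtain ⟨f, hf⟩ : ∃ f : ↥N →* MulAut R, f = (normConj R).comp (Subgroup.inclusion hNn) :=
    ⟨_, rfl⟩
  have hrange : f.range = autInducedBy N R := by
    rw [autInducedBy_eq_map, hf]
    ext α
    constructor
    · rintro ⟨g, rfl⟩
      exact ⟨Subgroup.inclusion hNn g, g.2, rfl⟩
    · rintro ⟨n, hn, rfl⟩
      exact ⟨⟨n, hn⟩, rfl⟩
  have hfapp : ∀ (n : N) (x : R), ((f n x : R) : Ω) = (n : Ω) * x * (n : Ω)⁻¹ := by
    intro n x
    rw [hf]
    rfl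
  have hker : Nat.card f.ker = Nat.card (FusionSystem.centralizerIn S R) := by
    apply Nat.card_congr
    refine ⟨fun k => ⟨(k : N), ?_⟩, fun z => ⟨⟨z, h1 z.2⟩, ?_⟩, fun k => ?_, fun z => ?_⟩
    · have hk : f (k : N) = 1 := k.2
      refine ⟨(h2 (k : N).2).1, ?_⟩
      show ((k : N) : Ω) ∈ Subgroup.centralizer (R : Set Ω)
      rw [Subgroup.mem_centralizer_iff]
      intro x hx
      have h3 : ((f (k : N) ⟨x, hx⟩ : R) : Ω) = x := by rw [hk]; rfl
      rw [hfapp] at h3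
      have h4 : ((k : N) : Ω) * x * ((k : N) : Ω)⁻¹ = x := h3
      calc x * ((k : N) : Ω) = ((k : N) : Ω) * x * ((k : N) : Ω)⁻¹ * ((k : N) : Ω) := by rw [h4]
        _ = ((k : N) : Ω) * x := by group
    · rw [MonoidHom.mem_ker]
      ext x
      rw [hfapp]
      show (z : Ω) * x * (z : Ω)⁻¹ = x
      have h3 := (Subgroup.mem_centralizer_iff.mp z.2.2) x x.2
      rw [← h3]
      group
    · rfl
    · rfl
  have h3 := Subgroup.card_mul_index f.ker
  rw [Subgroup.index_ker, hker, hrange] at h3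
  exact h3.symm

end Cfsg.Agent.Lib.Helper8
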