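import Cfsg.Agent.Lib.Helper8.KSys1

set_option autoImplicit false
open Cfsg

namespace Cfsg.Agent.Lib.Helper8

variable {Ω : Type*} [Group Ω] {S : Subgroup Ω}

theorem autInd_nk_le (F : FusionSystem S) {P Q : Subgroup Ω} (hP : P ≤ S) (hQ : Q ≤ S)
    (c : Prop) :
    autInducedBy (FusionSystem.normalizerIn S P ⊓ dOf S Q c) (P ⊔ Q) ≤
      F.autGroup (P ⊔ Q) ⊓ stabK P Q c := by
  intro α hα
  obtain ⟨g, hg, hge⟩ := (mem_autInducedBy_iff _ _ α).mp hα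
  refine ⟨?_, ?_, ?_, ?_⟩
  · exact autInducedBy_le_autGroup F (sup_le hP hQ)
      ((mem_autInducedBy_iff S _ α).mpr ⟨g, hg.1.1, hge⟩)
  · intro x
    rw [hge x]
    exact ((Subgroup.mem_normalizer_iff.mp hg.1.2) x).symm
  · intro x
    rw [hge x]
    exact ((Subgroup.mem_normalizer_iff.mp hg.2.1.2) x).symm
  · intro hc x hx
    apply Subtype.ext
    rw [hge x]
    have h1 := (Subgroup.mem_centralizer_iff.mp (hg.2.2 hc)) x hx
    rw [← h1]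
    group

/-- A `p`-subgroup of `Aut_F(R)` becomes induced by `S` after moving `R` to a suitable fully
automized receptive conjugate. -/
theorem exists_sylow_map [Finite S] {p : ℕ} [Fact p.Prime] (F : FusionSystem S)
    (hF : F.IsSaturated p) {R : Subgroup Ω} (hRS : R ≤ S) {T₀ : Subgroup (MulAut R)}
    (hT₀ : T₀ ≤ F.autGroup R) (hT₀p : IsPGroup p T₀) :
    ∃ (R' : Subgroup Ω) (ψ' : R →* Ω), ψ' ∈ F.Hom R ∧ ψ'.range = R' ∧ F.IsReceptive R' ∧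
      ∀ α ∈ T₀, ∃ s ∈ S, ∀ x : R, ψ' (α x) = s * ψ' x * s⁻¹ := by
  obtain ⟨R', ⟨φ₀, hφ₀, hφ₀R⟩, hfa, hrec⟩ := hF R hRS
  have hR'S : R' ≤ S := hfa.1
  haveI : Finite R' := finite_of_le hR'S
  haveI : Finite (MulAut R') := finite_mulAut R'
  have hsyl : SylIn p (autInducedBy S R') (F.autGroup R') :=
    (sylIn_iff (autInducedBy_le_autGroup F hR'S)).mpr hfa.2
  have hT₁ : T₀.map (MulAut.congr (fsEquiv F hφ₀ hφ₀R)).toMonoidHom ≤ F.autGroup R' := by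
    rintro _ ⟨α, hα, rfl⟩
    exact congr_mem_autGroup F hφ₀ hφ₀R (hT₀ hα)
  obtain ⟨β, hβ, hβle⟩ := hsyl.exists_conj_le (hT₀p.map _) hT₁
  have hφ₀R' : ∀ x : R, φ₀ x ∈ R' := fs_mem_of_range hφ₀R
  have hβF := (mem_autGroup_iff F hR'S β).mp hβ
  refine ⟨R', (R'.subtype.comp β.toMonoidHom).comp (φ₀.codRestrict R' hφ₀R'),
    F.comp_mem hφ₀ hβF hφ₀R', ?_, hrec, ?_⟩
  · ext y
    constructor
    · rintro ⟨x, rfl⟩
      exact (β _).2
    · intro hy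
      have h1 : ((β⁻¹ ⟨y, hy⟩ : R') : Ω) ∈ φ₀.range := by
        rw [hφ₀R]
        exact (β⁻¹ ⟨y, hy⟩).2
      obtain ⟨x, hx⟩ := h1
      refine ⟨x, ?_⟩
      show ((β ⟨φ₀ x, hφ₀R' x⟩ : R') : Ω) = y
      have e : (⟨φ₀ x, hφ₀R' x⟩ : R') = β⁻¹ ⟨y, hy⟩ := Subtype.ext hx
      rw [e, MulAut.apply_inv_self]
  · intro α hα
    have h1 : β * (MulAut.congr (fsEquiv F hφ₀ hφ₀R) α) * β⁻¹ ∈ autInducedBy S R' :=
      hβle (cj_mem ⟨α, hα, rfl⟩)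
    obtain ⟨s, hs, hse⟩ := (mem_autInducedBy_iff S R' _).mp h1
    refine ⟨s, hs, fun x => ?_⟩
    have h2 := hse (β ⟨φ₀ x, hφ₀R' x⟩)
    have h3 : (((β * (MulAut.congr (fsEquiv F hφ₀ hφ₀R) α) * β⁻¹) (β ⟨φ₀ x, hφ₀R' x⟩) : R') : Ω)
        = ((β ⟨φ₀ (α x), hφ₀R' _⟩ : R') : Ω) := by
      show ((β ((MulAut.congr (fsEquiv F hφ₀ hφ₀R) α) (β⁻¹ (β ⟨φ₀ x, hφ₀R' x⟩))) : R') : Ω) = _
      rw [MulAut.inv_apply_self]
      congr 2
      have e1 : (⟨φ₀ x, hφ₀R' x⟩ : R') = fsEquiv F hφ₀ hφ₀R x := rfl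
      rw [e1]
      show fsEquiv F hφ₀ hφ₀R (α ((fsEquiv F hφ₀ hφ₀R).symm (fsEquiv F hφ₀ hφ₀R x))) = _
      rw [MulEquiv.symm_apply_apply]
      rfl
    rw [h3] at h2
    exact h2

theorem kB1 [Finite S] {p : ℕ} [Fact p.Prime] (hS : IsPGroup p S) (F : FusionSystem S)
    (hF : F.IsSaturated p) {P Q : Subgroup Ω} (hP : P ≤ S) (hQ : Q ≤ S) (c : Prop)
    (hmax : ∀ ψ ∈ F.Hom (P ⊔ Q),
      Nat.card ↥(FusionSystem.normalizerIn S ((P.subgroupOf (P ⊔ Q)).map ψ) ⊓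
        dOf S ((Q.subgroupOf (P ⊔ Q)).map ψ) c) ≤
      Nat.card ↥(FusionSystem.normalizerIn S P ⊓ dOf S Q c)) :
    F.IsFullyCentralized (P ⊔ Q) ∧
      SylIn p (autInducedBy (FusionSystem.normalizerIn S P ⊓ dOf S Q c) (P ⊔ Q)) (F.autGroup (P ⊔ Q) ⊓ stabK P Q c) := by
  have hRS : P ⊔ Q ≤ S := sup_le hP hQ
  haveI : Finite ↥(P ⊔ Q) := finite_of_le hRS
  haveI : Finite (MulAut ↥(P ⊔ Q)) := finite_mulAut _
  have hAle := autInd_nk_le F hP hQ c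
  have hNKS : (FusionSystem.normalizerIn S P ⊓ dOf S Q c) ≤ S := fun g hg => hg.1.1
  have hAp : IsPGroup p (autInducedBy (FusionSystem.normalizerIn S P ⊓ dOf S Q c) (P ⊔ Q)) := isPGroup_autInducedBy (hS.to_le hNKS) _
  obtain ⟨T₀, hT₀syl, hT₀ge⟩ := exists_sylIn_ge hAp hAle
  obtain ⟨R', ψ', hψ', hψ'r, hrec, hT₀s⟩ :=
    exists_sylow_map F hF hRS (hT₀syl.1.trans inf_le_left) hT₀syl.2.1
  have hmax' := hmax ψ' hψ'
  obtain ⟨Ps, hPs⟩ : ∃ Ps, Ps = (P.subgroupOf (P ⊔ Q)).map ψ' := ⟨_, rfl⟩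
  obtain ⟨Qs, hQs⟩ : ∃ Qs, Qs = (Q.subgroupOf (P ⊔ Q)).map ψ' := ⟨_, rfl⟩
  rw [← hPs, ← hQs] at hmax'
  have hsup : Ps ⊔ Qs = R' := by
    rw [hPs, hQs, ← Subgroup.map_sup, ← Subgroup.subgroupOf_sup le_sup_left le_sup_right,
      Subgroup.subgroupOf_self, ← hψ'r, MonoidHom.range_eq_map]
  subst hsup
  have hψ'S := (F.le_of_mem hψ').2
  have hinj := F.injective_of_mem hψ'
  have hmemP : ∀ x : ↥(P ⊔ Q), ψ' x ∈ Ps ↔ (x : Ω) ∈ P := by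
    intro x
    rw [hPs]
    constructor
    · rintro ⟨y, hy, hyx⟩
      have e : y = x := hinj hyx
      rw [← e]
      exact hy
    · intro hx
      exact ⟨x, hx, rfl⟩
  have hmemQ : ∀ x : ↥(P ⊔ Q), ψ' x ∈ Qs ↔ (x : Ω) ∈ Q := by
    intro x
    rw [hQs]
    constructor
    · rintro ⟨y, hy, hyx⟩
      have e : y = x := hinj hyx
      rw [← e]
      exact hy
    · intro hx
      exact ⟨x, hx, rfl⟩
  have hexP : ∀ y ∈ Ps, ∃ x : ↥(P ⊔ Q), (x : Ω) ∈ P ∧ ψ' x = y := by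
    intro y hy
    rw [hPs] at hy
    obtain ⟨x, hx, rfl⟩ := hy
    exact ⟨x, hx, rfl⟩
  have hexQ : ∀ y ∈ Qs, ∃ x : ↥(P ⊔ Q), (x : Ω) ∈ Q ∧ ψ' x = y := by
    intro y hy
    rw [hQs] at hy
    obtain ⟨x, hx, rfl⟩ := hy
    exact ⟨x, hx, rfl⟩
  have hsN : ∀ α ∈ T₀, ∀ s ∈ S, (∀ x : ↥(P ⊔ Q), ψ' (α x) = s * ψ' x * s⁻¹) →
      s ∈ FusionSystem.normalizerIn S Ps ⊓ dOf S Qs c := by
    intro α hα s hs hse
    have hαK : α ∈ stabK P Q c := (hT₀syl.1 hα).2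
    have hαK' : α⁻¹ ∈ stabK P Q c := Subgroup.inv_mem _ hαK
    have hse' : ∀ x : ↥(P ⊔ Q), ψ' (α⁻¹ x) = s⁻¹ * ψ' x * s := by
      intro x
      have h := hse (α⁻¹ x)
      rw [MulAut.apply_inv_self] at h
      rw [h]
      group
    have hnP : s ∈ Subgroup.normalizer (Ps : Set Ω) := by
      apply mem_normalizer_of_forall
      · intro y hy
        obtain ⟨x, hx, rfl⟩ := hexP y hy
        rw [← hse x]
        exact (hmemP _).mpr ((hαK.1 x).mpr hx)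
      · intro y hy
        obtain ⟨x, hx, rfl⟩ := hexP y hy
        rw [← hse' x]
        exact (hmemP _).mpr ((hαK'.1 x).mpr hx)
    have hnQ : s ∈ Subgroup.normalizer (Qs : Set Ω) := by
      apply mem_normalizer_of_forall
      · intro y hy
        obtain ⟨x, hx, rfl⟩ := hexQ y hy
        rw [← hse x]
        exact (hmemQ _).mpr ((hαK.2.1 x).mpr hx)
      · intro y hy
        obtain ⟨x, hx, rfl⟩ := hexQ y hy
        rw [← hse' x]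
        exact (hmemQ _).mpr ((hαK'.2.1 x).mpr hx)
    refine ⟨⟨hs, hnP⟩, ⟨hs, hnQ⟩, fun hc => ?_⟩
    rw [Subgroup.mem_centralizer_iff]
    intro y hy
    obtain ⟨x, hx, rfl⟩ := hexQ y hy
    have h1 := hse x
    rw [hαK.2.2 hc x hx] at h1
    calc ψ' x * s = s * ψ' x * s⁻¹ * s := by rw [← h1]
      _ = s * ψ' x := by group
  have hN1 := card_eq_cent_mul_aut (cent_le_nk S P Q c) (nk_le_normalizerIn S P Q c)
  have hN2 := card_eq_cent_mul_aut (cent_le_nk S Ps Qs c) (nk_le_normalizerIn S Ps Qs c)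
  have h3 : Nat.card (autInducedBy (FusionSystem.normalizerIn S P ⊓ dOf S Q c) (P ⊔ Q)) ≤ Nat.card T₀ := Subgroup.card_le_of_le hT₀ge
  have hRsS : Ps ⊔ Qs ≤ S := hrec.1
  haveI : Finite ↥(Ps ⊔ Qs) := finite_of_le hRsS
  haveI : Finite (MulAut ↥(Ps ⊔ Qs)) := finite_mulAut _
  have h4 : Nat.card T₀ ≤
      Nat.card (autInducedBy (FusionSystem.normalizerIn S Ps ⊓ dOf S Qs c) (Ps ⊔ Qs)) := by
    rw [← Subgroup.card_map_of_injective (K := T₀)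
      (f := (MulAut.congr (fsEquiv F hψ' hψ'r)).toMonoidHom)
      (MulAut.congr (fsEquiv F hψ' hψ'r)).injective]
    apply Subgroup.card_le_of_le
    rintro _ ⟨α, hα, rfl⟩
    obtain ⟨s, hs, hse⟩ := hT₀s α hα
    rw [mem_autInducedBy_iff]
    refine ⟨s, hsN α hα s hs hse, fun y => ?_⟩
    have h5 := hse ((fsEquiv F hψ' hψ'r).symm y)
    have h6 : ψ' ((fsEquiv F hψ' hψ'r).symm y) = y := by
      have h7 : (fsEquiv F hψ' hψ'r) ((fsEquiv F hψ' hψ'r).symm y) = y :=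
        MulEquiv.apply_symm_apply _ _
      exact congrArg Subtype.val h7
    rw [h6] at h5
    exact h5
  have hconj : F.IsConj (Ps ⊔ Qs) (P ⊔ Q) := fs_isConj_symm F ⟨ψ', hψ', hψ'r⟩
  have hfc' := Cfsg.Agent.S5078.result F _ hrec
  have h5 : Nat.card (FusionSystem.centralizerIn S (P ⊔ Q)) ≤
      Nat.card (FusionSystem.centralizerIn S (Ps ⊔ Qs)) := hfc'.2 _ hconj
  haveI : Finite ↥(FusionSystem.centralizerIn S (P ⊔ Q)) := finite_of_le inf_le_left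
  have hpos1 : 0 < Nat.card (FusionSystem.centralizerIn S (P ⊔ Q)) := Nat.card_pos
  have hpos2 : 0 < Nat.card (autInducedBy (FusionSystem.normalizerIn S Ps ⊓ dOf S Qs c)
      (Ps ⊔ Qs)) := Nat.card_pos
  rw [hN1, hN2] at hmax'
  have hta : Nat.card T₀ ≤ Nat.card (autInducedBy (FusionSystem.normalizerIn S P ⊓ dOf S Q c) (P ⊔ Q)) := by
    apply Nat.le_of_mul_le_mul_left _ hpos1
    exact (Nat.mul_le_mul h5 h4).trans hmax'
  have hcc : Nat.card (FusionSystem.centralizerIn S (Ps ⊔ Qs)) ≤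
      Nat.card (FusionSystem.centralizerIn S (P ⊔ Q)) := by
    apply Nat.le_of_mul_le_mul_right _ hpos2
    exact hmax'.trans (Nat.mul_le_mul_left _ (h3.trans h4))
  have hT₀eq : autInducedBy (FusionSystem.normalizerIn S P ⊓ dOf S Q c) (P ⊔ Q) = T₀ := Subgroup.eq_of_le_of_card_ge hT₀ge hta
  refine ⟨⟨hRS, fun R₂ hR₂ => ?_⟩, ?_⟩
  · exact (hfc'.2 R₂ (fs_isConj_trans F hconj hR₂)).trans hcc
  · rw [hT₀eq]
    exact hT₀syl

end Cfsg.Agent.Lib.Helper8
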