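import Cfsg.Agent.Lib.Helper8.KSys2

set_option autoImplicit false
open Cfsg

namespace Cfsg.Agent.Lib.Helper8

variable {Ω : Type*} [Group Ω] {S : Subgroup Ω}

/-- The maps of `N_F(Q)` (`c` false) or `C_F(Q)` (`c` true) with source `P`. -/
def kHom (F : FusionSystem S) (Q : Subgroup Ω) (c : Prop) (D : Subgroup Ω) (P : Subgroup Ω) :
    Set (P →* Ω) :=
  {φ | φ ∈ F.Hom P ∧ P ≤ D ∧ (∀ x : P, φ x ∈ D) ∧
    ∃ ψ ∈ F.Hom (P ⊔ Q), (∀ x : P, ψ (Subgroup.inclusion le_sup_left x) = φ x) ∧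
      (Q.subgroupOf (P ⊔ Q)).map ψ = Q ∧
      (c → ∀ x : Q, ψ (Subgroup.inclusion le_sup_right x) = x)}

theorem kB2 [Finite S] {p : ℕ} [Fact p.Prime] (F : FusionSystem S)
    {P Q : Subgroup Ω} (hQ : Q ≤ S) (c : Prop) (E : FusionSystem (dOf S Q c))
    (hE : ∀ P, E.Hom P = kHom F Q c (dOf S Q c) P) (hPD : P ≤ dOf S Q c)
    (hsyl : SylIn p (autInducedBy (FusionSystem.normalizerIn S P ⊓ dOf S Q c) (P ⊔ Q))
      (F.autGroup (P ⊔ Q) ⊓ stabK P Q c)) :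
    E.IsFullyAutomized p P := by
  have hP : P ≤ S := hPD.trans (dOf_le S Q c)
  have hRS : P ⊔ Q ≤ S := sup_le hP hQ
  haveI : Finite ↥(P ⊔ Q) := finite_of_le hRS
  haveI : Finite (MulAut ↥(P ⊔ Q)) := finite_mulAut _
  haveI : Finite P := finite_of_le hP
  have hmemE : ∀ a : ↥(F.autGroup (P ⊔ Q) ⊓ stabK P Q c),
      ((resP P Q c).comp (Subgroup.inclusion inf_le_right)) a ∈ E.autGroup P := by
    intro a
    rw [mem_autGroup_iff E hPD, hE]
    have haF := (mem_autGroup_iff F hRS (a : MulAut ↥(P ⊔ Q))).mp a.2.1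
    refine ⟨?_, hPD, fun x => hPD (Subtype.property _),
      (P ⊔ Q).subtype.comp (a : MulAut ↥(P ⊔ Q)).toMonoidHom, haF, fun x => rfl, ?_, ?_⟩
    · have h1 := fs_restrict F (le_sup_left : P ≤ P ⊔ Q) haF
      have e : ((P ⊔ Q).subtype.comp (a : MulAut ↥(P ⊔ Q)).toMonoidHom).comp
          (Subgroup.inclusion (le_sup_left : P ≤ P ⊔ Q)) =
          P.subtype.comp (((resP P Q c).comp (Subgroup.inclusion inf_le_right)) a).toMonoidHom := by
        ext x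
        rfl
      rw [← e]
      exact h1
    · ext y
      constructor
      · rintro ⟨z, hz, rfl⟩
        exact (a.2.2.2.1 z).mpr hz
      · intro hy
        have hyR : y ∈ P ⊔ Q := Subgroup.mem_sup_right hy
        refine ⟨(a : MulAut ↥(P ⊔ Q))⁻¹ ⟨y, hyR⟩, ?_, ?_⟩
        · have h1 := a.2.2.2.1 ((a : MulAut ↥(P ⊔ Q))⁻¹ ⟨y, hyR⟩)
          rw [MulAut.apply_inv_self] at h1
          exact h1.mp hy
        · show (((a : MulAut ↥(P ⊔ Q)) ((a : MulAut ↥(P ⊔ Q))⁻¹ ⟨y, hyR⟩) : ↥(P ⊔ Q)) : Ω) = y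
          rw [MulAut.apply_inv_self]
    · intro hc x
      have h1 := a.2.2.2.2 hc (Subgroup.inclusion le_sup_right x) x.2
      exact congrArg Subtype.val h1
  obtain ⟨Θ, hΘ⟩ : ∃ Θ : ↥(F.autGroup (P ⊔ Q) ⊓ stabK P Q c) →* ↥(E.autGroup P),
      Θ = ((resP P Q c).comp (Subgroup.inclusion inf_le_right)).codRestrict (E.autGroup P)
        hmemE := ⟨_, rfl⟩
  have hΘapp : ∀ (a : ↥(F.autGroup (P ⊔ Q) ⊓ stabK P Q c)) (x : P),
      ((((Θ a : ↥(E.autGroup P)) : MulAut P) x : P) : Ω) =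
        ((a : MulAut ↥(P ⊔ Q)) ⟨x, Subgroup.mem_sup_left x.2⟩ : ↥(P ⊔ Q)) := by
    intro a x
    rw [hΘ]
    rfl
  have hΘs : Function.Surjective Θ := by
    rintro ⟨a', ha'⟩
    have h1 := (mem_autGroup_iff E hPD a').mp ha'
    rw [hE] at h1
    obtain ⟨-, -, -, ψ, hψ, hext0, hmap, hcψ⟩ := h1
    have hext : ∀ x : P, ψ (Subgroup.inclusion le_sup_left x) = ((a' x : P) : Ω) := hext0
    have hK : ∀ z : ↥(P ⊔ Q), ψ z ∈ P ⊔ Q :=
      sup_map_mem ψ (fun x => by rw [hext]; exact Subgroup.mem_sup_left (a' x).2)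
        (fun x => Subgroup.mem_sup_right (hmap.le ⟨Subgroup.inclusion le_sup_right x, x.2, rfl⟩))
    obtain ⟨α, hα, hαe⟩ := exists_aut_of_hom F hψ hK
    have hψinj := F.injective_of_mem hψ
    have hstab : α ∈ stabK P Q c := by
      refine ⟨fun x => ⟨fun hx => ?_, fun hx => ?_⟩, fun x => ⟨fun hx => ?_, fun hx => ?_⟩,
        fun hc x hx => ?_⟩
      · have h2 := hext (a'⁻¹ ⟨((α x : ↥(P ⊔ Q)) : Ω), hx⟩)
        rw [MulAut.apply_inv_self] at h2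
        have h3 : ψ (Subgroup.inclusion le_sup_left (a'⁻¹ ⟨((α x : ↥(P ⊔ Q)) : Ω), hx⟩)) = ψ x := by
          rw [h2]
          exact hαe x
        have h4 := hψinj h3
        rw [← h4]
        exact (a'⁻¹ ⟨((α x : ↥(P ⊔ Q)) : Ω), hx⟩).2
      · rw [hαe]
        have h2 := hext ⟨(x : Ω), hx⟩
        have e : Subgroup.inclusion (le_sup_left : P ≤ P ⊔ Q) ⟨(x : Ω), hx⟩ = x := Subtype.ext rfl
        rw [e] at h2
        rw [h2]
        exact (a' ⟨(x : Ω), hx⟩).2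
      · have h2 : ((α x : ↥(P ⊔ Q)) : Ω) ∈ (Q.subgroupOf (P ⊔ Q)).map ψ := by
          rw [hmap]
          exact hx
        obtain ⟨z, hz, hzx⟩ := h2
        rw [hαe] at hzx
        have h4 := hψinj hzx
        rw [← h4]
        exact hz
      · rw [hαe]
        exact hmap.le ⟨x, hx, rfl⟩
      · apply Subtype.ext
        rw [hαe]
        have h2 := hcψ hc ⟨(x : Ω), hx⟩
        have e : Subgroup.inclusion (le_sup_right : Q ≤ P ⊔ Q) ⟨(x : Ω), hx⟩ = x := Subtype.ext rfl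
        rw [e] at h2
        exact h2
    refine ⟨⟨α, hα, hstab⟩, ?_⟩
    apply Subtype.ext
    ext x
    rw [hΘapp]
    show ((α ⟨x, Subgroup.mem_sup_left x.2⟩ : ↥(P ⊔ Q)) : Ω) = a' x
    rw [hαe]
    exact hext x
  obtain ⟨T₀, hT₀⟩ := (sylIn_iff hsyl.1).mp hsyl
  refine ⟨hPD, T₀.mapSurjective hΘs, ?_⟩
  show (T₀ : Subgroup _).map Θ = _
  ext a'
  constructor
  · rintro ⟨t, ht, rfl⟩
    have h1 : t ∈ (T₀ : Subgroup _) := ht
    rw [hT₀] at h1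
    obtain ⟨g, hg, hge⟩ := (mem_autInducedBy_iff _ _ _).mp h1
    show ((Θ t : ↥(E.autGroup P)) : MulAut P) ∈ autInducedBy (dOf S Q c) P
    rw [mem_autInducedBy_iff]
    refine ⟨g, hg.2, fun x => ?_⟩
    rw [hΘapp]
    exact hge _
  · intro ha'
    have ha'' : (a' : MulAut P) ∈ autInducedBy (dOf S Q c) P := ha'
    obtain ⟨g, hg, hge⟩ := (mem_autInducedBy_iff _ _ _).mp ha''
    have hgN : g ∈ Subgroup.normalizer (P : Set Ω) := mem_normalizer_of_aut _ hge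
    have hgR : g ∈ Subgroup.normalizer ((P ⊔ Q : Subgroup Ω) : Set Ω) :=
      normalizer_sup hgN (dOf_le_normalizer S Q c hg)
    have ht₀A : normConj (P ⊔ Q) ⟨g, hgR⟩ ∈
        autInducedBy (FusionSystem.normalizerIn S P ⊓ dOf S Q c) (P ⊔ Q) := by
      rw [mem_autInducedBy_iff]
      exact ⟨g, ⟨⟨dOf_le S Q c hg, hgN⟩, hg⟩, fun _ => rfl⟩
    have ht₀ := hsyl.1 ht₀A
    refine ⟨⟨normConj (P ⊔ Q) ⟨g, hgR⟩, ht₀⟩, ?_, ?_⟩
    · show (⟨normConj (P ⊔ Q) ⟨g, hgR⟩, ht₀⟩ : ↥(F.autGroup (P ⊔ Q) ⊓ stabK P Q c)) ∈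
        (T₀ : Subgroup _)
      rw [hT₀]
      exact ht₀A
    · apply Subtype.ext
      ext x
      rw [hΘapp]
      exact (hge x).symm

end Cfsg.Agent.Lib.Helper8
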