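import Cfsg.Agent.Lib.Helper8.KSys3

set_option autoImplicit false
open Cfsg

namespace Cfsg.Agent.Lib.Helper8

variable {Ω : Type*} [Group Ω] {S : Subgroup Ω}

/-- Two maps agreeing on `Q` have the same image of `Q`. -/
theorem map_subgroupOf_congr {Q A B : Subgroup Ω} (hA : Q ≤ A) (hB : Q ≤ B) (ψ₁ : A →* Ω)
    (ψ₂ : B →* Ω)
    (h : ∀ q : Q, ψ₁ (Subgroup.inclusion hA q) = ψ₂ (Subgroup.inclusion hB q)) :
    (Q.subgroupOf A).map ψ₁ = (Q.subgroupOf B).map ψ₂ := by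
  ext y
  constructor
  · rintro ⟨z, hz, rfl⟩
    exact ⟨Subgroup.inclusion hB ⟨z, hz⟩, hz, (h ⟨z, hz⟩).symm⟩
  · rintro ⟨z, hz, rfl⟩
    exact ⟨Subgroup.inclusion hA ⟨z, hz⟩, hz, h ⟨z, hz⟩⟩

theorem map_subgroupOf_eq_range {A B : Subgroup Ω} (hA : A ≤ B) (ψ : B →* Ω) (φ : A →* Ω)
    (h : ∀ x : A, ψ (Subgroup.inclusion hA x) = φ x) : (A.subgroupOf B).map ψ = φ.range := by
  ext y
  constructor
  · rintro ⟨z, hz, rfl⟩
    exact ⟨⟨z, hz⟩, (h ⟨z, hz⟩).symm⟩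
  · rintro ⟨x, rfl⟩
    exact ⟨Subgroup.inclusion hA x, x.2, h x⟩

/-- Restriction of a good map on `X ⊔ Q` lies in `kHom`. -/
theorem kHom_of_ext (F : FusionSystem S) {Q X : Subgroup Ω} (c : Prop) (hX : X ≤ dOf S Q c)
    {Ψ : ↥(X ⊔ Q) →* Ω} (hΨ : Ψ ∈ F.Hom (X ⊔ Q))
    (hmap : (Q.subgroupOf (X ⊔ Q)).map Ψ = Q)
    (hc : c → ∀ x : Q, Ψ (Subgroup.inclusion le_sup_right x) = x) :
    Ψ.comp (Subgroup.inclusion le_sup_left) ∈ kHom F Q c (dOf S Q c) X := by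
  refine ⟨fs_restrict F le_sup_left hΨ, hX, fun x => ?_, Ψ, hΨ, fun x => rfl, hmap, hc⟩
  have hxD := hX x.2
  have hΨS := (F.le_of_mem hΨ).2
  have hn : Ψ (Subgroup.inclusion le_sup_left x) ∈ Subgroup.normalizer (Q : Set Ω) := by
    apply mem_normalizer_of_forall
    · intro y hy
      obtain ⟨z, hz, rfl⟩ := hmap.ge hy
      rw [← map_inv, ← map_mul, ← map_mul]
      refine hmap.le ⟨_, ?_, rfl⟩
      show (x : Ω) * z * (x : Ω)⁻¹ ∈ Q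
      exact conj_mem_of_mem_normalizer hxD.1.2 hz
    · intro y hy
      obtain ⟨z, hz, rfl⟩ := hmap.ge hy
      rw [← map_inv, ← map_mul, ← map_mul]
      refine hmap.le ⟨_, ?_, rfl⟩
      show (x : Ω)⁻¹ * z * (x : Ω) ∈ Q
      have h1 := conj_mem_of_mem_normalizer (Subgroup.inv_mem _ hxD.1.2) hz
      rwa [inv_inv] at h1
  refine ⟨⟨hΨS _, hn⟩, fun hcc => ?_⟩
  show Ψ (Subgroup.inclusion le_sup_left x) ∈ Subgroup.centralizer (Q : Set Ω)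
  rw [Subgroup.mem_centralizer_iff]
  intro y hy
  have h1 := hc hcc ⟨y, hy⟩
  have h2 := Subgroup.mem_centralizer_iff.mp (hxD.2 hcc) y hy
  have hcomm : (Subgroup.inclusion (le_sup_right : Q ≤ X ⊔ Q) ⟨y, hy⟩) *
      (Subgroup.inclusion (le_sup_left : X ≤ X ⊔ Q) x) =
      (Subgroup.inclusion (le_sup_left : X ≤ X ⊔ Q) x) *
        (Subgroup.inclusion (le_sup_right : Q ≤ X ⊔ Q) ⟨y, hy⟩) := Subtype.ext h2
  calc y * Ψ (Subgroup.inclusion le_sup_left x)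
      = Ψ (Subgroup.inclusion le_sup_right ⟨y, hy⟩) * Ψ (Subgroup.inclusion le_sup_left x) := by
        rw [h1]
    _ = Ψ ((Subgroup.inclusion le_sup_right ⟨y, hy⟩) * (Subgroup.inclusion le_sup_left x)) :=
        (map_mul _ _ _).symm
    _ = Ψ ((Subgroup.inclusion le_sup_left x) * (Subgroup.inclusion le_sup_right ⟨y, hy⟩)) := by
        rw [hcomm]
    _ = Ψ (Subgroup.inclusion le_sup_left x) * Ψ (Subgroup.inclusion le_sup_right ⟨y, hy⟩) :=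
        map_mul _ _ _
    _ = Ψ (Subgroup.inclusion le_sup_left x) * y := by rw [h1]

/-- Automorphisms in `A` restricting to the identity on `P`. -/
def fixP (P Q : Subgroup Ω) (A : Subgroup (MulAut ↥(P ⊔ Q))) : Subgroup (MulAut ↥(P ⊔ Q)) where
  carrier := {α | α ∈ A ∧ ∀ y : ↥(P ⊔ Q), (y : Ω) ∈ P → α y = y}
  one_mem' := ⟨Subgroup.one_mem _, fun _ _ => rfl⟩
  mul_mem' := by
    rintro α β ⟨ha, ha'⟩ ⟨hb, hb'⟩
    refine ⟨Subgroup.mul_mem _ ha hb, fun y hy => ?_⟩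
    show α (β y) = y
    rw [hb' y hy, ha' y hy]
  inv_mem' := by
    rintro α ⟨ha, ha'⟩
    refine ⟨Subgroup.inv_mem _ ha, fun y hy => ?_⟩
    have h := ha' y hy
    have h2 : α⁻¹ (α y) = α⁻¹ y := by rw [h]
    rw [MulAut.inv_apply_self] at h2
    exact h2.symm

theorem mem_fixP {P Q : Subgroup Ω} {A : Subgroup (MulAut ↥(P ⊔ Q))} {α : MulAut ↥(P ⊔ Q)} :
    α ∈ fixP P Q A ↔ α ∈ A ∧ ∀ y : ↥(P ⊔ Q), (y : Ω) ∈ P → α y = y := Iff.rfl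

theorem fixP_conj {P Q : Subgroup Ω} {c : Prop} {A : Subgroup (MulAut ↥(P ⊔ Q))}
    {s α : MulAut ↥(P ⊔ Q)} (hsA : s ∈ A) (hs : s ∈ stabK P Q c) (hα : α ∈ fixP P Q A) :
    s * α * s⁻¹ ∈ fixP P Q A := by
  refine ⟨Subgroup.mul_mem _ (Subgroup.mul_mem _ hsA hα.1) (Subgroup.inv_mem _ hsA),
    fun y hy => ?_⟩
  show s (α (s⁻¹ y)) = y
  have h1 : ((s⁻¹ y : ↥(P ⊔ Q)) : Ω) ∈ P := ((Subgroup.inv_mem _ hs).1 y).mpr hy
  rw [hα.2 _ h1, MulAut.apply_inv_self]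

end Cfsg.Agent.Lib.Helper8
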