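import Cfsg.Agent.Lib.Helper8.KSys4

set_option autoImplicit false
open Cfsg

namespace Cfsg.Agent.Lib.Helper8

variable {Ω : Type*} [Group Ω] {S : Subgroup Ω}

set_option maxHeartbeats 1600000 in
theorem kB3 [Finite S] {p : ℕ} [Fact p.Prime] (hS : IsPGroup p S) (F : FusionSystem S)
    (hF : F.IsSaturated p)
    {P Q : Subgroup Ω} (hQ : Q ≤ S) (c : Prop) (E : FusionSystem (dOf S Q c))
    (hE : ∀ P, E.Hom P = kHom F Q c (dOf S Q c) P) (hPD : P ≤ dOf S Q c)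
    (hfc : F.IsFullyCentralized (P ⊔ Q))
    (hsyl : SylIn p (autInducedBy (FusionSystem.normalizerIn S P ⊓ dOf S Q c) (P ⊔ Q))
      (F.autGroup (P ⊔ Q) ⊓ stabK P Q c)) :
    E.IsReceptive P := by
  have hP : P ≤ S := hPD.trans (dOf_le S Q c)
  have hRS : P ⊔ Q ≤ S := sup_le hP hQ
  haveI : Finite ↥(P ⊔ Q) := finite_of_le hRS
  haveI : Finite (MulAut ↥(P ⊔ Q)) := finite_mulAut _
  have hrec := sat_fc_receptive hS F hF hfc
  refine ⟨hPD, fun P₁ φ hφ hφr => ?_⟩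
  rw [hE] at hφ
  obtain ⟨hφF, hP₁D, hφD, φt, hφt, hext, hmap, hcφ⟩ := hφ
  have hP₁S : P₁ ≤ S := hP₁D.trans (dOf_le S Q c)
  have hmapP : (P₁.subgroupOf (P₁ ⊔ Q)).map φt = P := by
    rw [← hφr]
    exact map_subgroupOf_eq_range le_sup_left φt φ hext
  have hrange : φt.range = P ⊔ Q := by
    have h1 : (P₁.subgroupOf (P₁ ⊔ Q)).map φt ⊔ (Q.subgroupOf (P₁ ⊔ Q)).map φt = φt.range := by
      rw [← Subgroup.map_sup, ← Subgroup.subgroupOf_sup le_sup_left le_sup_right,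
        Subgroup.subgroupOf_self, MonoidHom.range_eq_map]
    rw [← h1, hmapP, hmap]
  obtain ⟨e, he_def⟩ : ∃ e : ↥(P₁ ⊔ Q) ≃* ↥(P ⊔ Q), e = fsEquiv F hφt hrange := ⟨_, rfl⟩
  have he : ∀ z : ↥(P₁ ⊔ Q), ((e z : ↥(P ⊔ Q)) : Ω) = φt z := by
    intro z
    rw [he_def]
    rfl
  have hcongr : ∀ α ∈ F.autGroup (P₁ ⊔ Q), MulAut.congr e α ∈ F.autGroup (P ⊔ Q) := by
    intro α hα
    rw [he_def]
    exact congr_mem_autGroup F hφt hrange hα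
  have hesymm : ∀ y : ↥(P ⊔ Q), φt (e.symm y) = y := by
    intro y
    rw [← he, MulEquiv.apply_symm_apply]
  have hinj := F.injective_of_mem hφt
  have hmemP : ∀ z : ↥(P₁ ⊔ Q), φt z ∈ P ↔ (z : Ω) ∈ P₁ := by
    intro z
    constructor
    · intro hz
      obtain ⟨y, hy, hyz⟩ := hmapP.ge hz
      have e1 : y = z := hinj hyz
      rw [← e1]
      exact hy
    · intro hz
      exact hmapP.le ⟨z, hz, rfl⟩
  have hmemQ : ∀ z : ↥(P₁ ⊔ Q), φt z ∈ Q ↔ (z : Ω) ∈ Q := by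
    intro z
    constructor
    · intro hz
      obtain ⟨y, hy, hyz⟩ := hmap.ge hz
      have e1 : y = z := hinj hyz
      rw [← e1]
      exact hy
    · intro hz
      exact hmap.le ⟨z, hz, rfl⟩
  obtain ⟨X, hX⟩ : ∃ X, X = FusionSystem.extender (dOf S Q c) P₁ φ := ⟨_, rfl⟩
  have hXD : X ≤ dOf S Q c := by
    rw [hX]
    exact fun g hg => (mem_extender hg).1
  have hXS : X ≤ S := hXD.trans (dOf_le S Q c)
  have hXdata : ∀ g ∈ X, g ∈ dOf S Q c ∧ g ∈ Subgroup.normalizer (P₁ : Set Ω) ∧ ∃ h ∈ dOf S Q c,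
      ∀ x : P₁, ∀ hx : g * (x : Ω) * g⁻¹ ∈ P₁, φ ⟨g * x * g⁻¹, hx⟩ = h * φ x * h⁻¹ := by
    intro g hg
    rw [hX] at hg
    exact mem_extender hg
  have hXN : X ≤ Subgroup.normalizer ((P₁ ⊔ Q : Subgroup Ω) : Set Ω) := fun g hg =>
    normalizer_sup (hXdata g hg).2.1 (dOf_le_normalizer S Q c (hXdata g hg).1)
  obtain ⟨Φ, hΦdef⟩ : ∃ Φ : ↥(Subgroup.normalizer ((P₁ ⊔ Q : Subgroup Ω) : Set Ω)) →*
      MulAut ↥(P ⊔ Q), Φ = (MulAut.congr e).toMonoidHom.comp (normConj (P₁ ⊔ Q)) := ⟨_, rfl⟩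
  have hΦ : ∀ (n : ↥(Subgroup.normalizer ((P₁ ⊔ Q : Subgroup Ω) : Set Ω))) (z : ↥(P₁ ⊔ Q)),
      ((Φ n (e z) : ↥(P ⊔ Q)) : Ω) = φt (normConj (P₁ ⊔ Q) n z) := by
    intro n z
    rw [hΦdef]
    show ((e (normConj (P₁ ⊔ Q) n (e.symm (e z))) : ↥(P ⊔ Q)) : Ω) = _
    rw [MulEquiv.symm_apply_apply, he]
  have hΦmem : ∀ n : ↥(Subgroup.normalizer ((P₁ ⊔ Q : Subgroup Ω) : Set Ω)), (n : Ω) ∈ X →
      Φ n ∈ F.autGroup (P ⊔ Q) ⊓ stabK P Q c := by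
    intro n hn
    obtain ⟨hgD, hgN, -⟩ := hXdata n hn
    refine ⟨?_, ?_, ?_, ?_⟩
    · rw [hΦdef]
      exact hcongr _ (autInducedBy_le_autGroup F (sup_le hP₁S hQ)
        ((mem_autInducedBy_iff S _ _).mpr ⟨n, hXS hn, fun x => rfl⟩))
    · intro y
      obtain ⟨z, rfl⟩ := e.surjective y
      rw [hΦ, hmemP, he, hmemP]
      exact (Subgroup.mem_normalizer_iff.mp hgN z).symm
    · intro y
      obtain ⟨z, rfl⟩ := e.surjective y
      rw [hΦ, hmemQ, he, hmemQ]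
      exact (Subgroup.mem_normalizer_iff.mp (dOf_le_normalizer S Q c hgD) z).symm
    · intro hc y hy
      obtain ⟨z, rfl⟩ := e.surjective y
      rw [he, hmemQ] at hy
      apply Subtype.ext
      rw [hΦ, he]
      congr 1
      apply Subtype.ext
      show (n : Ω) * z * (n : Ω)⁻¹ = z
      have h1 := Subgroup.mem_centralizer_iff.mp (hgD.2 hc) z hy
      rw [← h1]
      group
  have hΦP : ∀ n : ↥(Subgroup.normalizer ((P₁ ⊔ Q : Subgroup Ω) : Set Ω)), (n : Ω) ∈ X →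
      ∃ h ∈ FusionSystem.normalizerIn S P ⊓ dOf S Q c,
      ∀ y : ↥(P ⊔ Q), (y : Ω) ∈ P → ((Φ n y : ↥(P ⊔ Q)) : Ω) = h * y * h⁻¹ := by
    intro n hn
    obtain ⟨hgD, hgN, h, hhD, hh⟩ := hXdata n hn
    have hh' : ∀ x : P₁, φ ⟨(n : Ω) * x * (n : Ω)⁻¹, conj_mem_of_mem_normalizer hgN x.2⟩ =
        h * φ x * h⁻¹ := fun x => hh x _
    have hhN : h ∈ Subgroup.normalizer (P : Set Ω) := by
      apply mem_normalizer_of_forall
      · intro y hy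
        rw [← hφr] at hy
        obtain ⟨x, rfl⟩ := hy
        rw [← hh' x]
        exact fs_mem_of_range hφr _
      · intro y hy
        rw [← hφr] at hy
        obtain ⟨x, rfl⟩ := hy
        have hx' : (n : Ω)⁻¹ * x * (n : Ω) ∈ P₁ := by
          have h1 := conj_mem_of_mem_normalizer (Subgroup.inv_mem _ hgN) x.2
          rwa [inv_inv] at h1
        have h2 := hh' ⟨(n : Ω)⁻¹ * x * (n : Ω), hx'⟩
        have e1 : (⟨(n : Ω) * ((⟨(n : Ω)⁻¹ * x * (n : Ω), hx'⟩ : P₁) : Ω) * (n : Ω)⁻¹,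
            conj_mem_of_mem_normalizer hgN (⟨(n : Ω)⁻¹ * x * (n : Ω), hx'⟩ : P₁).2⟩ : P₁) = x :=
          Subtype.ext (by show (n : Ω) * ((n : Ω)⁻¹ * x * (n : Ω)) * (n : Ω)⁻¹ = x; group)
        rw [e1] at h2
        rw [h2]
        have e2 : h⁻¹ * (h * φ ⟨(n : Ω)⁻¹ * x * (n : Ω), hx'⟩ * h⁻¹) * h =
            φ ⟨(n : Ω)⁻¹ * x * (n : Ω), hx'⟩ := by group
        rw [e2]
        exact fs_mem_of_range hφr _
    refine ⟨h, ⟨⟨dOf_le S Q c hhD, hhN⟩, hhD⟩, fun y hy => ?_⟩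
    obtain ⟨z, rfl⟩ := e.surjective y
    rw [he, hmemP] at hy
    rw [hΦ, he]
    have h3 := hh' ⟨z, hy⟩
    rw [← hext, ← hext] at h3
    exact h3
  -- the Sylow argument
  obtain ⟨T, hT⟩ : ∃ T, T = autInducedBy (FusionSystem.normalizerIn S P ⊓ dOf S Q c) (P ⊔ Q) :=
    ⟨_, rfl⟩
  rw [← hT] at hsyl
  obtain ⟨A0, hA0⟩ : ∃ A0, A0 = fixP P Q (F.autGroup (P ⊔ Q) ⊓ stabK P Q c) := ⟨_, rfl⟩
  have hTn : T ≤ Subgroup.normalizer (A0 : Set (MulAut ↥(P ⊔ Q))) := by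
    intro t ht
    apply mem_normalizer_of_forall
    · intro α hα
      rw [hA0] at hα ⊢
      exact fixP_conj (hsyl.1 ht) (hsyl.1 ht).2 hα
    · intro α hα
      rw [hA0] at hα ⊢
      have h1 := fixP_conj (Subgroup.inv_mem _ (hsyl.1 ht)) (Subgroup.inv_mem _ (hsyl.1 ht).2) hα
      rwa [inv_inv] at h1
  have hA0le : A0 ≤ F.autGroup (P ⊔ Q) ⊓ stabK P Q c := by
    intro α hα
    rw [hA0] at hα
    exact hα.1
  have hsylsup : SylIn p T (T ⊔ A0) := hsyl.mono le_sup_left (sup_le hsyl.1 hA0le)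
  obtain ⟨Γ, hΓ⟩ : ∃ Γ, Γ = (X.subgroupOf
      (Subgroup.normalizer ((P₁ ⊔ Q : Subgroup Ω) : Set Ω))).map Φ := ⟨_, rfl⟩
  have hΓp : IsPGroup p Γ := by
    rw [hΓ]
    exact ((hS.to_le hXS).comap_subtype).map Φ
  have hΓle : Γ ≤ T ⊔ A0 := by
    rw [hΓ]
    rintro _ ⟨n, hn, rfl⟩
    have hn' : (n : Ω) ∈ X := hn
    obtain ⟨h, hh, hhe⟩ := hΦP n hn'
    have hhR : h ∈ Subgroup.normalizer ((P ⊔ Q : Subgroup Ω) : Set Ω) :=
      normalizer_sup hh.1.2 (dOf_le_normalizer S Q c hh.2)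
    have hth : normConj (P ⊔ Q) ⟨h, hhR⟩ ∈ T := by
      rw [hT, mem_autInducedBy_iff]
      exact ⟨h, hh, fun _ => rfl⟩
    have e1 : Φ n = normConj (P ⊔ Q) ⟨h, hhR⟩ * ((normConj (P ⊔ Q) ⟨h, hhR⟩)⁻¹ * Φ n) := by
      group
    rw [e1]
    refine Subgroup.mul_mem _ (Subgroup.mem_sup_left hth) (Subgroup.mem_sup_right ?_)
    rw [hA0]
    refine ⟨Subgroup.mul_mem _ (Subgroup.inv_mem _ (hsyl.1 hth)) (hΦmem n hn'), fun y hy => ?_⟩
    show (normConj (P ⊔ Q) ⟨h, hhR⟩)⁻¹ (Φ n y) = y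
    have e2 : Φ n y = normConj (P ⊔ Q) ⟨h, hhR⟩ y := Subtype.ext (hhe y hy)
    rw [e2, MulAut.inv_apply_self]
  obtain ⟨χ, hχ, hχle⟩ := hsylsup.exists_conj_le_of_sup hTn hΓp hΓle
  rw [hA0] at hχ
  obtain ⟨⟨hχF, hχK⟩, hχP⟩ := hχ
  have hφtR : ∀ z : ↥(P₁ ⊔ Q), φt z ∈ P ⊔ Q := fs_mem_of_range hrange
  obtain ⟨φt', hφt'def⟩ : ∃ φt' : ↥(P₁ ⊔ Q) →* Ω, φt' =
      ((P ⊔ Q).subtype.comp χ.toMonoidHom).comp (φt.codRestrict (P ⊔ Q) hφtR) := ⟨_, rfl⟩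
  have hφt' : φt' ∈ F.Hom (P₁ ⊔ Q) := by
    rw [hφt'def]
    exact F.comp_mem hφt ((mem_autGroup_iff F hRS χ).mp hχF) hφtR
  have hφt'app : ∀ z : ↥(P₁ ⊔ Q), φt' z = ((χ (e z) : ↥(P ⊔ Q)) : Ω) := by
    intro z
    rw [hφt'def]
    have e1 : φt.codRestrict (P ⊔ Q) hφtR z = e z := Subtype.ext (he z).symm
    show ((χ (φt.codRestrict (P ⊔ Q) hφtR z) : ↥(P ⊔ Q)) : Ω) = _
    rw [e1]
  have hφt'r : φt'.range = P ⊔ Q := by
    ext y
    constructor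
    · rintro ⟨z, rfl⟩
      rw [hφt'app]
      exact (χ _).2
    · intro hy
      refine ⟨e.symm (χ⁻¹ ⟨y, hy⟩), ?_⟩
      rw [hφt'app, MulEquiv.apply_symm_apply, MulAut.apply_inv_self]
  have hext' : ∀ x : P₁, φt' (Subgroup.inclusion le_sup_left x) = φ x := by
    intro x
    rw [hφt'app]
    have h1 : ((e (Subgroup.inclusion le_sup_left x) : ↥(P ⊔ Q)) : Ω) ∈ P := by
      rw [he, hext]
      exact fs_mem_of_range hφr x
    rw [hχP _ h1, he, hext]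
  have hmap' : (Q.subgroupOf (P₁ ⊔ Q)).map φt' = Q := by
    ext y
    constructor
    · rintro ⟨z, hz, rfl⟩
      rw [hφt'app]
      refine (hχK.2.1 _).mpr ?_
      rw [he]
      exact (hmemQ z).mpr hz
    · intro hy
      have hyR : y ∈ P ⊔ Q := Subgroup.mem_sup_right hy
      have hw : ((χ⁻¹ ⟨y, hyR⟩ : ↥(P ⊔ Q)) : Ω) ∈ Q :=
        ((Subgroup.inv_mem _ hχK).2.1 ⟨y, hyR⟩).mpr hy
      refine ⟨e.symm (χ⁻¹ ⟨y, hyR⟩), ?_, ?_⟩
      · show ((e.symm (χ⁻¹ ⟨y, hyR⟩) : ↥(P₁ ⊔ Q)) : Ω) ∈ Q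
        rw [← hmemQ, hesymm]
        exact hw
      · rw [hφt'app, MulEquiv.apply_symm_apply, MulAut.apply_inv_self]
  have hc' : c → ∀ q : Q, φt' (Subgroup.inclusion le_sup_right q) = q := by
    intro hc q
    rw [hφt'app]
    have h1 : χ (e (Subgroup.inclusion le_sup_right q)) = e (Subgroup.inclusion le_sup_right q) := by
      apply hχK.2.2 hc
      rw [he, hcφ hc q]
      exact q.2
    rw [h1, he]
    exact hcφ hc q
  have hXext : X ≤ FusionSystem.extender S (P₁ ⊔ Q) φt' := by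
    intro g hg
    have hgN := hXN hg
    have h1 : χ * Φ ⟨g, hgN⟩ * χ⁻¹ ∈ T := by
      apply hχle
      apply cj_mem
      rw [hΓ]
      exact ⟨⟨g, hgN⟩, hg, rfl⟩
    rw [hT] at h1
    obtain ⟨s, hs, hse⟩ := (mem_autInducedBy_iff _ _ _).mp h1
    apply Subgroup.subset_closure
    refine ⟨hXS hg, hgN, s, hs.1.1, fun z hz => ?_⟩
    rw [hφt'app, hφt'app]
    have h2 := hse (χ (e z))
    rw [← h2]
    show ((χ (e ⟨g * z * g⁻¹, hz⟩) : ↥(P ⊔ Q)) : Ω) =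
      ((χ (Φ ⟨g, hgN⟩ (χ⁻¹ (χ (e z)))) : ↥(P ⊔ Q)) : Ω)
    rw [MulAut.inv_apply_self]
    congr 2
    apply Subtype.ext
    rw [hΦ, he]
    rfl
  have hQY : P₁ ⊔ Q ≤ FusionSystem.extender S (P₁ ⊔ Q) φt' := fs_le_extender F hφt'
  have hXQY : X ⊔ Q ≤ FusionSystem.extender S (P₁ ⊔ Q) φt' :=
    sup_le hXext (le_sup_right.trans hQY)
  obtain ⟨Ψ, hΨ, hΨe⟩ := hrec.2 (P₁ ⊔ Q) φt' hφt' hφt'r
  have hΨt : Ψ.comp (Subgroup.inclusion hXQY) ∈ F.Hom (X ⊔ Q) := fs_restrict F hXQY hΨ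
  have hagreeQ : ∀ q : Q, (Ψ.comp (Subgroup.inclusion hXQY)) (Subgroup.inclusion le_sup_right q) =
      φt' (Subgroup.inclusion le_sup_right q) := by
    intro q
    exact hΨe q (Subgroup.mem_sup_right q.2) _
  have hmapΨ : (Q.subgroupOf (X ⊔ Q)).map (Ψ.comp (Subgroup.inclusion hXQY)) = Q := by
    rw [map_subgroupOf_congr le_sup_right le_sup_right _ φt' hagreeQ]
    exact hmap'
  have hcΨ : c → ∀ q : Q, (Ψ.comp (Subgroup.inclusion hXQY)) (Subgroup.inclusion le_sup_right q)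
      = q := by
    intro hc q
    rw [hagreeQ]
    exact hc' hc q
  have hmem := kHom_of_ext F c hXD hΨt hmapΨ hcΨ
  rw [← hE] at hmem
  subst hX
  refine ⟨_, hmem, fun x hxP hxN => ?_⟩
  have h1 := hΨe x (Subgroup.mem_sup_left hxP) (hXext hxN)
  have h2 := hext' ⟨x, hxP⟩
  exact h1.trans h2

end Cfsg.Agent.Lib.Helper8
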