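import Cfsg.Agent.Lib.Helper8.KSys5

set_option autoImplicit false
open Cfsg

namespace Cfsg.Agent.Lib.Helper8

variable {Ω : Type*} [Group Ω] {S : Subgroup Ω}

theorem map_comp_codRestrict {A B K L : Subgroup Ω} (φ₁ : B →* Ω) (ψ : L →* Ω)
    (h : ∀ z, φ₁ z ∈ L) (hK : (A.subgroupOf B).map φ₁ = K) :
    (A.subgroupOf B).map (ψ.comp (φ₁.codRestrict L h)) = (K.subgroupOf L).map ψ := by
  ext y
  constructor
  · rintro ⟨z, hz, rfl⟩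
    exact ⟨φ₁.codRestrict L h z, hK.le ⟨z, hz, rfl⟩, rfl⟩
  · rintro ⟨w, hw, rfl⟩
    obtain ⟨z, hz, hzw⟩ := hK.ge hw
    refine ⟨z, hz, ?_⟩
    have e1 : φ₁.codRestrict L h z = w := Subtype.ext hzw
    show ψ (φ₁.codRestrict L h z) = ψ w
    rw [e1]

theorem map_mem_normalizer {N A : Subgroup Ω} (ρ : N →* Ω) (g : N)
    (hg : (g : Ω) ∈ Subgroup.normalizer (A : Set Ω)) :
    ρ g ∈ Subgroup.normalizer (((A.subgroupOf N).map ρ : Subgroup Ω) : Set Ω) := by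
  apply mem_normalizer_of_forall
  · rintro _ ⟨a, ha, rfl⟩
    rw [← map_inv, ← map_mul, ← map_mul]
    refine ⟨_, ?_, rfl⟩
    show (g : Ω) * a * (g : Ω)⁻¹ ∈ A
    exact conj_mem_of_mem_normalizer hg ha
  · rintro _ ⟨a, ha, rfl⟩
    rw [← map_inv, ← map_mul, ← map_mul]
    refine ⟨_, ?_, rfl⟩
    show (g : Ω)⁻¹ * a * (g : Ω) ∈ A
    have h1 := conj_mem_of_mem_normalizer (Subgroup.inv_mem _ hg) ha
    rwa [inv_inv] at h1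

theorem map_mem_centralizer {N A : Subgroup Ω} (ρ : N →* Ω) (g : N)
    (hg : (g : Ω) ∈ Subgroup.centralizer (A : Set Ω)) :
    ρ g ∈ Subgroup.centralizer (((A.subgroupOf N).map ρ : Subgroup Ω) : Set Ω) := by
  rw [Subgroup.mem_centralizer_iff]
  rintro _ ⟨a, ha, rfl⟩
  have h1 := Subgroup.mem_centralizer_iff.mp hg a ha
  have h2 : a * g = g * a := Subtype.ext h1
  show ρ a * ρ g = ρ g * ρ a
  rw [← map_mul, ← map_mul, h2]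

/-- A map of the system carries `N_S(A) ∩ K(B)` into `N_S(ρ A) ∩ K(ρ B)`. -/
theorem card_nk_le_of_map [Finite S] (F : FusionSystem S) {N : Subgroup Ω} {ρ : N →* Ω}
    (hρ : ρ ∈ F.Hom N) (A B : Subgroup Ω) (c : Prop)
    (hM : FusionSystem.normalizerIn S A ⊓ dOf S B c ≤ N) :
    Nat.card ↥(FusionSystem.normalizerIn S A ⊓ dOf S B c) ≤
      Nat.card ↥(FusionSystem.normalizerIn S ((A.subgroupOf N).map ρ) ⊓
        dOf S ((B.subgroupOf N).map ρ) c) := by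
  haveI : Finite ↥(FusionSystem.normalizerIn S ((A.subgroupOf N).map ρ) ⊓
      dOf S ((B.subgroupOf N).map ρ) c) := finite_of_le (fun g hg => hg.1.1)
  have hρS := (F.le_of_mem hρ).2
  have hmem : ∀ g : ↥(FusionSystem.normalizerIn S A ⊓ dOf S B c), ρ ⟨g, hM g.2⟩ ∈
      FusionSystem.normalizerIn S ((A.subgroupOf N).map ρ) ⊓
        dOf S ((B.subgroupOf N).map ρ) c := by
    intro g
    refine ⟨⟨hρS _, map_mem_normalizer ρ ⟨g, hM g.2⟩ g.2.1.2⟩,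
      ⟨hρS _, map_mem_normalizer ρ ⟨g, hM g.2⟩ g.2.2.1.2⟩, fun hc => ?_⟩
    exact map_mem_centralizer ρ ⟨g, hM g.2⟩ (g.2.2.2 hc)
  apply Nat.card_le_card_of_injective
    (fun g : ↥(FusionSystem.normalizerIn S A ⊓ dOf S B c) => (⟨ρ ⟨g, hM g.2⟩, hmem g⟩ :
    ↥(FusionSystem.normalizerIn S ((A.subgroupOf N).map ρ) ⊓ dOf S ((B.subgroupOf N).map ρ) c)))
  intro g₁ g₂ h
  have h1 : ρ ⟨g₁, hM g₁.2⟩ = ρ ⟨g₂, hM g₂.2⟩ := congrArg Subtype.val h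
  have h2 := F.injective_of_mem hρ h1
  have h3 : ((⟨g₁, hM g₁.2⟩ : N) : Ω) = ((⟨g₂, hM g₂.2⟩ : N) : Ω) := congrArg Subtype.val h2
  exact Subtype.ext h3

/-- Returning to `Q`: abstract form. -/
theorem kRet_of [Finite S] (F : FusionSystem S) {P Q : Subgroup Ω} (c : Prop)
    {φ₀ : ↥(P ⊔ Q) →* Ω} (hφ₀ : φ₀ ∈ F.Hom (P ⊔ Q)) {N : Subgroup Ω} {ρ : N →* Ω}
    (hρ : ρ ∈ F.Hom N) (h1 : ∀ z : ↥(P ⊔ Q), φ₀ z ∈ N)
    (h2 : FusionSystem.normalizerIn S ((P.subgroupOf (P ⊔ Q)).map φ₀) ⊓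
      dOf S ((Q.subgroupOf (P ⊔ Q)).map φ₀) c ≤ N)
    (h3 : ((((Q.subgroupOf (P ⊔ Q)).map φ₀ : Subgroup Ω)).subgroupOf N).map ρ = Q)
    (h4 : c → ∀ q : Q, ρ ⟨φ₀ (Subgroup.inclusion le_sup_right q), h1 _⟩ = q) :
    ∃ φ₁ ∈ F.Hom (P ⊔ Q), (Q.subgroupOf (P ⊔ Q)).map φ₁ = Q ∧
      (c → ∀ x : Q, φ₁ (Subgroup.inclusion le_sup_right x) = x) ∧
      Nat.card ↥(FusionSystem.normalizerIn S ((P.subgroupOf (P ⊔ Q)).map φ₀) ⊓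
        dOf S ((Q.subgroupOf (P ⊔ Q)).map φ₀) c) ≤
      Nat.card ↥(FusionSystem.normalizerIn S ((P.subgroupOf (P ⊔ Q)).map φ₁) ⊓
        dOf S ((Q.subgroupOf (P ⊔ Q)).map φ₁) c) := by
  refine ⟨ρ.comp (φ₀.codRestrict N h1), F.comp_mem hφ₀ hρ h1, ?_, fun hc q => h4 hc q, ?_⟩
  · rw [map_comp_codRestrict φ₀ ρ h1 rfl]
    exact h3
  · rw [map_comp_codRestrict φ₀ ρ h1 rfl, map_comp_codRestrict φ₀ ρ h1 rfl]
    exact card_nk_le_of_map F hρ _ _ c h2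

theorem kSat [Finite S] {p : ℕ} [Fact p.Prime] (hS : IsPGroup p S) (F : FusionSystem S)
    (hF : F.IsSaturated p) {Q : Subgroup Ω} (hQ : Q ≤ S) (c : Prop)
    (E : FusionSystem (dOf S Q c)) (hE : ∀ P, E.Hom P = kHom F Q c (dOf S Q c) P)
    (hret : ∀ P ≤ dOf S Q c, ∀ φ₀ ∈ F.Hom (P ⊔ Q), ∃ φ₁ ∈ F.Hom (P ⊔ Q),
      (Q.subgroupOf (P ⊔ Q)).map φ₁ = Q ∧
      (c → ∀ x : Q, φ₁ (Subgroup.inclusion le_sup_right x) = x) ∧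
      Nat.card ↥(FusionSystem.normalizerIn S ((P.subgroupOf (P ⊔ Q)).map φ₀) ⊓
        dOf S ((Q.subgroupOf (P ⊔ Q)).map φ₀) c) ≤
      Nat.card ↥(FusionSystem.normalizerIn S ((P.subgroupOf (P ⊔ Q)).map φ₁) ⊓
        dOf S ((Q.subgroupOf (P ⊔ Q)).map φ₁) c)) :
    E.IsSaturated p := by
  intro P hPD
  have hP : P ≤ S := hPD.trans (dOf_le S Q c)
  have hRS : P ⊔ Q ≤ S := sup_le hP hQ
  obtain ⟨m, hm⟩ : ∃ m : (↥(P ⊔ Q) →* Ω) → ℕ, ∀ φ, m φ =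
      Nat.card ↥(FusionSystem.normalizerIn S ((P.subgroupOf (P ⊔ Q)).map φ) ⊓
        dOf S ((Q.subgroupOf (P ⊔ Q)).map φ) c) := ⟨_, fun _ => rfl⟩
  have hbound : ∀ φ, m φ ≤ Nat.card S := by
    intro φ
    rw [hm]
    exact Subgroup.card_le_of_le (fun g hg => hg.1.1)
  obtain ⟨φ₀, hφ₀, hφ₀max⟩ : ∃ φ₀ ∈ F.Hom (P ⊔ Q), ∀ ψ ∈ F.Hom (P ⊔ Q), m ψ ≤ m φ₀ := by
    classical
    set s : Set ℕ := {n | ∃ φ ∈ F.Hom (P ⊔ Q), m φ = n} with hs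
    have hne : s.Nonempty := ⟨_, _, fs_id_mem F hRS, rfl⟩
    have hbdd : BddAbove s := ⟨Nat.card S, by rintro n ⟨φ, -, rfl⟩; exact hbound φ⟩
    obtain ⟨φ₀, hφ₀, hφ₀m⟩ := Nat.sSup_mem hne hbdd
    exact ⟨φ₀, hφ₀, fun ψ hψ => by rw [hφ₀m]; exact le_csSup hbdd ⟨ψ, hψ, rfl⟩⟩
  obtain ⟨φ₁, hφ₁, hmapQ, hcφ₁, hle⟩ := hret P hPD φ₀ hφ₀
  rw [← hm, ← hm] at hle
  have hφ₁max : ∀ ψ ∈ F.Hom (P ⊔ Q), m ψ ≤ m φ₁ := fun ψ hψ => (hφ₀max ψ hψ).trans hle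
  obtain ⟨P', hP'⟩ : ∃ P', P' = (P.subgroupOf (P ⊔ Q)).map φ₁ := ⟨_, rfl⟩
  have hmem := kHom_of_ext F c hPD hφ₁ hmapQ hcφ₁
  have hrange : (φ₁.comp (Subgroup.inclusion le_sup_left)).range = P' := by
    rw [hP']
    exact (map_subgroupOf_eq_range le_sup_left φ₁ _ (fun x => rfl)).symm
  have hP'D : P' ≤ dOf S Q c := by
    rw [← hrange]
    rintro _ ⟨x, rfl⟩
    exact hmem.2.2.1 x
  have hP'S : P' ≤ S := hP'D.trans (dOf_le S Q c)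
  have hφ₁R : ∀ z : ↥(P ⊔ Q), φ₁ z ∈ P' ⊔ Q := by
    apply sup_map_mem
    · intro x
      apply Subgroup.mem_sup_left
      rw [hP']
      exact ⟨_, x.2, rfl⟩
    · intro x
      exact Subgroup.mem_sup_right (hmapQ.le ⟨_, x.2, rfl⟩)
  have hmax : ∀ ψ ∈ F.Hom (P' ⊔ Q),
      Nat.card ↥(FusionSystem.normalizerIn S ((P'.subgroupOf (P' ⊔ Q)).map ψ) ⊓
        dOf S ((Q.subgroupOf (P' ⊔ Q)).map ψ) c) ≤
      Nat.card ↥(FusionSystem.normalizerIn S P' ⊓ dOf S Q c) := by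
    intro ψ hψ
    have h1 := hφ₁max _ (F.comp_mem hφ₁ hψ hφ₁R)
    rw [hm, hm, map_comp_codRestrict φ₁ ψ hφ₁R hP'.symm, map_comp_codRestrict φ₁ ψ hφ₁R hmapQ,
      ← hP', hmapQ] at h1
    exact h1
  obtain ⟨hfc, hsyl⟩ := kB1 hS F hF hP'S hQ c hmax
  refine ⟨P', ⟨_, ?_, hrange⟩, kB2 F hQ c E hE hP'D hsyl, kB3 hS F hF hQ c E hE hP'D hfc hsyl⟩
  rw [hE]
  exact hmem

theorem kSat' [Finite S] {p : ℕ} [Fact p.Prime] (hS : IsPGroup p S) (F : FusionSystem S)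
    (hF : F.IsSaturated p) {Q : Subgroup Ω} (hQ : Q ≤ S) (c : Prop)
    (D : Subgroup Ω) (hD : D = dOf S Q c)
    (E : FusionSystem D) (hE : ∀ P, E.Hom P = kHom F Q c D P)
    (hret : ∀ P ≤ dOf S Q c, ∀ φ₀ ∈ F.Hom (P ⊔ Q), ∃ φ₁ ∈ F.Hom (P ⊔ Q),
      (Q.subgroupOf (P ⊔ Q)).map φ₁ = Q ∧
      (c → ∀ x : Q, φ₁ (Subgroup.inclusion le_sup_right x) = x) ∧
      Nat.card ↥(FusionSystem.normalizerIn S ((P.subgroupOf (P ⊔ Q)).map φ₀) ⊓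
        dOf S ((Q.subgroupOf (P ⊔ Q)).map φ₀) c) ≤
      Nat.card ↥(FusionSystem.normalizerIn S ((P.subgroupOf (P ⊔ Q)).map φ₁) ⊓
        dOf S ((Q.subgroupOf (P ⊔ Q)).map φ₁) c)) :
    E.IsSaturated p := by
  subst hD
  exact kSat hS F hF hQ c E hE hret

end Cfsg.Agent.Lib.Helper8
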