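import Cfsg.Agent.Lib.Helper8.KSys6

set_option autoImplicit false
open Cfsg

namespace Cfsg.Agent.Lib.Helper8

variable {Ω : Type*} [Group Ω] {S : Subgroup Ω}

theorem kRet_inv (F : FusionSystem S) {P Q : Subgroup Ω} {φ₀ : ↥(P ⊔ Q) →* Ω}
    (hφ₀ : φ₀ ∈ F.Hom (P ⊔ Q)) :
    ∃ θ ∈ F.Hom ((Q.subgroupOf (P ⊔ Q)).map φ₀), θ.range = Q ∧
      ∀ (q : Q) (h : φ₀ (Subgroup.inclusion le_sup_right q) ∈ (Q.subgroupOf (P ⊔ Q)).map φ₀),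
        θ ⟨φ₀ (Subgroup.inclusion le_sup_right q), h⟩ = q := by
  have hφQ := fs_restrict F (le_sup_right : Q ≤ P ⊔ Q) hφ₀
  have hr : (φ₀.comp (Subgroup.inclusion (le_sup_right : Q ≤ P ⊔ Q))).range =
      (Q.subgroupOf (P ⊔ Q)).map φ₀ :=
    (map_subgroupOf_eq_range le_sup_right φ₀ _ (fun x => rfl)).symm
  obtain ⟨θ, hθ, hθe, hθr⟩ := fs_inv' F hφQ hr
  exact ⟨θ, hθ, hθr, fun q h => hθe q h⟩

theorem kRetN [Finite S] {p : ℕ} [Fact p.Prime] (hS : IsPGroup p S) (F : FusionSystem S)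
    (hF : F.IsSaturated p) {Q : Subgroup Ω} (hfn : F.IsFullyNormalized Q) :
    ∀ P ≤ dOf S Q False, ∀ φ₀ ∈ F.Hom (P ⊔ Q), ∃ φ₁ ∈ F.Hom (P ⊔ Q),
      (Q.subgroupOf (P ⊔ Q)).map φ₁ = Q ∧
      (False → ∀ x : Q, φ₁ (Subgroup.inclusion le_sup_right x) = x) ∧
      Nat.card ↥(FusionSystem.normalizerIn S ((P.subgroupOf (P ⊔ Q)).map φ₀) ⊓
        dOf S ((Q.subgroupOf (P ⊔ Q)).map φ₀) False) ≤
      Nat.card ↥(FusionSystem.normalizerIn S ((P.subgroupOf (P ⊔ Q)).map φ₁) ⊓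
        dOf S ((Q.subgroupOf (P ⊔ Q)).map φ₁) False) := by
  intro P hPD φ₀ hφ₀
  obtain ⟨hfc, hfa⟩ := sat_fn hS F hF hfn
  have hrec := sat_fc_receptive hS F hF hfc
  obtain ⟨θ, hθ, hθr, hθe⟩ := kRet_inv F hφ₀
  obtain ⟨ρ, hρ, hρN, hρQ⟩ := key_lemma hS F hfa hrec hθ hθr
  have hφ₀S := (F.le_of_mem hφ₀).2
  have hRN : P ⊔ Q ≤ Subgroup.normalizer (Q : Set Ω) :=
    sup_le (hPD.trans (dOf_le_normalizer S Q False)) Subgroup.le_normalizer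
  have h1 : ∀ z : ↥(P ⊔ Q), φ₀ z ∈
      FusionSystem.normalizerIn S ((Q.subgroupOf (P ⊔ Q)).map φ₀) := by
    intro z
    exact ⟨hφ₀S z, map_mem_normalizer φ₀ z (hRN z.2)⟩
  exact kRet_of F False hφ₀ hρ h1 (fun g hg => hg.2.1) hρQ (fun h => h.elim)

theorem kRetC [Finite S] {p : ℕ} [Fact p.Prime] (hS : IsPGroup p S) (F : FusionSystem S)
    (hF : F.IsSaturated p) {Q : Subgroup Ω} (hfc : F.IsFullyCentralized Q) :
    ∀ P ≤ dOf S Q True, ∀ φ₀ ∈ F.Hom (P ⊔ Q), ∃ φ₁ ∈ F.Hom (P ⊔ Q),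
      (Q.subgroupOf (P ⊔ Q)).map φ₁ = Q ∧
      (True → ∀ x : Q, φ₁ (Subgroup.inclusion le_sup_right x) = x) ∧
      Nat.card ↥(FusionSystem.normalizerIn S ((P.subgroupOf (P ⊔ Q)).map φ₀) ⊓
        dOf S ((Q.subgroupOf (P ⊔ Q)).map φ₀) True) ≤
      Nat.card ↥(FusionSystem.normalizerIn S ((P.subgroupOf (P ⊔ Q)).map φ₁) ⊓
        dOf S ((Q.subgroupOf (P ⊔ Q)).map φ₁) True) := by
  intro P hPD φ₀ hφ₀
  have hrec := sat_fc_receptive hS F hF hfc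
  obtain ⟨θ, hθ, hθr, hθe⟩ := kRet_inv F hφ₀
  obtain ⟨ρ, hρ, hρe⟩ := hrec.2 _ θ hθ hθr
  have hφ₀S := (F.le_of_mem hφ₀).2
  have hQ₁N := fs_le_extender F hθ
  have hCN := fs_centralizerIn_le_extender S ((Q.subgroupOf (P ⊔ Q)).map φ₀) θ
  have h1 : ∀ z : ↥(P ⊔ Q), φ₀ z ∈
      FusionSystem.extender S ((Q.subgroupOf (P ⊔ Q)).map φ₀) θ := by
    apply sup_map_mem
    · intro x
      apply hCN
      exact ⟨hφ₀S _, map_mem_centralizer φ₀ _ ((hPD x.2).2 trivial)⟩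
    · intro q
      exact hQ₁N ⟨_, q.2, rfl⟩
  refine kRet_of F True hφ₀ hρ h1 (fun g hg => hCN ⟨hg.2.1.1, hg.2.2 trivial⟩) ?_
    (fun _ q => ?_)
  · ext y
    constructor
    · rintro ⟨z, hz, rfl⟩
      have hz' : (z : Ω) ∈ (Q.subgroupOf (P ⊔ Q)).map φ₀ := hz
      exact hθr.le ⟨⟨z, hz'⟩, (hρe z hz' z.2).symm⟩
    · intro hy
      obtain ⟨w, rfl⟩ := hθr.ge hy
      exact ⟨⟨w, hQ₁N w.2⟩, w.2, hρe w w.2 _⟩
  · have h5 := hρe (φ₀ (Subgroup.inclusion le_sup_right q)) ⟨_, q.2, rfl⟩ (h1 _)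
    rw [h5]
    exact hθe q _

theorem normalizer_saturated [Finite S] {p : ℕ} [Fact p.Prime] (hS : IsPGroup p S)
    (F : FusionSystem S) (hF : F.IsSaturated p) {Q : Subgroup Ω} (hfn : F.IsFullyNormalized Q)
    (E : FusionSystem (FusionSystem.normalizerIn S Q)) (hE : F.IsNormalizerSystem Q E) :
    E.IsSaturated p := by
  refine kSat' hS F hF hfn.1 False _ (dOf_false S Q).symm E ?_ (kRetN hS F hF hfn)
  intro P
  rw [hE P]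
  ext φ
  constructor
  · rintro ⟨h1, h2, h3, ψ, hψ, h4, h5⟩
    exact ⟨h1, h2, h3, ψ, hψ, h4, h5, fun h => h.elim⟩
  · rintro ⟨h1, h2, h3, ψ, hψ, h4, h5, -⟩
    exact ⟨h1, h2, h3, ψ, hψ, h4, h5⟩

theorem centralizer_saturated [Finite S] {p : ℕ} [Fact p.Prime] (hS : IsPGroup p S)
    (F : FusionSystem S) (hF : F.IsSaturated p) {Q : Subgroup Ω} (hfc : F.IsFullyCentralized Q)
    (E : FusionSystem (FusionSystem.centralizerIn S Q)) (hE : F.IsCentralizerSystem Q E) :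
    E.IsSaturated p := by
  refine kSat' hS F hF hfc.1 True _ (dOf_true S Q).symm E ?_ (kRetC hS F hF hfc)
  intro P
  rw [hE P]
  ext φ
  constructor
  · rintro ⟨h1, h2, h3, ψ, hψ, h4, h5⟩
    refine ⟨h1, h2, h3, ψ, hψ, h4, ?_, fun _ => h5⟩
    ext y
    constructor
    · rintro ⟨z, hz, rfl⟩
      have h6 := h5 ⟨z, hz⟩
      have e : Subgroup.inclusion (le_sup_right : Q ≤ P ⊔ Q) ⟨(z : Ω), hz⟩ = z := Subtype.ext rfl
      rw [e] at h6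
      rw [h6]
      exact hz
    · intro hy
      exact ⟨Subgroup.inclusion le_sup_right ⟨y, hy⟩, hy, h5 ⟨y, hy⟩⟩
  · rintro ⟨h1, h2, h3, ψ, hψ, h4, -, h6⟩
    exact ⟨h1, h2, h3, ψ, hψ, h4, h6 trivial⟩

end Cfsg.Agent.Lib.Helper8
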