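import Mathlib
import Cfsg.Agent.Lib.Helper8.PCore
import Cfsg.Agent.Lib.Helper8.Sat
import Cfsg.Agent.Lib.Helper8.SatB
import Cfsg.Agent.Lib.Helper8.KNorm
import Cfsg.Agent.S5096

set_option autoImplicit false

namespace Cfsg.Agent.Lib.Helper8

open Cfsg Cfsg.FusionSystem

theorem mem_pCore_map_iff {G : Type*} [Group G] (p : ℕ) (A : Subgroup G) (x : G) :
    x ∈ (pCore p ↥A).map A.subtype ↔ ∃ L : Subgroup G, x ∈ L ∧ L ≤ A ∧
      (∀ a ∈ A, ∀ l ∈ L, a * l * a⁻¹ ∈ L) ∧ IsPGroup p L := by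
  constructor
  · intro h
    haveI := pCore_normal p ↥A
    refine ⟨(pCore p ↥A).map A.subtype, h, ?_, ?_, (pCore_isPGroup p ↥A).map _⟩
    · rintro _ ⟨l, -, rfl⟩
      exact l.2
    · rintro a ha _ ⟨l, hl, rfl⟩
      exact ⟨⟨a, ha⟩ * l * ⟨a, ha⟩⁻¹, ‹(pCore p ↥A).Normal›.conj_mem l hl _, rfl⟩
  · rintro ⟨L, hxL, hLA, hnorm, hp⟩
    have hn : (L.subgroupOf A).Normal := by
      refine ⟨fun l hl a => ?_⟩
      rw [Subgroup.mem_subgroupOf] at hl ⊢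
      exact hnorm a.1 a.2 l.1 hl
    have h1 := le_pCore hn hp.comap_subtype
    exact ⟨⟨x, hLA hxL⟩, h1 (Subgroup.mem_subgroupOf.mpr hxL), rfl⟩

theorem quad_fix {Q : Type*} [Group Q] (χ : MulAut Q)
    (hq : ∀ a : Q, (χ a⁻¹) * a * (χ a⁻¹) * (χ (χ a)) = 1) (a : Q) :
    χ (a⁻¹ * χ a) = a⁻¹ * χ a := by
  have h1 := hq a
  rw [map_mul]
  have h2 : (χ a⁻¹ * a) * (χ a⁻¹ * χ (χ a)) = 1 := by
    rw [← h1]; group
  have h3 : χ a⁻¹ * χ (χ a) = (χ a⁻¹ * a)⁻¹ := (inv_eq_of_mul_eq_one_right h2).symm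
  rw [h3, mul_inv_rev, map_inv, inv_inv]

theorem quad_pow {Q : Type*} [Group Q] (χ : MulAut Q)
    (hq : ∀ a : Q, (χ a⁻¹) * a * (χ a⁻¹) * (χ (χ a)) = 1) (k : ℕ) (a : Q) :
    (χ ^ k) a = a * (a⁻¹ * χ a) ^ k := by
  induction k with
  | zero => simp
  | succ k ih =>
    rw [pow_succ', MulAut.mul_apply, ih, map_mul, map_pow, quad_fix χ hq a, pow_succ',
      ← mul_assoc]
    congr 1
    group

theorem quad_pow_card {Q : Type*} [Group Q] [Finite Q] (χ : MulAut Q)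
    (hq : ∀ a : Q, (χ a⁻¹) * a * (χ a⁻¹) * (χ (χ a)) = 1) : χ ^ Nat.card Q = 1 := by
  ext a
  rw [quad_pow χ hq, pow_card_eq_one', mul_one, MulAut.one_apply]

theorem mulAut_comm_of_cyclic {Q : Type*} [Group Q] [IsCyclic Q] (α β : MulAut Q) :
    α * β = β * α := by
  obtain ⟨g, hg⟩ := IsCyclic.exists_generator (α := Q)
  obtain ⟨i, hi⟩ := Subgroup.mem_zpowers_iff.mp (hg (α g))
  obtain ⟨j, hj⟩ := Subgroup.mem_zpowers_iff.mp (hg (β g))
  have hα : ∀ m : ℤ, α (g ^ m) = g ^ (i * m) := fun m => by rw [map_zpow, ← hi, ← zpow_mul]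
  have hβ : ∀ m : ℤ, β (g ^ m) = g ^ (j * m) := fun m => by rw [map_zpow, ← hj, ← zpow_mul]
  ext x
  obtain ⟨k, rfl⟩ := Subgroup.mem_zpowers_iff.mp (hg x)
  rw [MulAut.mul_apply, MulAut.mul_apply, hβ, hα, hα, hβ]
  congr 1
  ring

variable {Ω : Type*} [Group Ω] {S : Subgroup Ω}

theorem fsEquiv_symm_eq (F : FusionSystem S) {Q P : Subgroup Ω} {φ : Q →* Ω}
    (hφ : φ ∈ F.Hom Q) (hP : φ.range = P) {ψ : P →* Ω} (hψ : ψ ∈ F.Hom P) (hψr : ψ.range = Q)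
    (h1 : ∀ (x : Q) (h : φ x ∈ P), ψ ⟨φ x, h⟩ = (x : Ω)) :
    fsEquiv F hψ hψr = (fsEquiv F hφ hP).symm := by
  ext y
  obtain ⟨x, rfl⟩ := (fsEquiv F hφ hP).surjective y
  rw [MulEquiv.symm_apply_apply]
  exact h1 x _

/-- The `p`-stability condition transfers from a conjugate. -/
theorem pstab_of_conj {p : ℕ} (F : FusionSystem S) {Q R : Subgroup Ω} {φ : Q →* Ω}
    (hφ : φ ∈ F.Hom Q) (hR : φ.range = R)
    (hRst : ∀ χ : MulAut ↥R, χ ∈ F.autGroup R →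
      (∀ a : ↥R, (χ a⁻¹) * a * (χ a⁻¹) * (χ (χ a)) = 1) →
      χ ∈ ((Cfsg.pCore p ↥(F.autGroup R)).map (F.autGroup R).subtype : Subgroup (MulAut ↥R)))
    (χ : MulAut ↥Q) (hχ : χ ∈ F.autGroup Q)
    (hq : ∀ a : ↥Q, (χ a⁻¹) * a * (χ a⁻¹) * (χ (χ a)) = 1) :
    χ ∈ ((Cfsg.pCore p ↥(F.autGroup Q)).map (F.autGroup Q).subtype : Subgroup (MulAut ↥Q)) := by
  obtain ⟨e, hedef⟩ : ∃ e, e = fsEquiv F hφ hR := ⟨_, rfl⟩
  have hc1 : ∀ α : MulAut Q, α ∈ F.autGroup Q → MulAut.congr e α ∈ F.autGroup R := by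
    intro α hα
    rw [hedef]
    exact congr_mem_autGroup F hφ hR hα
  have hc2 : ∀ β : MulAut R, β ∈ F.autGroup R → (MulAut.congr e).symm β ∈ F.autGroup Q := by
    intro β hβ
    obtain ⟨ψ, hψ, h1, h2⟩ := fs_inv' F hφ hR
    have h3 := congr_mem_autGroup F hψ h2 hβ
    rw [fsEquiv_symm_eq F hφ hR hψ h2 h1, ← hedef] at h3
    exact h3
  have hq' : ∀ b : ↥R, (MulAut.congr e χ b⁻¹) * b * (MulAut.congr e χ b⁻¹) *
      (MulAut.congr e χ (MulAut.congr e χ b)) = 1 := by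
    intro b
    obtain ⟨a, rfl⟩ := e.surjective b
    have h1 : ∀ z : Q, MulAut.congr e χ (e z) = e (χ z) := by
      intro z
      show e (χ (e.symm (e z))) = e (χ z)
      rw [MulEquiv.symm_apply_apply]
    rw [← map_inv, h1, h1, h1, ← map_mul, ← map_mul, ← map_mul, hq a, map_one]
  have h2 := hRst (MulAut.congr e χ) (hc1 χ hχ) hq'
  rw [mem_pCore_map_iff] at h2 ⊢
  obtain ⟨L, hxL, hLA, hnorm, hp⟩ := h2
  refine ⟨L.comap (MulAut.congr e).toMonoidHom, hxL, ?_, ?_, ?_⟩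
  · intro α hα
    have h3 := hc2 _ (hLA hα)
    rw [show (MulAut.congr e).toMonoidHom α = MulAut.congr e α from rfl,
      MulEquiv.symm_apply_apply] at h3
    exact h3
  · intro a ha l hl
    rw [Subgroup.mem_comap] at hl ⊢
    rw [map_mul, map_mul, map_inv]
    exact hnorm _ (hc1 a ha) _ hl
  · exact hp.comap_of_injective _ (MulAut.congr e).injective

/-- S5247. -/
theorem fs_pstable_iff_normalizers [Finite S] (p : ℕ) [Fact p.Prime] (hS : IsPGroup p S)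
    (F : Cfsg.FusionSystem S) :
    (∀ Q : Subgroup Ω, F.IsFullyNormalized Q → ∀ χ : MulAut ↥Q, χ ∈ F.autGroup Q →
      (∀ a : ↥Q, (χ a⁻¹) * a * (χ a⁻¹) * (χ (χ a)) = 1) →
      χ ∈ ((Cfsg.pCore p ↥(F.autGroup Q)).map (F.autGroup Q).subtype : Subgroup (MulAut ↥Q))) ↔
    ∀ R : Subgroup Ω, F.IsFullyNormalized R → ¬ IsCyclic ↥R →
      ∀ N : Cfsg.FusionSystem (Cfsg.FusionSystem.normalizerIn S R), F.IsNormalizerSystem R N →
      (∀ Q : Subgroup Ω, N.IsFullyNormalized Q → ∀ χ : MulAut ↥Q, χ ∈ N.autGroup Q →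
        (∀ a : ↥Q, (χ a⁻¹) * a * (χ a⁻¹) * (χ (χ a)) = 1) →
        χ ∈ ((Cfsg.pCore p ↥(N.autGroup Q)).map (N.autGroup Q).subtype :
          Subgroup (MulAut ↥Q))) := by
  constructor
  · intro h R _ _ N hN Q hQfn χ hχ hq
    have hQN : Q ≤ FusionSystem.normalizerIn S R := hQfn.1
    have hQS : Q ≤ S := hQN.trans inf_le_left
    have hsub : N.autGroup Q ≤ F.autGroup Q := by
      intro α hα
      rw [mem_autGroup_iff N hQN, hN Q] at hα
      exact (mem_autGroup_iff F hQS α).mpr hα.1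
    obtain ⟨R', hconj, hR'fn⟩ := exists_fullyNormalized_conj F hQS
    obtain ⟨φ, hφ, hφR⟩ := hconj
    have h1 := pstab_of_conj F hφ hφR (h R' hR'fn) χ (hsub hχ) hq
    rw [mem_pCore_map_iff] at h1 ⊢
    obtain ⟨L, hxL, hLA, hnorm, hp⟩ := h1
    refine ⟨L ⊓ N.autGroup Q, ⟨hxL, hχ⟩, inf_le_right, ?_, hp.to_le inf_le_left⟩
    intro a ha l hl
    exact ⟨hnorm a (hsub ha) l hl.1,
      Subgroup.mul_mem _ (Subgroup.mul_mem _ ha hl.2) (Subgroup.inv_mem _ ha)⟩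
  · intro h Q hQfn χ hχ hq
    have hQS : Q ≤ S := hQfn.1
    by_cases hcyc : IsCyclic ↥Q
    · rw [mem_pCore_map_iff]
      haveI : Finite Q := finite_of_le hQS
      refine ⟨Subgroup.zpowers χ, Subgroup.mem_zpowers χ, ?_, ?_, ?_⟩
      · rw [Subgroup.zpowers_le]; exact hχ
      · intro a _ l hl
        have : a * l * a⁻¹ = l := by
          rw [mulAut_comm_of_cyclic a l, mul_inv_cancel_right]
        rw [this]; exact hl
      · obtain ⟨m, hm⟩ := IsPGroup.iff_card.mp (hS.to_le hQS)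
        rintro ⟨l, hl⟩
        obtain ⟨k, rfl⟩ := Subgroup.mem_zpowers_iff.mp hl
        refine ⟨m, Subtype.ext ?_⟩
        show (χ ^ k) ^ p ^ m = 1
        rw [← zpow_natCast, ← zpow_mul, mul_comm, zpow_mul, zpow_natCast, ← hm,
          quad_pow_card χ hq, one_zpow]
    · obtain ⟨N, hN⟩ := Cfsg.Agent.S5096.result F Q hQS
      have haut := normalizer_autGroup F hQS N hN
      have hQfnN : N.IsFullyNormalized Q := by
        refine ⟨le_normalizerIn hQS, fun Q' hQ' => ?_⟩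
        rw [normalizer_conj_self F N hN hQ']
      have h1 := h Q hQfn hcyc N hN Q hQfnN χ (haut ▸ hχ) hq
      rw [haut] at h1
      exact h1

end Cfsg.Agent.Lib.Helper8
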