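import Mathlib
import Cfsg.Agent.Lib.Helper8.PStab2
import Cfsg.Agent.Lib.Helper8.MorSat
import Cfsg.Agent.Lib.Helper8.FactorSys
import Cfsg.Agent.Lib.Helper8.NormSub
import Cfsg.Agent.Lib.Helper8.GFus

set_option autoImplicit false
open Cfsg
open scoped Pointwise

namespace Cfsg.Agent.Lib.Helper8

variable {Ω : Type*} [Group Ω] {S : Subgroup Ω}

/-- automorphisms in `Aut_F(U)` trivial on `U ∩ T` and modulo `T`, for `T` strongly closed,
lie in `O_p(Aut_F(U))` -/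
theorem stab_series_le_pCore8 [Finite S] {p : ℕ} [Fact p.Prime] (hS : IsPGroup p S)
    (F : FusionSystem S) {T U : Subgroup Ω} (hsc : F.StronglyClosed T) (hUS : U ≤ S)
    (α : MulAut U) (hα : α ∈ F.autGroup U)
    (hfix : ∀ r : U, (r : Ω) ∈ T → α r = r)
    (hquot : ∀ y : U, ((y⁻¹ * α y : U) : Ω) ∈ T) :
    α ∈ (pCore p ↥(F.autGroup U)).map (F.autGroup U).subtype := by
  rw [mem_pCore_map_iff]
  obtain ⟨L, hL⟩ : ∃ L : Subgroup (MulAut U), ∀ β, β ∈ L ↔ (β ∈ F.autGroup U ∧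
      (∀ r : U, (r : Ω) ∈ T → β r = r) ∧ ∀ y : U, ((y⁻¹ * β y : U) : Ω) ∈ T) := by
    refine ⟨{ carrier := {β | β ∈ F.autGroup U ∧
                (∀ r : U, (r : Ω) ∈ T → β r = r) ∧ ∀ y : U, ((y⁻¹ * β y : U) : Ω) ∈ T}
              mul_mem' := ?_
              one_mem' := ?_
              inv_mem' := ?_ }, fun β => Iff.rfl⟩
    · rintro a b ⟨ha1, ha2, ha3⟩ ⟨hb1, hb2, hb3⟩
      refine ⟨Subgroup.mul_mem _ ha1 hb1, ?_, ?_⟩
      · intro r hr
        show a (b r) = r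
        rw [hb2 r hr, ha2 r hr]
      · intro y
        have e : y⁻¹ * (a * b) y = (y⁻¹ * b y) * ((b y)⁻¹ * a (b y)) := by
          show y⁻¹ * a (b y) = _
          group
        rw [e]
        exact T.mul_mem (hb3 y) (ha3 (b y))
    · refine ⟨Subgroup.one_mem _, fun r _ => rfl, fun y => ?_⟩
      have e : y⁻¹ * (1 : MulAut U) y = 1 := by
        show y⁻¹ * y = 1
        group
      rw [e]
      exact T.one_mem
    · rintro a ⟨ha1, ha2, ha3⟩
      refine ⟨Subgroup.inv_mem _ ha1, ?_, ?_⟩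
      · intro r hr
        have h1 := ha2 r hr
        calc a⁻¹ r = a⁻¹ (a r) := by rw [h1]
          _ = r := by simp
      · intro y
        have h1 := ha3 (a⁻¹ y)
        rw [MulAut.apply_inv_self] at h1
        have e : y⁻¹ * a⁻¹ y = ((a⁻¹ y)⁻¹ * y)⁻¹ := by group
        rw [e]
        exact T.inv_mem h1
  refine ⟨L, (hL α).mpr ⟨hα, hfix, hquot⟩, fun β hβ => ((hL β).mp hβ).1, ?_, ?_⟩
  · intro a ha l hl
    obtain ⟨hl1, hl2, hl3⟩ := (hL l).mp hl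
    have hainv : a⁻¹ ∈ F.autGroup U := Subgroup.inv_mem _ ha
    have hT : ∀ b ∈ F.autGroup U, ∀ r : U, (r : Ω) ∈ T → ((b r : U) : Ω) ∈ T := by
      intro b hb r hr
      exact sc_map_mem F hsc ((mem_autGroup_iff F hUS b).mp hb) r hr
    refine (hL _).mpr ⟨Subgroup.mul_mem _ (Subgroup.mul_mem _ ha hl1) hainv, ?_, ?_⟩
    · intro r hr
      show a (l (a⁻¹ r)) = r
      rw [hl2 _ (hT _ hainv r hr), MulAut.apply_inv_self]
    · intro y
      have h1 := hT a ha _ (hl3 (a⁻¹ y))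
      have e : y⁻¹ * (a * l * a⁻¹) y = a ((a⁻¹ y)⁻¹ * l (a⁻¹ y)) := by
        show y⁻¹ * a (l (a⁻¹ y)) = _
        rw [map_mul, map_inv, MulAut.apply_inv_self]
      rw [e]
      exact h1
  · haveI : Finite ↥(U ⊓ T) := finite_of_le (inf_le_left.trans hUS)
    obtain ⟨k, hk⟩ := (IsPGroup.iff_card (p := p)).mp
      (hS.to_le (inf_le_left.trans hUS) : IsPGroup p ↥(U ⊓ T))
    intro g
    refine ⟨k, ?_⟩
    obtain ⟨hg1, hg2, hg3⟩ := (hL g.1).mp g.2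
    apply Subtype.ext
    show ((g : MulAut U)) ^ p ^ k = 1
    have hpow : ∀ n : ℕ, ∀ y : U,
        ((g : MulAut U) ^ n) y = y * (y⁻¹ * (g : MulAut U) y) ^ n := by
      intro n
      induction n with
      | zero =>
        intro y
        simp
      | succ n ih =>
        intro y
        rw [pow_succ', MulAut.mul_apply, ih, map_mul, map_pow, hg2 _ (hg3 y), pow_succ',
          ← mul_assoc, ← mul_assoc, mul_inv_cancel, one_mul]
    ext y
    rw [hpow]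
    have h1 : ((⟨((y⁻¹ * (g : MulAut U) y : U) : Ω),
        Subgroup.mem_inf.mpr ⟨(y⁻¹ * (g : MulAut U) y).2, hg3 y⟩⟩ : ↥(U ⊓ T)) ^ p ^ k) = 1 := by
      rw [← hk]
      exact pow_card_eq_one'
    have h2 : (y⁻¹ * (g : MulAut U) y) ^ p ^ k = 1 := by
      apply Subtype.ext
      exact congrArg (fun z : ↥(U ⊓ T) => (z : Ω)) h1
    rw [h2, mul_one]
    rfl

/-- transport of automorphisms of the system back along a map of the system -/
theorem congr_symm_mem_autGroup8 (F : FusionSystem S) {Q : Subgroup Ω} {φ : Q →* Ω}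
    (hφ : φ ∈ F.Hom Q) {l : MulAut ↥φ.range} (hl : l ∈ F.autGroup φ.range) :
    MulAut.congr (fsEquiv F hφ rfl).symm l ∈ F.autGroup Q := by
  have hQS : Q ≤ S := (F.le_of_mem hφ).1
  have hRS : φ.range ≤ S := fs_range_le F hφ
  rw [mem_autGroup_iff F hQS]
  have hl' := (mem_autGroup_iff F hRS l).mp hl
  obtain ⟨ψ, hψ, h1, h2⟩ := fs_inv F hφ
  have hφR : ∀ x : Q, φ x ∈ φ.range := fun x => ⟨x, rfl⟩
  have hlR : ∀ y : ↥φ.range, (φ.range.subtype.comp l.toMonoidHom) y ∈ φ.range :=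
    fun y => (l y).2
  have h3 := F.comp_mem hφ (F.comp_mem hl' hψ hlR) hφR
  have h4 : (ψ.comp ((φ.range.subtype.comp l.toMonoidHom).codRestrict φ.range hlR)).comp
      (φ.codRestrict φ.range hφR)
      = Q.subtype.comp (MulAut.congr (fsEquiv F hφ rfl).symm l).toMonoidHom := by
    ext x
    show ψ (l ⟨φ x, hφR x⟩) = (((fsEquiv F hφ rfl).symm (l (fsEquiv F hφ rfl x)) : Q) : Ω)
    obtain ⟨w, hw⟩ : ∃ w : Q, w = (fsEquiv F hφ rfl).symm (l (fsEquiv F hφ rfl x)) :=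
      ⟨_, rfl⟩
    have h5 : l (fsEquiv F hφ rfl x) = fsEquiv F hφ rfl w := by
      rw [hw, MulEquiv.apply_symm_apply]
    have h6 : (⟨φ x, hφR x⟩ : ↥φ.range) = fsEquiv F hφ rfl x := Subtype.ext rfl
    rw [h6, h5, MulEquiv.symm_apply_apply]
    exact h1 w
  rw [← h4]
  exact h3

/-- S5251 -/
theorem normal_noncentric8 [Finite S] (p : ℕ) [Fact p.Prime] (hS : IsPGroup p S)
    (F : FusionSystem S) (hF : F.IsSaturated p) {T : Subgroup Ω} (E : FusionSystem T)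
    (hE : E.IsNormalIn F p) (P : Subgroup Ω) (hP : F.IsCentric P)
    (hPT : ¬ E.IsCentric (P ⊓ T)) :
    (∃ φ ∈ F.Hom P, ∃ x ∈ S ⊓ Subgroup.normalizer (φ.range : Set Ω), x ∉ φ.range ∧
      ∃ α ∈ ((pCore p ↥(F.autGroup φ.range)).map (F.autGroup φ.range).subtype :
        Subgroup (MulAut ↥φ.range)),
        ∀ y : ↥φ.range, ((α y : ↥φ.range) : Ω) = x * (y : Ω) * x⁻¹) ∧ ¬ F.IsRadical p P := by
  obtain ⟨⟨-, -, hsub, hsc, -, -⟩, -⟩ := hE
  have hTS : T ≤ S := hsc.1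
  have hPS : P ≤ S := hP.1
  have hTn := sc_conj_mem F hsc
  obtain ⟨Q, hQ⟩ : ∃ Q : Subgroup Ω, Q = P ⊓ T := ⟨_, rfl⟩
  have hQP : Q ≤ P := hQ ▸ inf_le_left
  have hQT : Q ≤ T := hQ ▸ inf_le_right
  have hQS : Q ≤ S := hQP.trans hPS
  obtain ⟨Q', hQQ', hcent⟩ : ∃ Q', E.IsConj Q Q' ∧
      ¬ FusionSystem.centralizerIn T Q' ≤ Q' := by
    by_contra hcon
    push Not at hcon
    apply hPT
    rw [← hQ]
    exact ⟨hQT, hcon⟩
  obtain ⟨θ, hθE, hθr⟩ := hQQ'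
  have hθF : θ ∈ F.Hom Q := hsub Q hθE
  obtain ⟨R, hconj, hfa, hrec, ψ, hψ, hψN, hψQ⟩ := sat_conj_data hS F hF hQS
  have hQ'R : F.IsConj Q' R := fs_isConj_trans F (fs_isConj_symm F ⟨θ, hθF, hθr⟩) hconj
  obtain ⟨φ', hφ', hφ'R⟩ := hQ'R
  obtain ⟨ψ', hψ', hψ'N, hψ'Q⟩ := key_lemma hS F hfa hrec hφ' hφ'R
  have hRS : R ≤ S := hfa.1
  obtain ⟨c, hcC, hcQ'⟩ := SetLike.not_le_iff_exists.mp hcent
  have hcT : c ∈ T := hcC.1
  have hcN : c ∈ FusionSystem.normalizerIn S Q' :=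
    ⟨hTS hcT, Subgroup.centralizer_le_normalizer (Q' : Set Ω) hcC.2⟩
  obtain ⟨c', hc'⟩ : ∃ c' : Ω, c' = ψ' ⟨c, hcN⟩ := ⟨_, rfl⟩
  have hc'T : c' ∈ T := by
    rw [hc']
    exact sc_map_mem F hsc hψ' ⟨c, hcN⟩ hcT
  have hRimg : ∀ r ∈ R, ∃ q : ↥(FusionSystem.normalizerIn S Q'), (q : Ω) ∈ Q' ∧ ψ' q = r := by
    intro r hr
    rw [← hψ'Q] at hr
    obtain ⟨q, hq, rfl⟩ := hr
    exact ⟨q, Subgroup.mem_subgroupOf.mp hq, rfl⟩
  have hc'C : c' ∈ Subgroup.centralizer (R : Set Ω) := by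
    rw [Subgroup.mem_centralizer_iff]
    intro r hr
    obtain ⟨q, hq, rfl⟩ := hRimg r hr
    rw [hc', ← map_mul, ← map_mul]
    congr 1
    apply Subtype.ext
    exact (Subgroup.mem_centralizer_iff.mp hcC.2) q hq
  have hc'R : c' ∉ R := by
    intro h
    obtain ⟨q, hq, hqe⟩ := hRimg c' h
    rw [hc'] at hqe
    have h1 := F.injective_of_mem hψ' hqe
    rw [h1] at hq
    exact hcQ' hq
  have hPN : P ≤ FusionSystem.normalizerIn S Q := by
    intro g hg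
    refine ⟨hPS hg, mem_normalizer_of_forall ?_ ?_⟩
    · intro x hx
      rw [hQ] at hx ⊢
      exact ⟨P.mul_mem (P.mul_mem hg hx.1) (P.inv_mem hg), hTn g (hPS hg) x hx.2⟩
    · intro x hx
      rw [hQ] at hx ⊢
      refine ⟨P.mul_mem (P.mul_mem (P.inv_mem hg) hx.1) hg, ?_⟩
      have h1 := hTn g⁻¹ (S.inv_mem (hPS hg)) x hx.2
      rwa [inv_inv] at h1
  obtain ⟨φ, hφdef⟩ : ∃ φ : P →* Ω, φ = ψ.comp (Subgroup.inclusion hPN) := ⟨_, rfl⟩
  have hφ : φ ∈ F.Hom P := hφdef ▸ fs_restrict F hPN hψ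
  have hφx : ∀ x : P, φ x = ψ (Subgroup.inclusion hPN x) := fun x => by
    rw [hφdef]
    rfl
  have hP'S : φ.range ≤ S := fs_range_le F hφ
  have hRP' : R ≤ φ.range := by
    intro r hr
    rw [← hψQ] at hr
    obtain ⟨q, hq, rfl⟩ := hr
    have hqQ : (q : Ω) ∈ Q := Subgroup.mem_subgroupOf.mp hq
    exact ⟨⟨q, hQP hqQ⟩, by rw [hφx]; rfl⟩
  have hRT : R ≤ T := by
    intro r hr
    rw [← hψQ] at hr
    obtain ⟨q, hq, rfl⟩ := hr
    exact sc_map_mem F hsc hψ q (hQT (Subgroup.mem_subgroupOf.mp hq))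
  have hP'T : ∀ y ∈ φ.range, y ∈ T → y ∈ R := by
    rintro _ ⟨x, rfl⟩ hy
    have hxT : (x : Ω) ∈ T := (sc_map_mem_iff F hsc hφ x).mp hy
    have hxQ : (x : Ω) ∈ Q := by
      rw [hQ]
      exact ⟨x.2, hxT⟩
    rw [← hψQ]
    exact ⟨Subgroup.inclusion hPN x, Subgroup.mem_subgroupOf.mpr hxQ, (hφx x).symm⟩
  obtain ⟨D, hD⟩ : ∃ D : Subgroup Ω, D = FusionSystem.centralizerIn T R := ⟨_, rfl⟩
  have hDT : D ≤ T := hD ▸ inf_le_left
  have hDmem : ∀ d, d ∈ D ↔ d ∈ T ∧ ∀ r ∈ R, r * d = d * r := by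
    intro d
    rw [hD]
    constructor
    · intro h
      exact ⟨h.1, fun r hr => (Subgroup.mem_centralizer_iff.mp h.2) r hr⟩
    · intro h
      exact ⟨h.1, Subgroup.mem_centralizer_iff.mpr h.2⟩
  have hRnorm : ∀ g ∈ φ.range, ∀ r ∈ R, g * r * g⁻¹ ∈ R := by
    intro g hg r hr
    exact hP'T _ (Subgroup.mul_mem _ (Subgroup.mul_mem _ hg (hRP' hr)) (Subgroup.inv_mem _ hg))
      (hTn g (hP'S hg) r (hRT hr))
  have hDconj : ∀ g ∈ φ.range, ∀ d ∈ D, g * d * g⁻¹ ∈ D := by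
    intro g hg d hd
    obtain ⟨hd1, hd2⟩ := (hDmem d).mp hd
    refine (hDmem _).mpr ⟨hTn g (hP'S hg) d hd1, ?_⟩
    intro r hr
    have h1 := hRnorm g⁻¹ (Subgroup.inv_mem _ hg) r hr
    rw [inv_inv] at h1
    have h2 := hd2 _ h1
    calc r * (g * d * g⁻¹) = g * ((g⁻¹ * r * g) * d) * g⁻¹ := by group
      _ = g * (d * (g⁻¹ * r * g)) * g⁻¹ := by rw [h2]
      _ = g * d * g⁻¹ * r := by group
  have hPD : φ.range ≤ Subgroup.normalizer (D : Set Ω) := by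
    intro g hg
    apply mem_normalizer_of_forall
    · exact hDconj g hg
    · intro d hd
      have h1 := hDconj g⁻¹ (Subgroup.inv_mem _ hg) d hd
      rwa [inv_inv] at h1
  have hc'D : c' ∈ D :=
    (hDmem c').mpr ⟨hc'T, fun r hr => (Subgroup.mem_centralizer_iff.mp hc'C) r hr⟩
  have hc'P : c' ∉ φ.range := fun h => hc'R (hP'T c' h hc'T)
  have hWS : φ.range ⊔ D ≤ S := sup_le hP'S (hDT.trans hTS)
  have hne : ¬ φ.range ⊔ D ≤ φ.range := fun h => hc'P (h (Subgroup.mem_sup_right hc'D))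
  obtain ⟨g, hgW, hgN, hgP⟩ :=
    exists_normalizer_not_mem hS (le_sup_left : φ.range ≤ φ.range ⊔ D) hWS hne
  have hgmul : g ∈ ((φ.range : Set Ω) * (D : Set Ω)) := by
    rw [← Subgroup.coe_mul_of_left_le_normalizer_right φ.range D hPD]
    exact hgW
  obtain ⟨y₀, hy₀, x, hxD, rfl⟩ := Set.mem_mul.mp hgmul
  have hy₀' : y₀ ∈ φ.range := hy₀
  have hxD' : x ∈ D := hxD
  have hxN : x ∈ Subgroup.normalizer (φ.range : Set Ω) := by
    have h1 : x = y₀⁻¹ * (y₀ * x) := by group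
    rw [h1]
    exact Subgroup.mul_mem _ (Subgroup.inv_mem _ (Subgroup.le_normalizer hy₀')) hgN
  have hxP : x ∉ φ.range := by
    intro h
    exact hgP (Subgroup.mul_mem _ hy₀' h)
  obtain ⟨hxT, hxC⟩ := (hDmem x).mp hxD'
  have hxS : x ∈ S := hTS hxT
  obtain ⟨α, hα⟩ : ∃ α : MulAut ↥φ.range, α = normConj φ.range ⟨x, hxN⟩ := ⟨_, rfl⟩
  have hαapp : ∀ y : ↥φ.range, ((α y : ↥φ.range) : Ω) = x * (y : Ω) * x⁻¹ := by
    intro y
    rw [hα]
    rfl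
  have hαF : α ∈ F.autGroup φ.range :=
    autInducedBy_le_autGroup F hP'S ((mem_autInducedBy_iff S φ.range α).mpr ⟨x, hxS, hαapp⟩)
  have hαcore : α ∈ (pCore p ↥(F.autGroup φ.range)).map (F.autGroup φ.range).subtype := by
    apply stab_series_le_pCore8 hS F hsc hP'S α hαF
    · intro r hr
      apply Subtype.ext
      rw [hαapp]
      have hrR : (r : Ω) ∈ R := hP'T _ r.2 hr
      have h1 := hxC _ hrR
      calc x * (r : Ω) * x⁻¹ = (r : Ω) * x * x⁻¹ := by rw [h1]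
        _ = r := by group
    · intro y
      show (y : Ω)⁻¹ * ((α y : ↥φ.range) : Ω) ∈ T
      rw [hαapp]
      have h1 := hTn (y : Ω)⁻¹ (S.inv_mem (hP'S y.2)) x hxT
      rw [inv_inv] at h1
      have e : (y : Ω)⁻¹ * (x * (y : Ω) * x⁻¹) = ((y : Ω)⁻¹ * x * (y : Ω)) * x⁻¹ := by group
      rw [e]
      exact T.mul_mem h1 (T.inv_mem hxT)
  refine ⟨⟨φ, hφ, x, ⟨hxS, hxN⟩, hxP, α, hαcore, hαapp⟩, ?_⟩
  intro hrad
  obtain ⟨-, hradeq⟩ := hrad
  obtain ⟨e, he⟩ : ∃ e : P ≃* ↥φ.range, e = fsEquiv F hφ rfl := ⟨_, rfl⟩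
  obtain ⟨β, hβ⟩ : ∃ β : MulAut P, β = MulAut.congr e.symm α := ⟨_, rfl⟩
  have hβcore : β ∈ (pCore p ↥(F.autGroup P)).map (F.autGroup P).subtype := by
    rw [mem_pCore_map_iff] at hαcore ⊢
    obtain ⟨L, hαL, hLA, hLn, hLp⟩ := hαcore
    refine ⟨L.map (MulAut.congr e.symm).toMonoidHom, ⟨α, hαL, hβ.symm⟩, ?_, ?_, hLp.map _⟩
    · rintro _ ⟨l, hl, rfl⟩
      rw [he]
      exact congr_symm_mem_autGroup8 F hφ (hLA hl)
    · rintro a ha _ ⟨l, hl, rfl⟩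
      have haF : MulAut.congr e a ∈ F.autGroup φ.range := by
        rw [he]
        exact congr_mem_autGroup F hφ rfl ha
      refine ⟨MulAut.congr e a * l * (MulAut.congr e a)⁻¹, hLn _ haF l hl, ?_⟩
      have h7 : MulAut.congr e.symm (MulAut.congr e a) = a := by
        apply MulEquiv.ext
        intro x
        show e.symm (e (a (e.symm (e x)))) = a x
        rw [MulEquiv.symm_apply_apply, MulEquiv.symm_apply_apply]
      show MulAut.congr e.symm (MulAut.congr e a * l * (MulAut.congr e a)⁻¹)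
        = a * MulAut.congr e.symm l * a⁻¹
      rw [map_mul, map_mul, map_inv, h7]
  rw [hradeq] at hβcore
  obtain ⟨u, hu⟩ := hβcore
  have hcomm : ∀ y : ↥φ.range, ((e u : ↥φ.range) : Ω)⁻¹ * x * (y : Ω)
      = (y : Ω) * (((e u : ↥φ.range) : Ω)⁻¹ * x) := by
    intro y
    have h1 : α y = e (β (e.symm y)) := by
      rw [hβ]
      show α y = e (e.symm (α (e (e.symm y))))
      rw [MulEquiv.apply_symm_apply, MulEquiv.apply_symm_apply]
    have h2 : β (e.symm y) = u * e.symm y * u⁻¹ := by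
      rw [← hu]
      rfl
    have h3 : α y = e u * y * (e u)⁻¹ := by
      rw [h1, h2, map_mul, map_mul, map_inv, MulEquiv.apply_symm_apply]
    have h5 : x * (y : Ω) * x⁻¹
        = ((e u : ↥φ.range) : Ω) * (y : Ω) * ((e u : ↥φ.range) : Ω)⁻¹ := by
      rw [← hαapp, h3]
      rfl
    calc ((e u : ↥φ.range) : Ω)⁻¹ * x * (y : Ω)
        = ((e u : ↥φ.range) : Ω)⁻¹ * (x * (y : Ω) * x⁻¹) * x := by group
      _ = ((e u : ↥φ.range) : Ω)⁻¹ * (((e u : ↥φ.range) : Ω) * (y : Ω)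
            * ((e u : ↥φ.range) : Ω)⁻¹) * x := by rw [h5]
      _ = (y : Ω) * (((e u : ↥φ.range) : Ω)⁻¹ * x) := by group
  have hz : ((e u : ↥φ.range) : Ω)⁻¹ * x ∈ FusionSystem.centralizerIn S φ.range := by
    refine ⟨S.mul_mem (S.inv_mem (hP'S (e u).2)) hxS, ?_⟩
    show _ ∈ Subgroup.centralizer (φ.range : Set Ω)
    rw [Subgroup.mem_centralizer_iff]
    intro y hy
    exact (hcomm ⟨y, hy⟩).symm
  have hzP := hP.2 φ.range ⟨φ, hφ, rfl⟩ hz
  apply hxP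
  have e1 : x = ((e u : ↥φ.range) : Ω) * (((e u : ↥φ.range) : Ω)⁻¹ * x) := by group
  rw [e1]
  exact Subgroup.mul_mem _ (e u).2 hzP

end Cfsg.Agent.Lib.Helper8
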