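import Cfsg.Agent.Lib.Helper8.GL1
import Cfsg.Agent.Lib.Helper8.Chain
import Cfsg.Agent.Lib.Helper8.Series
import Cfsg.Agent.Lib.Helper8.Solv2
import Cfsg.Agent.Lib.Helper8.FactorSys

set_option autoImplicit false
open Cfsg
open scoped commutatorElement

namespace Cfsg.Agent.Lib.Helper8

variable {Ω : Type*} [Group Ω] {S : Subgroup Ω}

theorem omegaOne_le (p : ℕ) (P : Subgroup Ω) : omegaOne p P ≤ P := by
  unfold omegaOne
  rw [Subgroup.closure_le]
  rintro x ⟨hx, -⟩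
  exact hx

theorem omegaOne_sc (F : FusionSystem S) (p : ℕ) {P : Subgroup Ω} (hP : F.IsNormal P) :
    F.StronglyClosed (omegaOne p P) := by
  refine ⟨(omegaOne_le p P).trans hP.1, fun R hR φ hφ x => ?_⟩
  obtain ⟨ψ, hψ, hext, hmap⟩ := hP.2 R φ hφ
  have key : ∀ w ∈ Subgroup.closure {x : Ω | x ∈ P ∧ x ^ p = 1}, ∀ hw : w ∈ R ⊔ P,
      ψ ⟨w, hw⟩ ∈ Subgroup.closure {x : Ω | x ∈ P ∧ x ^ p = 1} := by
    intro w hw
    induction hw using Subgroup.closure_induction with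
    | mem y hy =>
      intro hw'
      obtain ⟨hyP, hyp⟩ := hy
      apply Subgroup.subset_closure
      constructor
      · have h2 : ψ ⟨y, hw'⟩ ∈ Subgroup.map ψ (P.subgroupOf (R ⊔ P)) := ⟨⟨y, hw'⟩, hyP, rfl⟩
        rw [hmap] at h2
        exact h2
      · have h1 : (⟨y, hw'⟩ : ↥(R ⊔ P)) ^ p = 1 := Subtype.ext hyp
        rw [← map_pow, h1, map_one]
    | one =>
      intro hw'
      have h1 : (⟨1, hw'⟩ : ↥(R ⊔ P)) = 1 := rfl
      rw [h1, map_one]
      exact Subgroup.one_mem _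
    | mul a b ha' hb' ha hb =>
      intro hw'
      have haP : a ∈ R ⊔ P := (le_sup_right : P ≤ R ⊔ P) (omegaOne_le p P ha')
      have hbP : b ∈ R ⊔ P := (le_sup_right : P ≤ R ⊔ P) (omegaOne_le p P hb')
      have h1 : (⟨a * b, hw'⟩ : ↥(R ⊔ P)) = ⟨a, haP⟩ * ⟨b, hbP⟩ := rfl
      rw [h1, map_mul]
      exact Subgroup.mul_mem _ (ha haP) (hb hbP)
    | inv a ha' ha =>
      intro hw'
      have haP : a ∈ R ⊔ P := (le_sup_right : P ≤ R ⊔ P) (omegaOne_le p P ha')
      have h1 : (⟨a⁻¹, hw'⟩ : ↥(R ⊔ P)) = ⟨a, haP⟩⁻¹ := rfl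
      rw [h1, map_inv]
      exact Subgroup.inv_mem _ (ha haP)
  rw [← hext x]
  exact key x (hR x.2) _

theorem omega_chain_of_normal [Finite S] {p : ℕ} [Fact p.Prime] (hS : IsPGroup p S)
    (F : FusionSystem S) {P : Subgroup Ω} (hP : F.IsNormal P) :
    ∃ (n : ℕ) (Q : Fin (n + 1) → Subgroup Ω), Q 0 = ⊥ ∧ Q (Fin.last n) = omegaOne p P ∧
      Monotone Q ∧ (∀ i : Fin (n + 1), F.StronglyClosed (Q i)) ∧
      ∀ i : Fin n, ⁅Q i.succ, P⁆ ≤ Q i.castSucc := by
  obtain ⟨n, C, hC0, hCl, hCm, hCc, hCn⟩ := ucs_data hS F hP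
  refine ⟨n, fun i => omegaOne p P ⊓ C i, ?_, ?_, ?_, ?_, ?_⟩
  · show omegaOne p P ⊓ C 0 = ⊥
    rw [hC0, inf_bot_eq]
  · show omegaOne p P ⊓ C (Fin.last n) = _
    rw [hCl]
    exact inf_eq_left.mpr (omegaOne_le p P)
  · intro i j hij
    exact inf_le_inf_left _ (hCm hij)
  · intro i
    exact sc_inf F (omegaOne_sc F p hP) (sc_of_normal F (hCn i))
  · intro i
    apply le_inf
    · rw [Subgroup.commutator_le]
      intro w hw x hx
      have h1 := sc_conj_mem F (omegaOne_sc F p hP) x (hP.1 hx) w⁻¹ (Subgroup.inv_mem _ hw.1)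
      have e : ⁅w, x⁆ = w * (x * w⁻¹ * x⁻¹) := by rw [commutatorElement_def]; group
      rw [e]
      exact Subgroup.mul_mem _ hw.1 h1
    · exact (Subgroup.commutator_mono inf_le_right le_rfl).trans (hCc i)

theorem normal_of_omega_chain [Finite S] {p : ℕ} [Fact p.Prime] (hS : IsPGroup p S)
    (F : FusionSystem S) (hF : F.IsSaturated p) (hp : p ≠ 2) {P : Subgroup Ω}
    (hP : F.StronglyClosed P) (n : ℕ) (Q : Fin (n + 1) → Subgroup Ω) (hQ0 : Q 0 = ⊥)
    (hQl : Q (Fin.last n) = omegaOne p P)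
    (hQsc : ∀ i, F.StronglyClosed (Q i)) (hQc : ∀ i : Fin n, ⁅Q i.succ, P⁆ ≤ Q i.castSucc) :
    F.IsNormal P := by
  apply normal_of_sc_of_le_cr hS F hF hP
  intro U _ hUc hUr
  have hUS := hUc.1
  haveI : Finite U := finite_of_le hUS
  haveI : Finite (MulAut U) := finite_mulAut U
  have hUp : IsPGroup p U := hS.to_le hUS
  have hscinv : ∀ W : Subgroup Ω, F.StronglyClosed W → ∀ β ∈ F.autGroup U, ∀ x : U,
      (x : Ω) ∈ W → ((β x : U) : Ω) ∈ W := by
    intro W hW β hβ x hx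
    exact sc_map_mem F hW ((mem_autGroup_iff F hUS β).mp hβ) x hx
  let D : Subgroup (MulAut U) :=
    { carrier := {α | α ∈ F.autGroup U ∧ (∀ x : U, ((x⁻¹ * α x : U) : Ω) ∈ P) ∧
        ∀ i : Fin n, ∀ x : U, (x : Ω) ∈ Q i.succ → ((x⁻¹ * α x : U) : Ω) ∈ Q i.castSucc}
      one_mem' := by
        refine ⟨Subgroup.one_mem _, fun x => ?_, fun i x hx => ?_⟩
        · have e : x⁻¹ * (1 : MulAut U) x = 1 := by simp
          rw [e]
          exact Subgroup.one_mem _
        · have e : x⁻¹ * (1 : MulAut U) x = 1 := by simp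
          rw [e]
          exact Subgroup.one_mem _
      mul_mem' := by
        rintro α β ⟨hα, hαP, hαQ⟩ ⟨hβ, hβP, hβQ⟩
        refine ⟨Subgroup.mul_mem _ hα hβ, fun x => ?_, fun i x hx => ?_⟩
        · have e : x⁻¹ * (α * β) x = (x⁻¹ * β x) * ((β x)⁻¹ * α (β x)) := by
            rw [MulAut.mul_apply]
            group
          rw [e]
          exact Subgroup.mul_mem _ (hβP x) (hαP (β x))
        · have e : x⁻¹ * (α * β) x = (x⁻¹ * β x) * ((β x)⁻¹ * α (β x)) := by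
            rw [MulAut.mul_apply]
            group
          rw [e]
          exact Subgroup.mul_mem _ (hβQ i x hx)
            (hαQ i (β x) (hscinv _ (hQsc _) β hβ x hx))
      inv_mem' := by
        rintro α ⟨hα, hαP, hαQ⟩
        have hαi := Subgroup.inv_mem _ hα
        refine ⟨hαi, fun x => ?_, fun i x hx => ?_⟩
        · have h1 := hαP (α⁻¹ x)
          rw [MulAut.apply_inv_self] at h1
          have e : x⁻¹ * α⁻¹ x = ((α⁻¹ x)⁻¹ * x)⁻¹ := by group
          rw [e]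
          exact Subgroup.inv_mem _ h1
        · have h1 := hαQ i (α⁻¹ x) (hscinv _ (hQsc _) α⁻¹ hαi x hx)
          rw [MulAut.apply_inv_self] at h1
          have e : x⁻¹ * α⁻¹ x = ((α⁻¹ x)⁻¹ * x)⁻¹ := by group
          rw [e]
          exact Subgroup.inv_mem _ h1 }
  apply le_of_normal_pgroup_aut hS F hUc hUr hP.1 (sc_conj_mem F hP) D
  · intro α hα
    exact hα.1
  · rintro α ⟨hα, hαP, hαQ⟩ β hβ
    have hβi := Subgroup.inv_mem _ hβ
    have e : ∀ x : U, x⁻¹ * (β * α * β⁻¹) x = β ((β⁻¹ x)⁻¹ * α (β⁻¹ x)) := by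
      intro x
      simp [MulAut.mul_apply]
    refine ⟨Subgroup.mul_mem _ (Subgroup.mul_mem _ hβ hα) hβi, fun x => ?_, fun i x hx => ?_⟩
    · rw [e]
      exact hscinv P hP β hβ _ (hαP (β⁻¹ x))
    · rw [e]
      exact hscinv _ (hQsc _) β hβ _ (hαQ i _ (hscinv _ (hQsc _) β⁻¹ hβi x hx))
  · apply isPGroup_of_coprime_trivial
    rintro α ⟨hα, hαP, hαQ⟩ m hm hαm
    have step1 : ∀ i : ℕ, ∀ hi : i ≤ n, ∀ x : U,
        (x : Ω) ∈ Q ⟨i, Nat.lt_succ_of_le hi⟩ → α x = x := by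
      intro i
      induction i with
      | zero =>
        intro hi x hx
        have h0 : (⟨0, Nat.lt_succ_of_le hi⟩ : Fin (n + 1)) = 0 := rfl
        rw [h0, hQ0, Subgroup.mem_bot] at hx
        have h1 : x = 1 := Subtype.ext hx
        rw [h1, map_one]
      | succ i ih =>
        intro hi x hx
        have hi' : i < n := hi
        have h1 := hαQ ⟨i, hi'⟩ x hx
        have h2 := ih hi'.le (x⁻¹ * α x) h1
        exact coprime_fix hUp α hm hαm h2
    have step2 : ∀ x : U, (x : Ω) ∈ omegaOne p P → α x = x := by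
      intro x hx
      rw [← hQl] at hx
      exact step1 n le_rfl x hx
    have step3 : ∀ x ∈ P.subgroupOf U, α x = x := by
      apply gl1 hUp α hm hαm (P.subgroupOf U)
      · intro x hx
        exact hscinv P hP α hα x hx
      · intro x hx hs
        apply step2
        rcases hs with h1 | ⟨h2, -⟩
        · apply Subgroup.subset_closure
          refine ⟨hx, ?_⟩
          rw [← Subgroup.coe_pow, h1]
          rfl
        · exact absurd h2 hp
    apply MulEquiv.ext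
    intro x
    have h1 : x⁻¹ * α x ∈ P.subgroupOf U := hαP x
    have h3 := coprime_fix hUp α hm hαm (step3 _ h1)
    rw [h3]
    rfl
  · intro t ht α hα
    refine ⟨autInducedBy_le_autGroup F hUS ((mem_autInducedBy_iff S U α).mpr ⟨t, hP.1 ht, hα⟩),
      fun x => ?_, fun i x hx => ?_⟩
    · show (x : Ω)⁻¹ * ((α x : U) : Ω) ∈ P
      rw [hα x]
      have h1 := sc_conj_mem F hP (x : Ω)⁻¹ (S.inv_mem (hUS x.2)) t ht
      have e : (x : Ω)⁻¹ * (t * x * t⁻¹) = ((x : Ω)⁻¹ * t * (x : Ω)⁻¹⁻¹) * t⁻¹ := by group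
      rw [e]
      exact P.mul_mem h1 (P.inv_mem ht)
    · show (x : Ω)⁻¹ * ((α x : U) : Ω) ∈ Q i.castSucc
      rw [hα x]
      have h1 : ⁅(x : Ω)⁻¹, t⁆ ∈ ⁅Q i.succ, P⁆ :=
        Subgroup.commutator_mem_commutator (Subgroup.inv_mem _ hx) ht
      have e : (x : Ω)⁻¹ * (t * x * t⁻¹) = ⁅(x : Ω)⁻¹, t⁆ := by
        rw [commutatorElement_def, inv_inv]
        group
      rw [e]
      exact hQc i h1

end Cfsg.Agent.Lib.Helper8
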