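import Cfsg.Agent.Lib.Helper8.PCore

set_option autoImplicit false
open Cfsg

namespace Cfsg.Agent.Lib.Helper8

/-- an endomorphism of `p`-power order of a group of order `p` is trivial -/
theorem prime_card_iter8 {Q : Type*} [Group Q] [Finite Q] {p : ℕ} [Fact p.Prime]
    (hQ : Nat.card Q = p) (θ : Q →* Q) (a : ℕ) (hθ : ∀ q, θ^[p ^ a] q = q) :
    ∀ q, θ q = q := by
  haveI : IsCyclic Q := isCyclic_of_prime_card hQ
  obtain ⟨z, hz⟩ := IsCyclic.exists_generator (α := Q)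
  obtain ⟨k, hk⟩ := Subgroup.mem_zpowers_iff.mp (hz (θ z))
  have hiter : ∀ n : ℕ, θ^[n] z = z ^ (k ^ n) := by
    intro n
    induction n with
    | zero => simp
    | succ n ih =>
      rw [Function.iterate_succ_apply', ih, map_zpow, ← hk, ← zpow_mul, pow_succ']
  have h1 := hθ z
  rw [hiter] at h1
  have hord : orderOf z = p := by rw [orderOf_eq_card_of_forall_mem_zpowers hz, hQ]
  have h2 : z ^ (k ^ (p ^ a) - 1) = 1 := by rw [zpow_sub, h1, zpow_one, mul_inv_cancel]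
  have h3 : (p : ℤ) ∣ k ^ (p ^ a) - 1 := by
    have h3' : ((orderOf z : ℕ) : ℤ) ∣ k ^ (p ^ a) - 1 := orderOf_dvd_iff_zpow_eq_one.mpr h2
    rw [hord] at h3'
    exact h3'
  have h4 : ((k : ℤ) : ZMod p) = 1 := by
    have h5 : ((k ^ (p ^ a) - 1 : ℤ) : ZMod p) = 0 :=
      (ZMod.intCast_zmod_eq_zero_iff_dvd _ p).mpr h3
    push_cast at h5
    rw [ZMod.pow_card_pow] at h5
    exact sub_eq_zero.mp h5
  have h6 : (p : ℤ) ∣ k - 1 := by
    rw [← ZMod.intCast_zmod_eq_zero_iff_dvd]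
    push_cast
    rw [h4]; ring
  have h7 : z ^ (k - 1) = 1 := by
    have h6' : ((orderOf z : ℕ) : ℤ) ∣ k - 1 := by rw [hord]; exact h6
    exact orderOf_dvd_iff_zpow_eq_one.mp h6'
  have h8 : θ z = z := by
    rw [← hk]
    have h9 : z ^ k = z ^ (k - 1) * z := by
      rw [← zpow_add_one]; congr 1; ring
    rw [h9, h7, one_mul]
  intro q
  obtain ⟨m, rfl⟩ := Subgroup.mem_zpowers_iff.mp (hz q)
  rw [map_zpow, h8]

/-- an automorphism of `p`-power order acts trivially on a quotient of order `p` -/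
theorem quot_triv8 {U : Type*} [Group U] [Finite U] {p : ℕ} [Fact p.Prime] (V : Subgroup U)
    [hVn : V.Normal] (hidx : Nat.card (U ⧸ V) = p) (g : MulAut U) (a : ℕ)
    (hg : g ^ (p ^ a) = 1) (hgV : ∀ v ∈ V, g v ∈ V) : ∀ u : U, g u * u⁻¹ ∈ V := by
  have hle : V ≤ V.comap g.toMonoidHom := fun v hv => hgV v hv
  obtain ⟨θ, hθdef⟩ : ∃ θ : U ⧸ V →* U ⧸ V, θ = QuotientGroup.map V V g.toMonoidHom hle :=
    ⟨_, rfl⟩
  have hθ : ∀ u : U, θ (u : U ⧸ V) = ((g u : U) : U ⧸ V) := by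
    intro u; rw [hθdef]; rfl
  have hiter : ∀ (n : ℕ) (u : U), θ^[n] (u : U ⧸ V) = (((g ^ n) u : U) : U ⧸ V) := by
    intro n
    induction n with
    | zero => intro u; rfl
    | succ n ih =>
      intro u
      rw [Function.iterate_succ_apply', ih, hθ, pow_succ', MulAut.mul_apply]
  have hθid : ∀ q, θ^[p ^ a] q = q := by
    intro q
    obtain ⟨u, rfl⟩ := QuotientGroup.mk_surjective q
    rw [hiter, hg]; rfl
  have h1 := prime_card_iter8 hidx θ a hθid
  intro u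
  have h2 := h1 (u : U ⧸ V)
  rw [hθ] at h2
  have h3 : (g u)⁻¹ * u ∈ V := QuotientGroup.eq.mp h2
  have h4 : g u * u⁻¹ = g u * ((g u)⁻¹ * u)⁻¹ * (g u)⁻¹ := by group
  rw [h4]
  exact hVn.conj_mem _ (V.inv_mem h3) _

/-- an automorphism of `p`-power order centralizes invariant sections of order `p` -/
theorem sec_triv8 {H : Type*} [Group H] [Finite H] {p : ℕ} [Fact p.Prime] (g : MulAut H)
    (a : ℕ) (hg : g ^ (p ^ a) = 1) (U V : Subgroup H) (hVU : V ≤ U)
    (hVn : ∀ u ∈ U, ∀ v ∈ V, u * v * u⁻¹ ∈ V) (hidx : Nat.card U = p * Nat.card V)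
    (hgU : ∀ n : ℕ, ∀ u ∈ U, (g ^ n) u ∈ U) (hgV : ∀ v ∈ V, g v ∈ V) :
    ∀ u ∈ U, g u * u⁻¹ ∈ V := by
  have hp : p.Prime := Fact.out
  have hpos : 0 < p ^ a := pow_pos hp.pos a
  have hinv : g⁻¹ = g ^ (p ^ a - 1) := by
    rw [eq_comm]
    apply eq_inv_of_mul_eq_one_left
    rw [← pow_succ, Nat.sub_add_cancel hpos, hg]
  have hg1 : ∀ u ∈ U, g u ∈ U := fun u hu => by simpa using hgU 1 u hu
  have hg2 : ∀ u ∈ U, g⁻¹ u ∈ U := fun u hu => by rw [hinv]; exact hgU _ u hu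
  obtain ⟨gU, hgUdef⟩ : ∃ gU : MulAut U, ∀ u : U, ((gU u : U) : H) = g u :=
    ⟨{ toFun := fun u => ⟨g u, hg1 u u.2⟩
       invFun := fun u => ⟨g⁻¹ u, hg2 u u.2⟩
       left_inv := fun u => Subtype.ext (by simp)
       right_inv := fun u => Subtype.ext (by simp)
       map_mul' := fun u v => Subtype.ext (by simp) }, fun u => rfl⟩
  have hgUpow : ∀ (n : ℕ) (u : U), (((gU ^ n) u : U) : H) = (g ^ n) u := by
    intro n
    induction n with
    | zero => intro u; rfl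
    | succ n ih =>
      intro u
      rw [pow_succ', MulAut.mul_apply, pow_succ', MulAut.mul_apply, hgUdef, ih]
  have hgU1 : gU ^ (p ^ a) = 1 := by
    apply MulEquiv.ext
    intro u
    apply Subtype.ext
    rw [hgUpow, hg]
    rfl
  haveI hVn' : (V.subgroupOf U).Normal := by
    constructor
    intro v hv u
    exact hVn u u.2 v hv
  have hcard : Nat.card (U ⧸ V.subgroupOf U) = p := by
    have h1 := Subgroup.card_eq_card_quotient_mul_card_subgroup (V.subgroupOf U)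
    rw [Nat.card_congr (Subgroup.subgroupOfEquivOfLe hVU).toEquiv, hidx] at h1
    exact (Nat.eq_of_mul_eq_mul_right Nat.card_pos h1).symm
  have h2 := quot_triv8 (V.subgroupOf U) hcard gU a hgU1
    (fun v hv => by
      show ((gU v : U) : H) ∈ V
      rw [hgUdef]; exact hgV v hv)
  intro u hu
  have h3 := h2 ⟨u, hu⟩
  have h4 : ((gU ⟨u, hu⟩ * (⟨u, hu⟩ : U)⁻¹ : U) : H) ∈ V := h3
  rw [Subgroup.coe_mul, hgUdef] at h4
  exact h4

theorem fix_iter8 {H : Type*} [Group H] (β : MulAut H) (W : Subgroup H)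
    (hW : ∀ w ∈ W, β w = w) (x : H) (hx : β x * x⁻¹ ∈ W) :
    ∀ n : ℕ, (β ^ n) x = (β x * x⁻¹) ^ n * x := by
  intro n
  induction n with
  | zero => simp
  | succ n ih =>
    rw [pow_succ', MulAut.mul_apply, ih, map_mul, map_pow, hW _ hx, pow_succ]
    group

/-- stabilizing the chain `1 ≤ Z ≤ K ≤ H` -/
def ChainT8 {H : Type*} [Group H] (Z K : Subgroup H) (α : MulAut H) : Prop :=
  (∀ z ∈ Z, α z = z) ∧ (∀ x ∈ K, α x * x⁻¹ ∈ Z) ∧ (∀ x, α x * x⁻¹ ∈ K)

theorem chainT_one8 {H : Type*} [Group H] (Z K : Subgroup H) : ChainT8 Z K 1 :=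
  ⟨fun _ _ => rfl, fun x _ => by simp, fun x => by simp⟩

theorem chainT_mul8 {H : Type*} [Group H] {Z K : Subgroup H} (hZK : Z ≤ K) {α β : MulAut H}
    (hα : ChainT8 Z K α) (hβ : ChainT8 Z K β) : ChainT8 Z K (α * β) := by
  have h1 : ∀ x, (α * β) x * x⁻¹ = α (β x * x⁻¹) * (α x * x⁻¹) := by
    intro x
    rw [MulAut.mul_apply, map_mul, map_inv]; group
  refine ⟨fun z hz => by rw [MulAut.mul_apply, hβ.1 z hz, hα.1 z hz], fun x hx => ?_,
    fun x => ?_⟩
  · rw [h1, hα.1 _ (hβ.2.1 x hx)]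
    exact Z.mul_mem (hβ.2.1 x hx) (hα.2.1 x hx)
  · rw [h1]
    have hd := hβ.2.2 x
    have h2 : α (β x * x⁻¹) = (α (β x * x⁻¹) * (β x * x⁻¹)⁻¹) * (β x * x⁻¹) := by group
    rw [h2]
    exact K.mul_mem (K.mul_mem (hZK (hα.2.1 _ hd)) hd) (hα.2.2 x)

theorem chainT_pow8 {H : Type*} [Group H] {Z K : Subgroup H} (hZK : Z ≤ K) {α : MulAut H}
    (hα : ChainT8 Z K α) (n : ℕ) : ChainT8 Z K (α ^ n) := by
  induction n with
  | zero => rw [pow_zero]; exact chainT_one8 Z K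
  | succ n ih => rw [pow_succ]; exact chainT_mul8 hZK ih hα

theorem chainT_order8 {H : Type*} [Group H] {p : ℕ} {Z K : Subgroup H} (hZK : Z ≤ K)
    (hZ : ∀ z ∈ Z, z ^ p = 1) (hK : ∀ k ∈ K, k ^ (p ^ 2) = 1) {α : MulAut H}
    (hα : ChainT8 Z K α) : α ^ (p ^ 3) = 1 := by
  have h1 : ∀ x ∈ K, (α ^ p) x = x := by
    intro x hx
    rw [fix_iter8 α Z hα.1 x (hα.2.1 x hx) p, hZ _ (hα.2.1 x hx), one_mul]
  have hβ := chainT_pow8 hZK hα p
  have h2 : ∀ x, ((α ^ p) ^ (p ^ 2)) x = x := by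
    intro x
    rw [fix_iter8 (α ^ p) K h1 x (hβ.2.2 x) (p ^ 2), hK _ (hβ.2.2 x), one_mul]
  apply MulEquiv.ext
  intro x
  rw [show p ^ 3 = p * p ^ 2 by ring, pow_mul, h2]
  rfl

/-- a quotient without normal `p`-subgroups but of order divisible by `p` cannot have all
`p`-elements of the group inside a multiplicatively closed set of `p`-elements -/
theorem out_contra8 {A : Type*} [Group A] [Finite A] {p : ℕ} [Fact p.Prime] (I : Subgroup A)
    [I.Normal] (hcore : pCore p (A ⧸ I) = ⊥) (hdvd : p ∣ Nat.card (A ⧸ I)) (T : A → Prop)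
    (hT1 : T 1) (hTmul : ∀ a b, T a → T b → T (a * b))
    (hTp : ∀ a : A, ∀ k : ℕ, a ^ (p ^ k) = 1 → T a)
    (hTord : ∀ a, T a → ∃ n : ℕ, a ^ (p ^ n) = 1) : False := by
  have hp : p.Prime := Fact.out
  obtain ⟨P, hPdef⟩ : ∃ P : Subgroup A,
      P = Subgroup.closure {a : A | ∃ k : ℕ, a ^ (p ^ k) = 1} := ⟨_, rfl⟩
  have hPT : ∀ a ∈ P, T a := by
    intro a ha
    rw [hPdef] at ha
    induction ha using Subgroup.closure_induction with
    | mem x hx =>
      obtain ⟨k, hk⟩ := hx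
      exact hTp x k hk
    | one => exact hT1
    | mul x y _ _ hx hy => exact hTmul x y hx hy
    | inv x _ hx =>
      have hpow : ∀ n : ℕ, T (x ^ n) := by
        intro n
        induction n with
        | zero => rw [pow_zero]; exact hT1
        | succ n ih => rw [pow_succ]; exact hTmul _ _ ih hx
      have h1 : x⁻¹ = x ^ (orderOf x - 1) := by
        have hpos := orderOf_pos x
        rw [eq_comm]
        apply eq_inv_of_mul_eq_one_left
        rw [← pow_succ, Nat.sub_add_cancel hpos, pow_orderOf_eq_one]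
      rw [h1]
      exact hpow _
  have hPn : P.Normal := by
    constructor
    intro n hn g
    have hmap : P.map (MulAut.conj g).toMonoidHom ≤ P := by
      rw [hPdef, MonoidHom.map_closure, Subgroup.closure_le]
      rintro _ ⟨x, ⟨k, hk⟩, rfl⟩
      apply Subgroup.subset_closure
      refine ⟨k, ?_⟩
      show (MulAut.conj g x) ^ (p ^ k) = 1
      rw [← map_pow, hk, map_one]
    have h2 := hmap ⟨n, hn, rfl⟩
    exact h2
  have hPp : IsPGroup p P := by
    rintro ⟨a, ha⟩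
    obtain ⟨n, hn⟩ := hTord a (hPT a ha)
    exact ⟨n, Subtype.ext hn⟩
  have himg : P.map (QuotientGroup.mk' I) ≤ pCore p (A ⧸ I) := by
    apply le_pCore
    · exact Subgroup.Normal.map hPn _ (QuotientGroup.mk'_surjective I)
    · exact hPp.map _
  rw [hcore] at himg
  obtain ⟨q, hq⟩ := exists_prime_orderOf_dvd_card' p hdvd
  obtain ⟨a, rfl⟩ := QuotientGroup.mk_surjective q
  obtain ⟨k, m, hm, hkm⟩ := Nat.exists_eq_pow_mul_and_not_dvd (orderOf_pos a).ne' p hp.ne_one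
  have ham : (a ^ m) ^ (p ^ k) = 1 := by
    rw [← pow_mul, mul_comm, ← hkm, pow_orderOf_eq_one]
  have hamP : a ^ m ∈ P := by
    rw [hPdef]; exact Subgroup.subset_closure ⟨k, ham⟩
  have h1 : QuotientGroup.mk' I (a ^ m) = 1 := Subgroup.mem_bot.mp (himg ⟨_, hamP, rfl⟩)
  have h2 : (a : A ⧸ I) ^ m = 1 := h1
  have h3 := orderOf_dvd_of_pow_eq_one h2
  rw [hq] at h3
  exact hm h3

end Cfsg.Agent.Lib.Helper8
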