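import Cfsg.Agent.Lib.Helper8.Ord1
import Cfsg.Agent.Lib.Lead.PFrat
import Cfsg.Agent.Lib.Helper4.Frattini
import Cfsg.Agent.Lib.Lead.UniqueInvol
import Cfsg.Prelude.Def_Transfer

set_option autoImplicit false
open Cfsg

namespace Cfsg.Agent.Lib.Helper8

open scoped commutatorElement

section
variable {H : Type*} [Group H] [Finite H] {p : ℕ} [Fact p.Prime]

theorem p3_center_card8 (hcard : Nat.card H = p ^ 3) (hnc : ¬ ∀ a b : H, a * b = b * a) :
    Nat.card (Subgroup.center H) = p := by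
  have hp : p.Prime := Fact.out
  have hG : IsPGroup p H := IsPGroup.of_card hcard
  haveI : Nontrivial H := by
    rw [← Finite.one_lt_card_iff_nontrivial, hcard]
    exact Nat.one_lt_pow (by norm_num) hp.one_lt
  haveI := hG.center_nontrivial
  have hdvd : Nat.card (Subgroup.center H) ∣ p ^ 3 :=
    hcard ▸ Subgroup.card_subgroup_dvd_card _
  obtain ⟨j, hj, hjc⟩ := (Nat.dvd_prime_pow hp).mp hdvd
  have hmul := Subgroup.card_eq_card_quotient_mul_card_subgroup (Subgroup.center H)
  rw [hcard, hjc] at hmul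
  have hj0 : j ≠ 0 := by
    rintro rfl
    rw [pow_zero] at hjc
    have := Finite.one_lt_card_iff_nontrivial.mpr
      (inferInstance : Nontrivial (Subgroup.center H))
    omega
  have hj3 : j ≠ 3 := by
    rintro rfl
    apply hnc
    have htop : Subgroup.center H = ⊤ := Subgroup.eq_top_of_card_eq _ (by rw [hjc, hcard])
    intro a b
    have hb : b ∈ Subgroup.center H := by rw [htop]; exact Subgroup.mem_top b
    exact Subgroup.mem_center_iff.mp hb a
  have hj2 : j ≠ 2 := by
    rintro rfl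
    apply hnc
    have hq : Nat.card (H ⧸ Subgroup.center H) = p := by
      have h3 : p ^ 3 = p * p ^ 2 := by ring
      rw [h3] at hmul
      exact (Nat.eq_of_mul_eq_mul_right (pow_pos hp.pos 2) hmul).symm
    haveI : IsCyclic (H ⧸ Subgroup.center H) := isCyclic_of_prime_card hq
    exact commutative_of_cyclic_center_quotient (QuotientGroup.mk' (Subgroup.center H))
      (by rw [QuotientGroup.ker_mk'])
  have hj1 : j = 1 := by omega
  rw [hjc, hj1, pow_one]

theorem p3_quot_card8 (hcard : Nat.card H = p ^ 3) (hnc : ¬ ∀ a b : H, a * b = b * a) :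
    Nat.card (H ⧸ Subgroup.center H) = p ^ 2 := by
  have hp : p.Prime := Fact.out
  have hmul := Subgroup.card_eq_card_quotient_mul_card_subgroup (Subgroup.center H)
  rw [hcard, p3_center_card8 hcard hnc] at hmul
  have h3 : p ^ 3 = p ^ 2 * p := by ring
  rw [h3] at hmul
  exact (Nat.eq_of_mul_eq_mul_right hp.pos hmul).symm

theorem p3_comm_mem8 (hcard : Nat.card H = p ^ 3) (hnc : ¬ ∀ a b : H, a * b = b * a)
    (x y : H) : ⁅x, y⁆ ∈ Subgroup.center H := by
  have hq := p3_quot_card8 hcard hnc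
  have hc := IsPGroup.commutative_of_card_eq_prime_sq hq (x : H ⧸ Subgroup.center H)
    (y : H ⧸ Subgroup.center H)
  rw [← QuotientGroup.eq_one_iff]
  have h1 : ((⁅x, y⁆ : H) : H ⧸ Subgroup.center H) =
      ⁅(x : H ⧸ Subgroup.center H), (y : H ⧸ Subgroup.center H)⁆ := by
    rw [commutatorElement_def, commutatorElement_def]; rfl
  rw [h1, commutatorElement_eq_one_iff_mul_comm]
  exact hc

theorem p3_pow_mem8 (hcard : Nat.card H = p ^ 3) (hnc : ¬ ∀ a b : H, a * b = b * a)
    (x : H) : x ^ p ∈ Subgroup.center H := by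
  have hp : p.Prime := Fact.out
  have hq := p3_quot_card8 hcard hnc
  rw [← QuotientGroup.eq_one_iff]
  show ((x ^ p : H) : H ⧸ Subgroup.center H) = 1
  rw [QuotientGroup.mk_pow]
  have hdvd : orderOf (x : H ⧸ Subgroup.center H) ∣ p ^ 2 := hq ▸ orderOf_dvd_natCard _
  obtain ⟨j, hj, hjo⟩ := (Nat.dvd_prime_pow hp).mp hdvd
  have hj2 : j ≠ 2 := by
    rintro rfl
    apply hnc
    haveI : IsCyclic (H ⧸ Subgroup.center H) :=
      isCyclic_of_orderOf_eq_card _ (by rw [hjo, hq])
    exact commutative_of_cyclic_center_quotient (QuotientGroup.mk' (Subgroup.center H))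
      (by rw [QuotientGroup.ker_mk'])
  have hj1 : j ≤ 1 := by omega
  apply orderOf_dvd_iff_pow_eq_one.mp
  rw [hjo]
  exact (pow_dvd_pow p hj1).trans (dvd_of_eq (pow_one p))

theorem p3_extraspecial8 (hcard : Nat.card H = p ^ 3) (hnc : ¬ ∀ a b : H, a * b = b * a) :
    Cfsg.IsExtraspecial p H := by
  have hp : p.Prime := Fact.out
  have hG : IsPGroup p H := IsPGroup.of_card hcard
  have hZ := p3_center_card8 hcard hnc
  have hcomm_le : commutator H ≤ Subgroup.center H := by
    rw [commutator_def, Subgroup.commutator_le]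
    intro x _ y _
    exact p3_comm_mem8 hcard hnc x y
  have hcomm : commutator H = Subgroup.center H := by
    apply Subgroup.eq_of_le_of_card_ge hcomm_le
    have hdvd := Subgroup.card_dvd_of_le hcomm_le
    rw [hZ] at hdvd ⊢
    rcases (Nat.dvd_prime hp).mp hdvd with h1 | h1
    · exfalso
      apply hnc
      have hbot : commutator H = ⊥ := Subgroup.card_eq_one.mp h1
      intro a b
      have h2 : ⁅a, b⁆ ∈ commutator H := by
        rw [commutator_def]
        exact Subgroup.commutator_mem_commutator (Subgroup.mem_top a) (Subgroup.mem_top b)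
      rw [hbot, Subgroup.mem_bot] at h2
      exact commutatorElement_eq_one_iff_mul_comm.mp h2
    · rw [h1]
  refine ⟨⟨hG, ?_, hcomm⟩, hZ⟩
  apply le_antisymm
  · exact Cfsg.Agent.Lib.Helper4.frattini_le_of_comm_pow (p := p) _
      (p3_comm_mem8 hcard hnc) (p3_pow_mem8 hcard hnc)
  · rw [← hcomm]
    exact (Cfsg.Agent.Lib.Lead.commutator_le_frattini_and_pow_mem hG).1

end

theorem class2_pow8 {H : Type*} [Group H] (x y : H)
    (hc : ∀ g : H, g * ⁅y, x⁆ = ⁅y, x⁆ * g) (n : ℕ) :
    (x * y) ^ n = ⁅y, x⁆ ^ (n.choose 2) * x ^ n * y ^ n := by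
  obtain ⟨c, hcdef⟩ : ∃ c : H, c = ⁅y, x⁆ := ⟨_, rfl⟩
  rw [← hcdef] at hc ⊢
  have hC : ∀ g, Commute c g := fun g => (hc g).symm
  have hyx : y * x = c * (x * y) := by rw [hcdef, commutatorElement_def]; group
  have L1 : ∀ m : ℕ, y ^ m * x = c ^ m * (x * y ^ m) := by
    intro m
    induction m with
    | zero => simp
    | succ m ih =>
      calc y ^ (m + 1) * x = y * (y ^ m * x) := by rw [pow_succ', mul_assoc]
        _ = y * (c ^ m * (x * y ^ m)) := by rw [ih]
        _ = c ^ m * (y * x * y ^ m) := by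
            rw [← mul_assoc, ← ((hC y).pow_left m).eq, mul_assoc, ← mul_assoc y x]
        _ = c ^ m * (c * (x * y) * y ^ m) := by rw [hyx]
        _ = c ^ (m + 1) * (x * y ^ (m + 1)) := by
            rw [pow_succ c, pow_succ' y]; simp only [mul_assoc]
  induction n with
  | zero => simp
  | succ n ih =>
    have hch : (n + 1).choose 2 = n.choose 2 + n := by
      rw [Nat.choose_succ_succ' n 1, Nat.choose_one_right, add_comm]
    calc (x * y) ^ (n + 1) = (x * y) ^ n * (x * y) := pow_succ _ _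
      _ = c ^ (n.choose 2) * x ^ n * y ^ n * (x * y) := by rw [ih]
      _ = c ^ (n.choose 2) * x ^ n * (y ^ n * x) * y := by simp only [mul_assoc]
      _ = c ^ (n.choose 2) * x ^ n * (c ^ n * (x * y ^ n)) * y := by rw [L1]
      _ = c ^ (n.choose 2) * (c ^ n * x ^ n) * (x * y ^ n) * y := by
          rw [((hC (x ^ n)).pow_left n).eq]; simp only [mul_assoc]
      _ = c ^ ((n + 1).choose 2) * x ^ (n + 1) * y ^ (n + 1) := by
          rw [hch, pow_add c, pow_succ x, pow_succ y]; simp only [mul_assoc]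

section
variable {H : Type*} [Group H] [Finite H] {p : ℕ} [Fact p.Prime]

theorem p3_pow_hom8 (hcard : Nat.card H = p ^ 3) (hnc : ¬ ∀ a b : H, a * b = b * a)
    (hp2 : p ≠ 2) (x y : H) : (x * y) ^ p = x ^ p * y ^ p := by
  have hp : p.Prime := Fact.out
  have hcz := p3_comm_mem8 hcard hnc y x
  have hc : ∀ g : H, g * ⁅y, x⁆ = ⁅y, x⁆ * g := fun g => Subgroup.mem_center_iff.mp hcz g
  rw [class2_pow8 x y hc p]
  have hZ := p3_center_card8 hcard hnc
  have hcp : ⁅y, x⁆ ^ p = 1 := by
    have h1 : (⟨⁅y, x⁆, hcz⟩ : Subgroup.center H) ^ p = 1 := by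
      rw [← hZ]; exact pow_card_eq_one'
    exact congrArg Subtype.val h1
  have hdvd : p ∣ p.choose 2 := hp.dvd_choose_self (by norm_num) (by
    have := hp.two_le; omega)
  obtain ⟨t, ht⟩ := hdvd
  rw [ht, pow_mul, hcp, one_pow, one_mul]

theorem p3_odd_chain8 (hcard : Nat.card H = p ^ 3) (hnc : ¬ ∀ a b : H, a * b = b * a)
    (hp2 : p ≠ 2) (hexp : ¬ ∀ x : H, x ^ p = 1) :
    ∃ K : Subgroup H, Subgroup.center H ≤ K ∧ Nat.card K = p ^ 2 ∧
      ∀ α : MulAut H, ∀ k ∈ K, α k ∈ K := by
  have hp : p.Prime := Fact.out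
  have hZ := p3_center_card8 hcard hnc
  obtain ⟨π, hπ⟩ : ∃ π : H →* H, ∀ x, π x = x ^ p :=
    ⟨MonoidHom.mk' (fun x => x ^ p) (p3_pow_hom8 hcard hnc hp2), fun x => rfl⟩
  refine ⟨π.ker, ?_, ?_, ?_⟩
  · intro z hz
    rw [MonoidHom.mem_ker, hπ]
    have h1 : (⟨z, hz⟩ : Subgroup.center H) ^ p = 1 := by
      rw [← hZ]; exact pow_card_eq_one'
    exact congrArg Subtype.val h1
  · have h3 : Nat.card π.ker * Nat.card π.range = Nat.card H := by
      rw [← Subgroup.index_ker]; exact Subgroup.card_mul_index _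
    have hle : π.range ≤ Subgroup.center H := by
      rintro _ ⟨x, rfl⟩
      rw [hπ]
      exact p3_pow_mem8 hcard hnc x
    have hdvd := Subgroup.card_dvd_of_le hle
    rw [hZ] at hdvd
    rcases (Nat.dvd_prime hp).mp hdvd with h1 | h1
    · exfalso
      apply hexp
      intro x
      have hbot : π.range = ⊥ := Subgroup.card_eq_one.mp h1
      have h4 : π x ∈ π.range := ⟨x, rfl⟩
      rw [hbot, Subgroup.mem_bot, hπ] at h4
      exact h4
    · rw [h1, hcard] at h3
      have h5 : p ^ 3 = p ^ 2 * p := by ring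
      rw [h5] at h3
      exact Nat.eq_of_mul_eq_mul_right hp.pos h3
  · intro α k hk
    rw [MonoidHom.mem_ker, hπ] at hk ⊢
    rw [← map_pow, hk, map_one]

end

end Cfsg.Agent.Lib.Helper8
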