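import Cfsg.Agent.Lib.Helper8.Ord2

set_option autoImplicit false
open Cfsg

namespace Cfsg.Agent.Lib.Helper8

theorem p3_two8 {H : Type*} [Group H] [Finite H] (hcard : Nat.card H = 2 ^ 3)
    (hnc : ¬ ∀ a b : H, a * b = b * a) :
    Cfsg.Agent.Lib.Lead.UniqInv H ∨ ∃ K : Subgroup H, Subgroup.center H ≤ K ∧
      Nat.card K = 2 ^ 2 ∧ ∀ α : MulAut H, ∀ k ∈ K, α k ∈ K := by
  classical
  haveI : Fact (Nat.Prime 2) := ⟨Nat.prime_two⟩
  have hex : ∃ x : H, x ^ 2 ≠ 1 := by
    by_contra hcon
    push Not at hcon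
    apply hnc
    intro a b
    have ha : a⁻¹ = a := inv_eq_of_mul_eq_one_left (by rw [← pow_two]; exact hcon a)
    have hb : b⁻¹ = b := inv_eq_of_mul_eq_one_left (by rw [← pow_two]; exact hcon b)
    have hab : (a * b)⁻¹ = a * b :=
      inv_eq_of_mul_eq_one_left (by rw [← pow_two]; exact hcon (a * b))
    rw [mul_inv_rev, ha, hb] at hab
    exact hab.symm
  obtain ⟨x, hx2⟩ := hex
  have hord : orderOf x = 4 := by
    have hdvd : orderOf x ∣ 2 ^ 3 := hcard ▸ orderOf_dvd_natCard x
    obtain ⟨j, hj, hjo⟩ := (Nat.dvd_prime_pow Nat.prime_two).mp hdvd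
    have h0 : j ≠ 0 := by
      rintro rfl
      rw [pow_zero, orderOf_eq_one_iff] at hjo
      rw [hjo, one_pow] at hx2
      exact hx2 rfl
    have h1 : j ≠ 1 := by
      rintro rfl
      apply hx2
      rw [pow_one] at hjo
      rw [← hjo]
      exact pow_orderOf_eq_one x
    have h3 : j ≠ 3 := by
      rintro rfl
      apply hnc
      haveI : IsCyclic H := isCyclic_of_orderOf_eq_card x (by rw [hjo, hcard])
      obtain ⟨z, hz⟩ := IsCyclic.exists_generator (α := H)
      intro a b
      obtain ⟨i, rfl⟩ := Subgroup.mem_zpowers_iff.mp (hz a)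
      obtain ⟨j', rfl⟩ := Subgroup.mem_zpowers_iff.mp (hz b)
      rw [← zpow_add, ← zpow_add, add_comm]
    have hj2 : j = 2 := by omega
    rw [hjo, hj2]
    norm_num
  have hx4 : x ^ 4 = 1 := by rw [← hord]; exact pow_orderOf_eq_one x
  obtain ⟨C, hCdef⟩ : ∃ C : Subgroup H, C = Subgroup.zpowers x := ⟨_, rfl⟩
  have hxC : x ∈ C := by rw [hCdef]; exact Subgroup.mem_zpowers x
  have hCcard : Nat.card C = 4 := by rw [hCdef, Nat.card_zpowers, hord]
  have hCidx : C.index = 2 := by
    have h1 := Subgroup.card_mul_index C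
    rw [hCcard, hcard] at h1
    omega
  have hCn : C.Normal := Subgroup.normal_of_index_eq_two hCidx
  have hCel : ∀ w ∈ C, ∃ r : ℕ, r < 4 ∧ w = x ^ r := by
    intro w hw
    rw [hCdef, mem_zpowers_iff_mem_range_orderOf, hord] at hw
    obtain ⟨r, hr, hrw⟩ := Finset.mem_image.mp hw
    exact ⟨r, Finset.mem_range.mp hr, hrw.symm⟩
  have hx6 : x ^ 6 = x ^ 2 := by
    have h1 : x ^ 6 = x ^ 4 * x ^ 2 := by rw [← pow_add]
    rw [h1, hx4, one_mul]
  have hCsq : ∀ w ∈ C, w ^ 2 ≠ 1 → w ^ 2 = x ^ 2 := by
    intro w hw hw2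
    obtain ⟨r, hr, rfl⟩ := hCel w hw
    interval_cases r
    · exact absurd (by simp) hw2
    · rw [pow_one]
    · exact absurd (by rw [← pow_mul]; exact hx4) hw2
    · rw [← pow_mul]; exact hx6
  have hCinv : ∀ w ∈ C, w ^ 2 = 1 → w ≠ 1 → w = x ^ 2 := by
    intro w hw hw2 hw1
    obtain ⟨r, hr, rfl⟩ := hCel w hw
    interval_cases r
    · exact absurd (pow_zero x) hw1
    · rw [pow_one] at hw2; exact absurd hw2 hx2
    · rfl
    · rw [← pow_mul] at hw2
      have h1 : x ^ 2 = 1 := by rw [← hx6]; exact hw2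
      exact absurd h1 hx2
  have hx2c : x ^ 2 ∈ Subgroup.center H := by
    rw [Subgroup.mem_center_iff]
    intro g
    have h1 : g * x * g⁻¹ ∈ C := hCn.conj_mem x hxC g
    have h2 : (g * x * g⁻¹) ^ 2 = g * x ^ 2 * g⁻¹ := conj_pow
    have h3 : (g * x * g⁻¹) ^ 2 ≠ 1 := by
      rw [h2]
      intro h
      apply hx2
      have h5 : x ^ 2 = g⁻¹ * (g * x ^ 2 * g⁻¹) * g := by group
      rw [h5, h]; group
    have h4 := hCsq _ h1 h3
    rw [h2] at h4
    calc g * x ^ 2 = (g * x ^ 2 * g⁻¹) * g := by group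
      _ = x ^ 2 * g := by rw [h4]
  have hZ := p3_center_card8 (p := 2) hcard hnc
  have hZC : Subgroup.center H ≤ C := by
    have hle : Subgroup.zpowers (x ^ 2) ≤ Subgroup.center H := by
      rw [Subgroup.zpowers_le]; exact hx2c
    have ho : orderOf (x ^ 2) = 2 := orderOf_eq_prime (by rw [← pow_mul]; exact hx4) hx2
    have heq : Subgroup.zpowers (x ^ 2) = Subgroup.center H :=
      Subgroup.eq_of_le_of_card_ge hle (by rw [Nat.card_zpowers, ho, hZ])
    rw [← heq, Subgroup.zpowers_le]
    exact C.pow_mem hxC 2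
  by_cases hcase : ∀ y : H, y ∉ C → y ^ 2 = 1
  · right
    refine ⟨C, hZC, by rw [hCcard]; norm_num, ?_⟩
    intro α k hk
    have hαx : α x ∈ C := by
      by_contra hn
      have h1 := hcase _ hn
      rw [← map_pow] at h1
      have h3 : x ^ 2 = 1 := by
        have h2 : α (x ^ 2) = α 1 := by rw [h1, map_one]
        exact α.injective h2
      exact hx2 h3
    rw [hCdef] at hk
    obtain ⟨i, rfl⟩ := Subgroup.mem_zpowers_iff.mp hk
    rw [map_zpow]
    exact C.zpow_mem hαx i
  · left
    push Not at hcase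
    obtain ⟨y, hyC, hy2⟩ := hcase
    have hyinv : y⁻¹ ∉ C := fun h => hyC (by simpa using C.inv_mem h)
    have hgen : ∀ g : H, g ∈ C ∨ g * y⁻¹ ∈ C := by
      intro g
      by_cases hg : g ∈ C
      · left; exact hg
      · right
        rw [Subgroup.mul_mem_iff_of_index_two hCidx]
        exact ⟨fun h => absurd h hg, fun h => absurd h hyinv⟩
    have hgen' : ∀ g : H, ∃ s : ℕ, g = x ^ s ∨ g = x ^ s * y := by
      intro g
      rcases hgen g with hg | hg
      · obtain ⟨s, -, hs⟩ := hCel g hg
        exact ⟨s, Or.inl hs⟩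
      · obtain ⟨s, -, hs⟩ := hCel _ hg
        exact ⟨s, Or.inr (by rw [← hs]; group)⟩
    have ht : y * x * y⁻¹ ∈ C := hCn.conj_mem x hxC y
    obtain ⟨r, hr, hrt⟩ := hCel _ ht
    have hx3 : x ^ 3 = x⁻¹ := by
      apply eq_inv_of_mul_eq_one_left
      rw [← pow_succ]
      exact hx4
    have hyx : y * x * y⁻¹ = x⁻¹ := by
      interval_cases r
      · exfalso
        rw [pow_zero] at hrt
        have h1 : x = 1 := by
          have h2 : x = y⁻¹ * (y * x * y⁻¹) * y := by group
          rw [h2, hrt]; group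
        rw [h1, one_pow] at hx2
        exact hx2 rfl
      · exfalso
        rw [pow_one] at hrt
        have hcomm : y * x = x * y := by
          calc y * x = (y * x * y⁻¹) * y := by group
            _ = x * y := by rw [hrt]
        have hcxy : Commute x y := hcomm.symm
        have hxc : x ∈ Subgroup.center H := by
          rw [Subgroup.mem_center_iff]
          intro g
          obtain ⟨s, hs | hs⟩ := hgen' g
          · rw [hs]
            exact ((Commute.refl x).pow_left s).eq
          · rw [hs]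
            exact (((Commute.refl x).pow_left s).mul_left hcxy.symm).eq
        have hyc : y ∈ Subgroup.center H := by
          rw [Subgroup.mem_center_iff]
          intro g
          obtain ⟨s, hs | hs⟩ := hgen' g
          · rw [hs]
            exact (hcxy.pow_left s).eq
          · rw [hs]
            exact ((hcxy.pow_left s).mul_left (Commute.refl y)).eq
        apply hnc
        intro a b
        have hb : b ∈ Subgroup.center H := by
          obtain ⟨s, hs | hs⟩ := hgen' b
          · rw [hs]; exact Subgroup.pow_mem _ hxc s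
          · rw [hs]; exact Subgroup.mul_mem _ (Subgroup.pow_mem _ hxc s) hyc
        exact Subgroup.mem_center_iff.mp hb a
      · exfalso
        have h1 : (y * x * y⁻¹) ^ 2 = 1 := by rw [hrt, ← pow_mul]; exact hx4
        rw [conj_pow] at h1
        have h3 : x ^ 2 = 1 := by
          have h2 : x ^ 2 = y⁻¹ * (y * x ^ 2 * y⁻¹) * y := by group
          rw [h2, h1]; group
        exact hx2 h3
      · rw [hrt, hx3]
    have hyc : ∀ c ∈ C, y * c * y⁻¹ = c⁻¹ := by
      intro c hc
      obtain ⟨s, -, rfl⟩ := hCel c hc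
      rw [← conj_pow, hyx, inv_pow]
    have hinvol : ∀ w : H, w ^ 2 = 1 → w ≠ 1 → w = x ^ 2 := by
      intro w hw2 hw1
      rcases hgen w with hw | hw
      · exact hCinv w hw hw2 hw1
      · exfalso
        apply hy2
        obtain ⟨c, hcC, hwc⟩ : ∃ c ∈ C, w = c * y := ⟨w * y⁻¹, hw, by group⟩
        rw [hwc] at hw2
        have h1 : (c * y) ^ 2 = c * (y * c * y⁻¹) * y ^ 2 := by
          rw [pow_two, pow_two]
          simp only [mul_assoc, inv_mul_cancel_left]
        rw [h1, hyc c hcC] at hw2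
        simpa using hw2
    intro a b ha2 ha1 hb2 hb1
    rw [hinvol a ha2 ha1, hinvol b hb2 hb1]

theorem center_inv8 {H : Type*} [Group H] (α : MulAut H) :
    ∀ z ∈ Subgroup.center H, α z ∈ Subgroup.center H := by
  intro z hz
  rw [Subgroup.mem_center_iff] at hz ⊢
  intro g
  have h1 := hz (α⁻¹ g)
  have h2 := congrArg α h1
  rw [map_mul, map_mul] at h2
  simpa using h2

/-- an invariant chain `1 < Z(H) < K < H` in a group of order `p³` contradicts the existence
of a strongly `p`-embedded subgroup in the outer automizer -/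
theorem chain_contra8 {H : Type*} [Group H] [Finite H] {p : ℕ} [Fact p.Prime]
    (hcard : Nat.card H = p ^ 3) (hZ : Nat.card (Subgroup.center H) = p) (K : Subgroup H)
    (hZK : Subgroup.center H ≤ K) (hK : Nat.card K = p ^ 2)
    (hKinv : ∀ α : MulAut H, ∀ k ∈ K, α k ∈ K) (A : Subgroup (MulAut H)) (I : Subgroup A)
    [I.Normal] (hcore : pCore p (A ⧸ I) = ⊥) (hdvd : p ∣ Nat.card (A ⧸ I)) : False := by
  haveI : Finite (MulAut H) := Finite.of_injective (fun α : MulAut H => (α : H → H))
    (fun a b h => MulEquiv.ext (congrFun h))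
  have hZp : ∀ z ∈ Subgroup.center H, z ^ p = 1 := by
    intro z hz
    have h1 : (⟨z, hz⟩ : Subgroup.center H) ^ p = 1 := by rw [← hZ]; exact pow_card_eq_one'
    exact congrArg Subtype.val h1
  have hKp : ∀ k ∈ K, k ^ (p ^ 2) = 1 := by
    intro k hk
    have h1 : (⟨k, hk⟩ : K) ^ (p ^ 2) = 1 := by rw [← hK]; exact pow_card_eq_one'
    exact congrArg Subtype.val h1
  apply out_contra8 I hcore hdvd (fun a => ChainT8 (Subgroup.center H) K (a : MulAut H))
    (chainT_one8 _ _) (fun a b ha hb => chainT_mul8 hZK ha hb)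
  · intro a k hak
    have hg : (a : MulAut H) ^ (p ^ k) = 1 := by
      have h1 := congrArg Subtype.val hak
      exact h1
    refine ⟨?_, ?_, ?_⟩
    · have h1 := sec_triv8 (a : MulAut H) k hg (Subgroup.center H) ⊥ bot_le
        (fun u _ v hv => by
          rw [Subgroup.mem_bot] at hv ⊢
          rw [hv]; group)
        (by rw [hZ, Subgroup.card_bot, mul_one])
        (fun n u hu => center_inv8 _ u hu)
        (fun v hv => by
          rw [Subgroup.mem_bot] at hv ⊢
          rw [hv, map_one])
      intro z hz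
      have h2 := h1 z hz
      rw [Subgroup.mem_bot] at h2
      exact mul_inv_eq_one.mp h2
    · exact sec_triv8 (a : MulAut H) k hg K (Subgroup.center H) hZK
        (fun u _ v hv => by
          have h1 := Subgroup.mem_center_iff.mp hv u
          have h2 : u * v * u⁻¹ = v := by rw [h1]; group
          rw [h2]; exact hv)
        (by rw [hK, hZ]; ring)
        (fun n u hu => hKinv _ u hu)
        (fun v hv => center_inv8 _ v hv)
    · have h1 := sec_triv8 (a : MulAut H) k hg ⊤ K le_top
        (fun u _ v hv => hKinv (MulAut.conj u) v hv)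
        (by rw [Subgroup.card_top, hcard, hK]; ring)
        (fun n u _ => Subgroup.mem_top _)
        (fun v hv => hKinv _ v hv)
      exact fun x => h1 x (Subgroup.mem_top x)
  · intro a ha
    refine ⟨3, ?_⟩
    have h1 := chainT_order8 hZK hZp hKp ha
    exact Subtype.ext h1

end Cfsg.Agent.Lib.Helper8
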