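import Cfsg.Agent.Lib.Helper8.Ord3
import Cfsg.Agent.Lib.Helper8.AbEss5

set_option autoImplicit false
open Cfsg

namespace Cfsg.Agent.Lib.Helper8

theorem p3_ess_result8 {Ω : Type*} [Group Ω] {S : Subgroup Ω} [Finite S] (p : ℕ)
    [Fact p.Prime] (hS : IsPGroup p S) (F : Cfsg.FusionSystem S) (H : Subgroup Ω)
    (hH : F.IsEssential p H) (hcard : Nat.card H = p ^ 3) :
    Cfsg.IsElementaryAbelian p H ∨
      (Odd p ∧ Cfsg.IsExtraspecial p ↥H ∧ ∀ x ∈ H, x ^ p = 1) ∨
      (p = 2 ∧ Nonempty (↥H ≃* QuaternionGroup 2)) := by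
  have hp : p.Prime := Fact.out
  have hHS : H ≤ S := hH.1.1
  haveI : Finite H := finite_of_le hHS
  have hHp : IsPGroup p H := hS.to_le hHS
  by_cases hab : IsMulCommutative H
  · left
    by_cases hrk : (frattini ↥H).index ≤ p ^ 2
    · exfalso
      rcases ab_ess_result8 p hS F H hH hab hrk with ⟨-, h2⟩ | ⟨-, k, ⟨e⟩⟩
      · rw [hcard] at h2
        have h3 := Nat.pow_right_injective hp.two_le h2
        omega
      · have h3 : Nat.card H = p ^ k * p ^ k := by
          rw [Nat.card_congr e.toEquiv,
            Nat.card_congr (Multiplicative.toAdd :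
              Multiplicative (ZMod (p ^ k) × ZMod (p ^ k)) ≃ _),
            Nat.card_prod, Nat.card_zmod]
        rw [hcard, ← pow_add] at h3
        have h4 := Nat.pow_right_injective hp.two_le h3
        omega
    · have hdvd : (frattini ↥H).index ∣ p ^ 3 := hcard ▸ Subgroup.index_dvd_card _
      obtain ⟨j, hj, hji⟩ := (Nat.dvd_prime_pow hp).mp hdvd
      have hj3 : j = 3 := by
        by_contra hne
        apply hrk
        rw [hji]
        exact Nat.pow_le_pow_right hp.pos (by omega)
      have hbot : frattini ↥H = ⊥ := by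
        have h1 := Subgroup.card_mul_index (frattini ↥H)
        rw [hji, hj3, hcard] at h1
        have h2 : Nat.card (frattini ↥H) = 1 := by
          have h5 : Nat.card (frattini ↥H) * p ^ 3 = 1 * p ^ 3 := by rw [one_mul]; exact h1
          exact Nat.eq_of_mul_eq_mul_right (pow_pos hp.pos 3) h5
        exact Subgroup.card_eq_one.mp h2
      refine ⟨hab, fun a ha => ?_⟩
      have h1 := (Cfsg.Agent.Lib.Lead.commutator_le_frattini_and_pow_mem hHp).2 ⟨a, ha⟩
      rw [hbot, Subgroup.mem_bot] at h1
      exact congrArg Subtype.val h1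
  · right
    have hnc : ¬ ∀ a b : H, a * b = b * a := fun h => hab (isMulCommutative_iff.mpr h)
    have hext := p3_extraspecial8 hcard hnc
    have hZ := p3_center_card8 hcard hnc
    obtain ⟨-, -, hN, E, hE⟩ := hH
    haveI := hN
    haveI : Finite (MulAut H) := finite_mulAut H
    have hcore := pCore_eq_bot_of_spe hE
    have hdvd := hE.1
    by_cases hp2 : p = 2
    · right
      subst hp2
      refine ⟨rfl, ?_⟩
      rcases p3_two8 hcard hnc with hU | ⟨K, hZK, hK, hKinv⟩
      · rcases Cfsg.Agent.Lib.Lead.two_group_uniq_inv hHp hU with hcyc | ⟨n, ⟨e⟩⟩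
        · exfalso
          apply hnc
          obtain ⟨z, hz⟩ := hcyc.exists_generator
          intro a b
          obtain ⟨i, rfl⟩ := Subgroup.mem_zpowers_iff.mp (hz a)
          obtain ⟨j', rfl⟩ := Subgroup.mem_zpowers_iff.mp (hz b)
          rw [← zpow_add, ← zpow_add, add_comm]
        · have hn : n = 1 := by
            have h1 : Nat.card H = 4 * 2 ^ n := by
              haveI : NeZero (2 ^ n) := ⟨by positivity⟩
              rw [Nat.card_congr e.toEquiv, Nat.card_eq_fintype_card, QuaternionGroup.card]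
            rw [hcard] at h1
            have h2 : 2 ^ n = 2 ^ 1 := by omega
            exact Nat.pow_right_injective (le_refl 2) h2
          subst hn
          exact ⟨e⟩
      · exact (chain_contra8 hcard hZ K hZK hK hKinv (F.autGroup H) _ hcore hdvd).elim
    · left
      by_cases hexp : ∀ x : H, x ^ p = 1
      · exact ⟨hp.odd_of_ne_two hp2, hext, fun x hx => congrArg Subtype.val (hexp ⟨x, hx⟩)⟩
      · obtain ⟨K, hZK, hK, hKinv⟩ := p3_odd_chain8 hcard hnc hp2 hexp
        exact (chain_contra8 hcard hZ K hZK hK hKinv (F.autGroup H) _ hcore hdvd).elim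

end Cfsg.Agent.Lib.Helper8
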