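import Cfsg.Agent.Lib.Helper8.GrpSimple

set_option autoImplicit false
open Cfsg

namespace Cfsg.Agent.Lib.Helper8

variable {Ω : Type*} [Group Ω] {S : Subgroup Ω} {G : Type*} [Group G]

/-- The homomorphism `x ↦ ι⁻¹(g ι(x) g⁻¹)` on a subgroup `P ≤ S`. -/
noncomputable def cp (ι : S →* G) (hinj : Function.Injective ι) (P : Subgroup Ω) (hP : P ≤ S)
    (g : G) (hc : ∀ x : P, g * ι ⟨x, hP x.2⟩ * g⁻¹ ∈ ι.range) : P →* Ω :=
  (invOn ι hinj).comp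
    (((MulAut.conj g).toMonoidHom.comp (ι.comp (Subgroup.inclusion hP))).codRestrict ι.range hc)

theorem cp_mem (ι : S →* G) (hinj : Function.Injective ι) (P : Subgroup Ω) (hP : P ≤ S)
    (g : G) (hc : ∀ x : P, g * ι ⟨x, hP x.2⟩ * g⁻¹ ∈ ι.range) (x : P) :
    cp ι hinj P hP g hc x ∈ S := invOn_mem _ _ _

theorem cp_apply (ι : S →* G) (hinj : Function.Injective ι) (P : Subgroup Ω) (hP : P ≤ S)
    (g : G) (hc : ∀ x : P, g * ι ⟨x, hP x.2⟩ * g⁻¹ ∈ ι.range) (x : P) :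
    ι ⟨cp ι hinj P hP g hc x, cp_mem ι hinj P hP g hc x⟩ = g * ι ⟨x, hP x.2⟩ * g⁻¹ :=
  apply_invOn ι hinj ((((MulAut.conj g).toMonoidHom.comp
    (ι.comp (Subgroup.inclusion hP))).codRestrict ι.range hc) x)

theorem pull_inj_aux (ι : S →* G) (hinj : Function.Injective ι) {P : Subgroup Ω} {φ : P →* Ω}
    (hP : P ≤ S) (hφ : ∀ x, φ x ∈ S) (g : G)
    (h : ∀ x : P, ι ⟨φ x, hφ x⟩ = g * ι ⟨x, hP x.2⟩ * g⁻¹) : Function.Injective φ := by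
  intro a b hab
  have h1 : ι ⟨φ a, hφ a⟩ = ι ⟨φ b, hφ b⟩ := congrArg ι (Subtype.ext hab)
  rw [h, h] at h1
  have h2 : (⟨(a : Ω), hP a.2⟩ : S) = ⟨(b : Ω), hP b.2⟩ :=
    hinj (mul_left_cancel (mul_right_cancel h1))
  exact Subtype.ext (congrArg (fun s : S => (s : Ω)) h2)

/-- The fusion system of `N` on `S ∩ N`, pulled back along an injective `ι : S →* G`. -/
def pullSys (ι : S →* G) (hinj : Function.Injective ι) (N : Subgroup G) :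
    FusionSystem (FusionSystem.preimageAlong ι N) where
  Hom P := {φ | ∃ (hP : P ≤ S) (hφ : ∀ x, φ x ∈ S), (∀ x : P, ι ⟨x, hP x.2⟩ ∈ N) ∧
    ∃ g ∈ N, ∀ x : P, ι ⟨φ x, hφ x⟩ = g * ι ⟨x, hP x.2⟩ * g⁻¹}
  le_of_mem := by
    rintro P φ ⟨hP, hφ, hN, g, hg, h⟩
    refine ⟨fun x hx => (mem_preimageAlong ι N ⟨x, hP hx⟩).mpr (hN ⟨x, hx⟩),
      fun x => (mem_preimageAlong ι N ⟨φ x, hφ x⟩).mpr ?_⟩
    rw [h]
    exact N.mul_mem (N.mul_mem hg (hN x)) (N.inv_mem hg)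
  injective_of_mem := by
    rintro P φ ⟨hP, hφ, hN, g, hg, h⟩
    exact pull_inj_aux ι hinj hP hφ g h
  conj_mem := by
    intro P g hP hg
    have hgS : g ∈ S := preimageAlong_le ι N hg
    have hPS : P ≤ S := hP.trans (preimageAlong_le ι N)
    refine ⟨hPS, fun x => S.mul_mem (S.mul_mem hgS (hPS x.2)) (S.inv_mem hgS),
      fun x => (mem_preimageAlong ι N ⟨x, hPS x.2⟩).mp (hP x.2), ι ⟨g, hgS⟩,
      (mem_preimageAlong ι N ⟨g, hgS⟩).mp hg, fun x => ?_⟩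
    rw [← map_inv, ← map_mul, ← map_mul]
    rfl
  comp_mem := by
    rintro P Q φ ψ ⟨hP, hφ, hN, g, hg, h⟩ ⟨hQ, hψ, hNQ, k, hk, h'⟩ hr
    refine ⟨hP, fun x => hψ _, hN, k * g, N.mul_mem hk hg, fun x => ?_⟩
    have h1 := h' ⟨φ x, hr x⟩
    have h2 : ι ⟨φ x, hQ (hr x)⟩ = g * ι ⟨x, hP x.2⟩ * g⁻¹ := h x
    show ι ⟨ψ ⟨φ x, hr x⟩, hψ _⟩ = _
    rw [h1]
    show k * ι ⟨φ x, hQ (hr x)⟩ * k⁻¹ = _
    rw [h2]
    group
  inv_mem := by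
    rintro P φ ⟨hP, hφ, hN, g, hg, h⟩
    have hinjφ := pull_inj_aux ι hinj hP hφ g h
    have hrS : φ.range ≤ S := by
      rintro _ ⟨x, rfl⟩
      exact hφ x
    have hsymm : ∀ x : P, (MonoidHom.ofInjective hinjφ).symm ⟨φ x, ⟨x, rfl⟩⟩ = x := fun x =>
      (MulEquiv.symm_apply_eq _).mpr rfl
    refine ⟨P.subtype.comp (MonoidHom.ofInjective hinjφ).symm.toMonoidHom,
      ⟨hrS, fun y => hP (Subtype.property _), ?_, g⁻¹, N.inv_mem hg, ?_⟩, ?_⟩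
    · rintro ⟨_, x, rfl⟩
      show ι ⟨φ x, hφ x⟩ ∈ N
      rw [h]
      exact N.mul_mem (N.mul_mem hg (hN x)) (N.inv_mem hg)
    · rintro ⟨_, x, rfl⟩
      show ι ⟨(((MonoidHom.ofInjective hinjφ).symm ⟨φ x, ⟨x, rfl⟩⟩ : P) : Ω), _⟩ =
        g⁻¹ * ι ⟨φ x, hφ x⟩ * g⁻¹⁻¹
      rw [h]
      have e : (⟨(((MonoidHom.ofInjective hinjφ).symm ⟨φ x, ⟨x, rfl⟩⟩ : P) : Ω),
          hP (Subtype.property _)⟩ : S) = ⟨x, hP x.2⟩ := Subtype.ext (by rw [hsymm])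
      rw [e]
      group
    · intro x
      show (((MonoidHom.ofInjective hinjφ).symm ⟨φ x, ⟨x, rfl⟩⟩ : P) : Ω) = x
      rw [hsymm]

end Cfsg.Agent.Lib.Helper8
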