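import Cfsg.Agent.Lib.Helper8.Pull

set_option autoImplicit false
open Cfsg

namespace Cfsg.Agent.Lib.Helper8

variable {Ω : Type*} [Group Ω] {S : Subgroup Ω} {G : Type*} [Group G]

/-- The group-theoretic core of the extension condition for `F_{S ∩ H}(H) ⊴ F_S(G)`. -/
theorem core_ext [Finite G] {p : ℕ} [Fact p.Prime] (S : Sylow p G) (H : Subgroup G)
    [hHn : H.Normal] (T : Subgroup G) (hT : T = (S : Subgroup G) ⊓ H) {h : G} (hhH : h ∈ H)
    (hhN : h ∈ Subgroup.normalizer (T : Set G)) :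
    ∃ g ∈ H, (∀ t ∈ T, g * t * g⁻¹ = h * t * h⁻¹) ∧
      Helper8.cj g (FusionSystem.centralizerIn (S : Subgroup G) T) ≤
        FusionSystem.centralizerIn (S : Subgroup G) T ∧
      g ∈ Subgroup.normalizer (T : Set G) := by
  have hmemT : ∀ x, x ∈ T ↔ x ∈ (S : Subgroup G) ∧ x ∈ H := by
    intro x
    rw [hT]
    exact Subgroup.mem_inf
  have hS : IsPGroup p (S : Subgroup G) := S.isPGroup'
  have hSN : (S : Subgroup G) ≤ Subgroup.normalizer (T : Set G) := by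
    intro s hs
    apply mem_normalizer_of_forall
    · intro x hx
      rw [hmemT] at hx ⊢
      exact ⟨Subgroup.mul_mem _ (Subgroup.mul_mem _ hs hx.1) (Subgroup.inv_mem _ hs),
        hHn.conj_mem _ hx.2 s⟩
    · intro x hx
      rw [hmemT] at hx ⊢
      refine ⟨Subgroup.mul_mem _ (Subgroup.mul_mem _ (Subgroup.inv_mem _ hs) hx.1) hs, ?_⟩
      have := hHn.conj_mem _ hx.2 s⁻¹
      rwa [inv_inv] at this
  have hNC : Subgroup.normalizer (T : Set G) ≤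
      Subgroup.normalizer ((Subgroup.centralizer (T : Set G) : Subgroup G) : Set G) := by
    intro n hn
    rw [mem_normalizer_iff_cj, cj_centralizer, mem_normalizer_iff_cj.mp hn]
  have hsylC : SylIn p (FusionSystem.centralizerIn (S : Subgroup G) T)
      (Subgroup.centralizer (T : Set G)) :=
    ((sylIn_top S).mono hSN le_top).inf_of_normal (Subgroup.centralizer_le_normalizer _) hNC
  have hsyl' : SylIn p (FusionSystem.centralizerIn (S : Subgroup G) T)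
      (FusionSystem.centralizerIn (S : Subgroup G) T ⊔ H ⊓ Subgroup.centralizer (T : Set G)) :=
    hsylC.mono le_sup_left (sup_le inf_le_right inf_le_right)
  have hcjH : ∀ s : G, Helper8.cj s H = H := fun s =>
    mem_normalizer_iff_cj.mp (by rw [Subgroup.normalizer_eq_top]; trivial)
  have hCSn : FusionSystem.centralizerIn (S : Subgroup G) T ≤
      Subgroup.normalizer ((H ⊓ Subgroup.centralizer (T : Set G) : Subgroup G) : Set G) := by
    intro s hs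
    rw [mem_normalizer_iff_cj, cj_inf, cj_centralizer, mem_normalizer_iff_cj.mp (hSN hs.1), hcjH]
  have hQle : Helper8.cj h (FusionSystem.centralizerIn (S : Subgroup G) T) ≤
      FusionSystem.centralizerIn (S : Subgroup G) T ⊔ H ⊓ Subgroup.centralizer (T : Set G) := by
    rw [cj_le_iff]
    intro x hx
    have e : h * x * h⁻¹ = x * (x⁻¹ * h * x * h⁻¹) := by group
    rw [e]
    refine Subgroup.mul_mem _ (Subgroup.mem_sup_left hx) (Subgroup.mem_sup_right ⟨?_, ?_⟩)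
    · have := hHn.conj_mem _ hhH x⁻¹
      rw [inv_inv] at this
      exact H.mul_mem this (H.inv_mem hhH)
    · have h1 : h * x * h⁻¹ ∈ Subgroup.centralizer (T : Set G) := by
        have : h * x * h⁻¹ ∈ Helper8.cj h (Subgroup.centralizer (T : Set G)) := cj_mem hx.2
        rwa [mem_normalizer_iff_cj.mp (hNC hhN)] at this
      have e2 : x⁻¹ * h * x * h⁻¹ = x⁻¹ * (h * x * h⁻¹) := by group
      rw [e2]
      exact Subgroup.mul_mem _ (Subgroup.inv_mem _ hx.2) h1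
  obtain ⟨k, hk, hkle⟩ := hsyl'.exists_conj_le_of_sup hCSn
    (isPGroup_cj (hS.to_le inf_le_left) h) hQle
  rw [cj_cj] at hkle
  refine ⟨k * h, H.mul_mem hk.1 hhH, fun t ht => ?_, hkle,
    Subgroup.mul_mem _ (Subgroup.centralizer_le_normalizer _ hk.2) hhN⟩
  have h1 : h * t * h⁻¹ ∈ T := conj_mem_of_mem_normalizer hhN ht
  have h2 : h * t * h⁻¹ * k = k * (h * t * h⁻¹) := hk.2 _ h1
  have e : k * h * t * (k * h)⁻¹ = k * (h * t * h⁻¹) * k⁻¹ := by group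
  rw [e, ← h2]
  group

theorem pull_normal [Finite G] [Finite S] (p : ℕ) [Fact p.Prime] (hS : IsPGroup p S)
    (F : FusionSystem S) (ι : S →* G) (hr : F.IsRealizedBy ι) (R : Sylow p G)
    (hR : (R : Subgroup G) = ι.range) (N : Subgroup G) [hNn : N.Normal] :
    (pullSys ι hr.1 N).IsNormalIn F p := by
  have hinj := hr.1
  have hTS : (FusionSystem.preimageAlong ι N) ≤ S := preimageAlong_le ι N
  have hmemT : ∀ s : S, (s : Ω) ∈ (FusionSystem.preimageAlong ι N) ↔ ι s ∈ N := mem_preimageAlong ι N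
  have hF : F.IsSaturated p := realized_saturated p F ι hr R hR
  have hE : (pullSys ι hr.1 N).IsSaturated p := by
    have hcod : ∀ x : ↥(FusionSystem.preimageAlong ι N), (ι.comp (Subgroup.inclusion hTS)) x ∈ N :=
      fun x => (hmemT ⟨x, hTS x.2⟩).mp x.2
    have hreal : (pullSys ι hr.1 N).IsRealizedBy
        ((ι.comp (Subgroup.inclusion hTS)).codRestrict N hcod) := by
      refine ⟨?_, fun P hP φ hφ => ?_⟩
      · intro a b hab
        have h1 : ι (Subgroup.inclusion hTS a) = ι (Subgroup.inclusion hTS b) :=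
          congrArg Subtype.val hab
        exact Subgroup.inclusion_injective hTS (hinj h1)
      · constructor
        · rintro ⟨hP', hφ', hN, g, hg, h⟩
          exact ⟨⟨g, hg⟩, fun x => Subtype.ext (h x)⟩
        · rintro ⟨g, hg⟩
          exact ⟨hP.trans hTS, fun x => hTS (hφ x), fun x => (hmemT _).mp (hP x.2), g, g.2,
            fun x => congrArg Subtype.val (hg x)⟩
    have hsylN : SylIn p ((R : Subgroup G) ⊓ N) N :=
      (sylIn_top R).inf_of_normal le_top (by rw [Subgroup.normalizer_eq_top])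
    obtain ⟨R', hR'⟩ := (sylIn_iff inf_le_right).mp hsylN
    refine realized_saturated p _ _ hreal R' ?_
    rw [hR', hR]
    ext ⟨y, hy⟩
    constructor
    · rintro ⟨⟨s, rfl⟩, -⟩
      exact ⟨⟨s, (hmemT s).mpr hy⟩, Subtype.ext rfl⟩
    · rintro ⟨x, hx⟩
      have h1 : ι (Subgroup.inclusion hTS x) = y := congrArg Subtype.val hx
      exact ⟨⟨_, h1⟩, hy⟩
  have hsub : (pullSys ι hr.1 N).IsSubsystemOf F := by
    rintro P φ ⟨hP, hφ, -, g, -, h⟩
    exact (hr.2 P hP φ hφ).mpr ⟨g, h⟩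
  have hsc : F.StronglyClosed (FusionSystem.preimageAlong ι N) := by
    refine ⟨hTS, fun Q hQ φ hφ x => ?_⟩
    have hQS := (F.le_of_mem hφ).1
    have hφS := (F.le_of_mem hφ).2
    obtain ⟨g, hg⟩ := (hr.2 Q hQS φ hφS).mp hφ
    refine (hmemT ⟨φ x, hφS x⟩).mpr ?_
    rw [hg]
    exact hNn.conj_mem _ ((hmemT ⟨x, hQS x.2⟩).mp (hQ x.2)) g
  have hsi : StrongInv (pullSys ι hr.1 N) F := by
    rintro P Q hPQ hQT φ ⟨hPS, hφS, hPN, h, hhN, hh⟩ hφQ ψ hψ
    have hQS := hQT.trans hTS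
    have hψS := (F.le_of_mem hψ).2
    obtain ⟨g, hg⟩ := (hr.2 Q hQS ψ hψS).mp hψ
    have hP₂S : (P.subgroupOf Q).map ψ ≤ S := by
      rintro _ ⟨q, -, rfl⟩
      exact hψS q
    have hkey : ∀ (q : Q) (hq : (q : Ω) ∈ P),
        g * h * g⁻¹ * ι ⟨ψ q, hψS q⟩ * (g * h * g⁻¹)⁻¹ =
          ι ⟨ψ ⟨φ ⟨q, hq⟩, hφQ _⟩, hψS _⟩ := by
      intro q hq
      rw [hg, hg]
      have h1 := hh ⟨q, hq⟩
      show _ = g * ι ⟨φ ⟨q, hq⟩, hφS _⟩ * g⁻¹
      rw [h1]
      show g * h * g⁻¹ * (g * ι ⟨q, hQS q.2⟩ * g⁻¹) * (g * h * g⁻¹)⁻¹ =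
        g * (h * ι ⟨q, hQS q.2⟩ * h⁻¹) * g⁻¹
      group
    have hc : ∀ y : ↥((P.subgroupOf Q).map ψ),
        g * h * g⁻¹ * ι ⟨y, hP₂S y.2⟩ * (g * h * g⁻¹)⁻¹ ∈ ι.range := by
      rintro ⟨_, q, hq, rfl⟩
      exact ⟨_, (hkey q hq).symm⟩
    refine ⟨cp ι hinj _ hP₂S (g * h * g⁻¹) hc, ⟨hP₂S, cp_mem ι hinj _ hP₂S _ hc, ?_,
      g * h * g⁻¹, hNn.conj_mem _ hhN g, cp_apply ι hinj _ hP₂S _ hc⟩, ?_⟩
    · rintro ⟨_, q, hq, rfl⟩
      show ι ⟨ψ q, hψS q⟩ ∈ N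
      rw [hg]
      exact hNn.conj_mem _ ((hmemT ⟨q, hQS q.2⟩).mp (hQT q.2)) g
    · intro x hx
      have h1 := cp_apply ι hinj _ hP₂S (g * h * g⁻¹) hc ⟨ψ (Subgroup.inclusion hPQ x), hx⟩
      have h2 := hkey (Subgroup.inclusion hPQ x) x.2
      have h3 : (⟨cp ι hinj _ hP₂S (g * h * g⁻¹) hc ⟨ψ (Subgroup.inclusion hPQ x), hx⟩,
          cp_mem ι hinj _ hP₂S _ hc _⟩ : S) = ⟨ψ ⟨φ x, hφQ x⟩, hψS _⟩ := hinj (h1.trans h2)
      exact congrArg (fun s : S => (s : Ω)) h3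
  have hinv := si_invariant hS hF hsub hsc hsi
  refine ⟨⟨hE, hF, hinv⟩, ?_⟩
  intro α hα
  obtain ⟨hTS', hαS, hTN, h, hhN, hh⟩ := (mem_autGroup_iff (pullSys ι hr.1 N) le_rfl α).mp hα
  have hRmem : ∀ s : S, ι s ∈ (R : Subgroup G) := by
    intro s
    rw [hR]
    exact ⟨s, rfl⟩
  have hT'mem : ∀ y, y ∈ ((R : Subgroup G) ⊓ N) → ∃ (s : S) (_ : (s : Ω) ∈ (FusionSystem.preimageAlong ι N)), ι s = y := by
    rintro y ⟨hyR, hyN⟩
    have hyR' : y ∈ ι.range := by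
      rw [← hR]
      exact hyR
    obtain ⟨s, rfl⟩ := hyR'
    exact ⟨s, (hmemT s).mpr hyN, rfl⟩
  have hιT' : ∀ (s : S), (s : Ω) ∈ (FusionSystem.preimageAlong ι N) → ι s ∈ ((R : Subgroup G) ⊓ N) :=
    fun s hs => ⟨hRmem s, (hmemT s).mp hs⟩
  have hhNT' : h ∈ Subgroup.normalizer ((((R : Subgroup G) ⊓ N) : Subgroup G) : Set G) := by
    apply mem_normalizer_of_forall
    · intro y hy
      obtain ⟨s, hs, rfl⟩ := hT'mem y hy
      have h1 := hh ⟨s, hs⟩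
      have h2 : h * ι s * h⁻¹ = ι ⟨((α ⟨s, hs⟩ : ↥(FusionSystem.preimageAlong ι N)) : Ω), hαS _⟩ := h1.symm
      rw [h2]
      exact hιT' _ (α ⟨s, hs⟩).2
    · intro y hy
      obtain ⟨s, hs, rfl⟩ := hT'mem y hy
      have h1 := hh (α⁻¹ ⟨s, hs⟩)
      have h2 : ι s = h * ι ⟨((α⁻¹ ⟨s, hs⟩ : ↥(FusionSystem.preimageAlong ι N)) : Ω), hTS (α⁻¹ ⟨s, hs⟩).2⟩ * h⁻¹ := by
        rw [← h1]
        congr 1
        apply Subtype.ext
        show (s : Ω) = ((α (α⁻¹ ⟨s, hs⟩) : ↥(FusionSystem.preimageAlong ι N)) : Ω)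
        rw [MulAut.apply_inv_self]
      have h3 : h⁻¹ * ι s * h = ι ⟨((α⁻¹ ⟨s, hs⟩ : ↥(FusionSystem.preimageAlong ι N)) : Ω), hTS (α⁻¹ ⟨s, hs⟩).2⟩ := by
        conv_lhs => rw [h2]
        group
      rw [h3]
      exact hιT' _ (α⁻¹ ⟨s, hs⟩).2
  obtain ⟨g, hgN, hgT, hgC, hgnorm⟩ := core_ext R N ((R : Subgroup G) ⊓ N) rfl hhN hhNT'
  have hCS_to : ∀ (s : S), (s : Ω) ∈ (FusionSystem.centralizerIn S (FusionSystem.preimageAlong ι N)) → ι s ∈ (FusionSystem.centralizerIn (R : Subgroup G) ((R : Subgroup G) ⊓ N)) := by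
    intro s hs
    refine ⟨hRmem s, ?_⟩
    show ι s ∈ Subgroup.centralizer ((((R : Subgroup G) ⊓ N) : Subgroup G) : Set G)
    rw [Subgroup.mem_centralizer_iff]
    intro y hy
    obtain ⟨t, ht, rfl⟩ := hT'mem y hy
    have h1 : (t : Ω) * (s : Ω) = (s : Ω) * (t : Ω) := hs.2 t ht
    rw [← map_mul, ← map_mul]
    congr 1
    exact Subtype.ext h1
  have hCS_from : ∀ y ∈ (FusionSystem.centralizerIn (R : Subgroup G) ((R : Subgroup G) ⊓ N)), ∃ s : S, (s : Ω) ∈ (FusionSystem.centralizerIn S (FusionSystem.preimageAlong ι N)) ∧ ι s = y := by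
    rintro y ⟨hyR, hyC⟩
    have hyR' : y ∈ ι.range := by
      rw [← hR]
      exact hyR
    obtain ⟨s, rfl⟩ := hyR'
    refine ⟨s, ⟨s.2, ?_⟩, rfl⟩
    show (s : Ω) ∈ Subgroup.centralizer (((FusionSystem.preimageAlong ι N) : Subgroup Ω) : Set Ω)
    rw [Subgroup.mem_centralizer_iff]
    intro t ht
    have h1 := (Subgroup.mem_centralizer_iff.mp hyC) (ι ⟨t, hTS ht⟩) (hιT' _ ht)
    rw [← map_mul, ← map_mul] at h1
    exact congrArg (fun s : S => (s : Ω)) (hinj h1)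
  have hUS : (FusionSystem.preimageAlong ι N ⊔ FusionSystem.centralizerIn S (FusionSystem.preimageAlong ι N)) ≤ S := sup_le hTS inf_le_left
  have hU_to : ∀ x : ↥(FusionSystem.preimageAlong ι N ⊔ FusionSystem.centralizerIn S (FusionSystem.preimageAlong ι N)), ι ⟨x, hUS x.2⟩ ∈ ((R : Subgroup G) ⊓ N) ⊔ (FusionSystem.centralizerIn (R : Subgroup G) ((R : Subgroup G) ⊓ N)) := by
    have hle : (FusionSystem.preimageAlong ι N ⊔ FusionSystem.centralizerIn S (FusionSystem.preimageAlong ι N)) ≤ FusionSystem.preimageAlong ι (((R : Subgroup G) ⊓ N) ⊔ (FusionSystem.centralizerIn (R : Subgroup G) ((R : Subgroup G) ⊓ N))) := by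
      refine sup_le ?_ ?_
      · intro x hx
        exact (mem_preimageAlong ι _ ⟨x, hTS hx⟩).mpr (Subgroup.mem_sup_left (hιT' _ hx))
      · intro x hx
        exact (mem_preimageAlong ι _ ⟨x, hx.1⟩).mpr
          (Subgroup.mem_sup_right (hCS_to ⟨x, hx.1⟩ hx))
    intro x
    exact (mem_preimageAlong ι _ ⟨x, hUS x.2⟩).mp (hle x.2)
  have hU_from : ∀ y ∈ ((R : Subgroup G) ⊓ N) ⊔ (FusionSystem.centralizerIn (R : Subgroup G) ((R : Subgroup G) ⊓ N)), ∃ s : S, (s : Ω) ∈ (FusionSystem.preimageAlong ι N ⊔ FusionSystem.centralizerIn S (FusionSystem.preimageAlong ι N)) ∧ ι s = y := by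
    have hle : ((R : Subgroup G) ⊓ N) ⊔ (FusionSystem.centralizerIn (R : Subgroup G) ((R : Subgroup G) ⊓ N)) ≤ ((FusionSystem.preimageAlong ι N ⊔ FusionSystem.centralizerIn S (FusionSystem.preimageAlong ι N)).subgroupOf S).map ι := by
      refine sup_le ?_ ?_
      · intro y hy
        obtain ⟨s, hs, rfl⟩ := hT'mem y hy
        exact ⟨s, Subgroup.mem_sup_left hs, rfl⟩
      · intro y hy
        obtain ⟨s, hs, rfl⟩ := hCS_from y hy
        exact ⟨s, Subgroup.mem_sup_right hs, rfl⟩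
    intro y hy
    obtain ⟨s, hs, rfl⟩ := hle hy
    exact ⟨s, hs, rfl⟩
  have hgU : ∀ y ∈ ((R : Subgroup G) ⊓ N) ⊔ (FusionSystem.centralizerIn (R : Subgroup G) ((R : Subgroup G) ⊓ N)), g * y * g⁻¹ ∈ ((R : Subgroup G) ⊓ N) ⊔ (FusionSystem.centralizerIn (R : Subgroup G) ((R : Subgroup G) ⊓ N)) := by
    intro y hy
    have h1 : g * y * g⁻¹ ∈ Helper8.cj g (((R : Subgroup G) ⊓ N) ⊔ (FusionSystem.centralizerIn (R : Subgroup G) ((R : Subgroup G) ⊓ N))) := cj_mem hy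
    rw [cj_sup, mem_normalizer_iff_cj.mp hgnorm] at h1
    exact sup_le_sup_left hgC _ h1
  have hc : ∀ x : ↥(FusionSystem.preimageAlong ι N ⊔ FusionSystem.centralizerIn S (FusionSystem.preimageAlong ι N)), g * ι ⟨x, hUS x.2⟩ * g⁻¹ ∈ ι.range := by
    intro x
    obtain ⟨s, -, hs⟩ := hU_from _ (hgU _ (hU_to x))
    exact ⟨s, hs⟩
  have hφg : cp ι hinj _ hUS g hc ∈ F.Hom (FusionSystem.preimageAlong ι N ⊔ FusionSystem.centralizerIn S (FusionSystem.preimageAlong ι N)) :=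
    (hr.2 _ hUS _ (cp_mem ι hinj _ hUS g hc)).mpr ⟨g, cp_apply ι hinj _ hUS g hc⟩
  have hφgU : ∀ z : ↥(FusionSystem.preimageAlong ι N ⊔ FusionSystem.centralizerIn S (FusionSystem.preimageAlong ι N)), cp ι hinj _ hUS g hc z ∈ (FusionSystem.preimageAlong ι N ⊔ FusionSystem.centralizerIn S (FusionSystem.preimageAlong ι N)) := by
    intro z
    obtain ⟨s, hs, hse⟩ := hU_from _ (hgU _ (hU_to z))
    have h1 : s = ⟨cp ι hinj _ hUS g hc z, cp_mem ι hinj _ hUS g hc z⟩ :=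
      hinj (hse.trans (cp_apply ι hinj _ hUS g hc z).symm)
    rw [h1] at hs
    exact hs
  obtain ⟨β, hβ, hβe⟩ := exists_aut_of_hom F hφg hφgU
  refine ⟨β, hβ, fun x => ?_, fun c hc' => ?_⟩
  · rw [hβe]
    have h1 := cp_apply ι hinj _ hUS g hc (Subgroup.inclusion le_sup_left x)
    have h2 := hh x
    have h3 := hgT (ι ⟨x, hTS x.2⟩) (hιT' _ x.2)
    have h4 : (⟨cp ι hinj _ hUS g hc (Subgroup.inclusion le_sup_left x),
        cp_mem ι hinj _ hUS g hc _⟩ : S) = ⟨((α x : ↥(FusionSystem.preimageAlong ι N)) : Ω), hαS x⟩ :=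
      hinj (h1.trans (h3.trans h2.symm))
    exact congrArg (fun s : S => (s : Ω)) h4
  · rw [hβe]
    have h1 := cp_apply ι hinj _ hUS g hc c
    have hcS : (c : Ω) ∈ S := hUS c.2
    have hιc := hCS_to ⟨c, hcS⟩ hc'
    have hw : ι ((⟨(c : Ω), hcS⟩ : S)⁻¹ *
        ⟨cp ι hinj _ hUS g hc c, cp_mem ι hinj _ hUS g hc c⟩) =
        (ι ⟨c, hcS⟩)⁻¹ * (g * ι ⟨c, hcS⟩ * g⁻¹) := by
      rw [map_mul, map_inv, h1]
    have hwC : (ι ⟨c, hcS⟩)⁻¹ * (g * ι ⟨c, hcS⟩ * g⁻¹) ∈ (FusionSystem.centralizerIn (R : Subgroup G) ((R : Subgroup G) ⊓ N)) :=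
      Subgroup.mul_mem _ (Subgroup.inv_mem _ hιc) (hgC (cj_mem hιc))
    have hwN : (ι ⟨c, hcS⟩)⁻¹ * (g * ι ⟨c, hcS⟩ * g⁻¹) ∈ N := by
      have h3 := hNn.conj_mem _ hgN (ι ⟨c, hcS⟩)⁻¹
      rw [inv_inv] at h3
      have e : (ι ⟨c, hcS⟩)⁻¹ * (g * ι ⟨c, hcS⟩ * g⁻¹) =
          (ι ⟨c, hcS⟩)⁻¹ * g * ι ⟨c, hcS⟩ * g⁻¹ := by group
      rw [e]
      exact N.mul_mem h3 (N.inv_mem hgN)
    rw [← hw] at hwC hwN
    have hwT := (hmemT _).mpr hwN
    obtain ⟨s, hs, hse⟩ := hCS_from _ hwC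
    have e := hinj hse
    rw [e] at hs
    exact ⟨hwT, hs.2⟩

end Cfsg.Agent.Lib.Helper8
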