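import Cfsg.Agent.Lib.Helper8.Pull2

set_option autoImplicit false
open Cfsg

namespace Cfsg.Agent.Lib.Helper8

variable {Ω : Type*} [Group Ω] {S : Subgroup Ω} {G : Type*} [Group G]

theorem quot_realized [Finite G] {p : ℕ} [Fact p.Prime] (F : FusionSystem S) (ι : S →* G)
    (hr : F.IsRealizedBy ι) (R : Sylow p G) (hR : (R : Subgroup G) = ι.range) (N : Subgroup G)
    [hNn : N.Normal] (hbot : ∀ s : S, ι s ∈ N → s = 1) :
    F.IsRealizedBy ((QuotientGroup.mk' N).comp ι) ∧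
      ∃ T : Sylow p (G ⧸ N), (T : Subgroup (G ⧸ N)) = ((QuotientGroup.mk' N).comp ι).range := by
  have hinj := hr.1
  have hRN : ∀ y, y ∈ (R : Subgroup G) → y ∈ N → y = 1 := by
    intro y hyR hyN
    have hyR' : y ∈ ι.range := by
      rw [← hR]
      exact hyR
    obtain ⟨s, rfl⟩ := hyR'
    rw [hbot s hyN, map_one]
  have hRmem : ∀ s : S, ι s ∈ (R : Subgroup G) := by
    intro s
    rw [hR]
    exact ⟨s, rfl⟩
  refine ⟨⟨?_, fun P hP φ hφ => ?_⟩, ?_⟩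
  · intro a b hab
    have h1 : (QuotientGroup.mk (ι a) : G ⧸ N) = QuotientGroup.mk (ι b) := hab
    rw [QuotientGroup.eq] at h1
    have h2 : ι (a⁻¹ * b) ∈ N := by
      rw [map_mul, map_inv]
      exact h1
    exact inv_mul_eq_one.mp (hbot _ h2)
  · constructor
    · intro hφF
      obtain ⟨g, hg⟩ := (hr.2 P hP φ hφ).mp hφF
      refine ⟨QuotientGroup.mk g, fun x => ?_⟩
      show (QuotientGroup.mk (ι ⟨φ x, hφ x⟩) : G ⧸ N) =
        QuotientGroup.mk g * QuotientGroup.mk (ι ⟨x, hP x.2⟩) * (QuotientGroup.mk g)⁻¹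
      rw [hg x]
      rfl
    · rintro ⟨gbar, hgbar⟩
      obtain ⟨g, rfl⟩ := QuotientGroup.mk_surjective gbar
      have hmod : ∀ x : P, (ι ⟨φ x, hφ x⟩)⁻¹ * (g * ι ⟨x, hP x.2⟩ * g⁻¹) ∈ N := by
        intro x
        have h1 : (QuotientGroup.mk (ι ⟨φ x, hφ x⟩) : G ⧸ N) =
            QuotientGroup.mk (g * ι ⟨x, hP x.2⟩ * g⁻¹) := hgbar x
        exact QuotientGroup.eq.mp h1
      have hsyl : SylIn p (R : Subgroup G) ((R : Subgroup G) ⊔ N) :=
        (sylIn_top R).mono le_sup_left le_top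
      have hRnorm : (R : Subgroup G) ≤ Subgroup.normalizer (N : Set G) := by
        rw [Subgroup.normalizer_eq_top]
        exact le_top
      have hP'R : (P.subgroupOf S).map ι ≤ (R : Subgroup G) := by
        rintro _ ⟨s, -, rfl⟩
        exact hRmem s
      have hle : Helper8.cj g ((P.subgroupOf S).map ι) ≤ (R : Subgroup G) ⊔ N := by
        rw [cj_le_iff]
        rintro _ ⟨s, hs, rfl⟩
        have h1 := hmod ⟨s, hs⟩
        have e : g * ι s * g⁻¹ = ι ⟨φ ⟨s, hs⟩, hφ _⟩ *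
            ((ι ⟨φ ⟨s, hs⟩, hφ _⟩)⁻¹ * (g * ι s * g⁻¹)) := by group
        rw [e]
        exact Subgroup.mul_mem _ (Subgroup.mem_sup_left (hRmem _)) (Subgroup.mem_sup_right h1)
      obtain ⟨n, hn, hnle⟩ := hsyl.exists_conj_le_of_sup hRnorm
        (isPGroup_cj (R.isPGroup'.to_le hP'R) g) hle
      rw [cj_cj] at hnle
      refine (hr.2 P hP φ hφ).mpr ⟨n * g, fun x => ?_⟩
      have h1 : n * g * ι ⟨x, hP x.2⟩ * (n * g)⁻¹ ∈ (R : Subgroup G) :=
        hnle (cj_mem ⟨⟨x, hP x.2⟩, x.2, rfl⟩)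
      have h2 : (ι ⟨φ x, hφ x⟩)⁻¹ * (n * g * ι ⟨x, hP x.2⟩ * (n * g)⁻¹) ∈ N := by
        have h3 := hmod x
        have h4 : (g * ι ⟨x, hP x.2⟩ * g⁻¹)⁻¹ * n * (g * ι ⟨x, hP x.2⟩ * g⁻¹) ∈ N := by
          have := hNn.conj_mem _ hn (g * ι ⟨x, hP x.2⟩ * g⁻¹)⁻¹
          rwa [inv_inv] at this
        have e : (ι ⟨φ x, hφ x⟩)⁻¹ * (n * g * ι ⟨x, hP x.2⟩ * (n * g)⁻¹) =
            ((ι ⟨φ x, hφ x⟩)⁻¹ * (g * ι ⟨x, hP x.2⟩ * g⁻¹)) *
              (((g * ι ⟨x, hP x.2⟩ * g⁻¹)⁻¹ * n * (g * ι ⟨x, hP x.2⟩ * g⁻¹)) * n⁻¹) := by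
          group
        rw [e]
        exact N.mul_mem h3 (N.mul_mem h4 (N.inv_mem hn))
      have h5 := hRN _ (Subgroup.mul_mem _ (Subgroup.inv_mem _ (hRmem _)) h1) h2
      exact inv_mul_eq_one.mp h5
  · refine ⟨R.mapSurjective (QuotientGroup.mk'_surjective N), ?_⟩
    rw [Sylow.coe_mapSurjective, MonoidHom.range_comp, hR]

theorem sub_realized [Finite G] {p : ℕ} [Fact p.Prime] (F : FusionSystem S) (ι : S →* G)
    (hr : F.IsRealizedBy ι) (R : Sylow p G) (hR : (R : Subgroup G) = ι.range) (N : Subgroup G)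
    (hN : ∀ s : S, ι s ∈ N)
    (hmaps : ∀ P : Subgroup Ω, (pullSys ι hr.1 N).Hom P = F.Hom P) :
    F.IsRealizedBy (ι.codRestrict N hN) ∧
      ∃ T : Sylow p N, (T : Subgroup N) = (ι.codRestrict N hN).range := by
  have hinj := hr.1
  refine ⟨⟨?_, fun P hP φ hφ => ?_⟩, ?_⟩
  · intro a b hab
    exact hinj (congrArg Subtype.val hab)
  · rw [← hmaps P]
    constructor
    · rintro ⟨hP', hφ', hN', g, hg, h⟩
      exact ⟨⟨g, hg⟩, fun x => Subtype.ext (h x)⟩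
    · rintro ⟨g, hg⟩
      exact ⟨hP, hφ, fun x => hN _, g, g.2, fun x => congrArg Subtype.val (hg x)⟩
  · have hRN : (R : Subgroup G) ≤ N := by
      rw [hR]
      rintro _ ⟨s, rfl⟩
      exact hN s
    refine ⟨R.subtype hRN, ?_⟩
    rw [Sylow.coe_subtype, hR]
    ext ⟨y, hy⟩
    constructor
    · rintro ⟨s, rfl⟩
      exact ⟨s, Subtype.ext rfl⟩
    · rintro ⟨s, hs⟩
      exact ⟨s, congrArg Subtype.val hs⟩

end Cfsg.Agent.Lib.Helper8
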