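import Cfsg.Agent.Lib.Helper8.Pull3

set_option autoImplicit false
open Cfsg

universe u

namespace Cfsg.Agent.Lib.Helper8

theorem exists_simple_realization {Ω : Type u} [Group Ω] {S : Subgroup Ω} [Finite S] (p : ℕ)
    [Fact p.Prime] (hS : IsPGroup p S) (F : FusionSystem S) (hsimple : F.IsSimple p) :
    ∀ n : ℕ, ∀ (G : Type u) [Group G] [Finite G] (ι : S →* G), Nat.card G = n →
      F.IsRealizedBy ι → (∃ T : Sylow p G, (T : Subgroup G) = ι.range) →
      ∃ (G' : Type u) (_ : Group G') (_ : Finite G') (_ : IsSimpleGroup G') (ι' : S →* G'),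
        F.IsRealizedBy ι' ∧ ∃ T : Sylow p G', (T : Subgroup G') = ι'.range := by
  intro n
  induction n using Nat.strong_induction_on with
  | _ n ih =>
    intro G _ _ ι hn hr hsyl
    obtain ⟨R, hR⟩ := hsyl
    by_cases hs : IsSimpleGroup G
    · exact ⟨G, inferInstance, inferInstance, hs, ι, hr, R, hR⟩
    · have hnt : Nontrivial G := by
        obtain ⟨a, ha1⟩ := (Subgroup.ne_bot_iff_exists_ne_one (H := S)).mp hsimple.2.1
        exact ⟨ι a, 1, fun h => ha1 (hr.1 (h.trans (map_one ι).symm))⟩
      have hex : ∃ N : Subgroup G, N.Normal ∧ N ≠ ⊥ ∧ N ≠ ⊤ := by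
        by_contra hcon
        push Not at hcon
        exact hs ⟨fun N hN => by
          by_cases h : N = ⊥
          · exact Or.inl h
          · exact Or.inr (hcon N hN h)⟩
      obtain ⟨N, hNn, hNbot, hNtop⟩ := hex
      haveI := hNn
      have hnorm := pull_normal p hS F ι hr R hR N
      rcases hsimple.2.2 _ _ hnorm with hbot | ⟨htop, hmaps⟩
      · have hb : ∀ s : S, ι s ∈ N → s = 1 := by
          intro s hs'
          have h1 : (s : Ω) ∈ FusionSystem.preimageAlong ι N :=
            (mem_preimageAlong ι N s).mpr hs'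
          rw [hbot] at h1
          exact Subtype.ext (Subgroup.mem_bot.mp h1)
        obtain ⟨hr', hsyl'⟩ := quot_realized F ι hr R hR N hb
        have hlt : Nat.card (G ⧸ N) < n := by
          rw [← hn, Subgroup.card_eq_card_quotient_mul_card_subgroup N]
          have h1 : 1 < Nat.card N := (Subgroup.one_lt_card_iff_ne_bot N).mpr hNbot
          have h2 : 0 < Nat.card (G ⧸ N) := Nat.card_pos
          nlinarith
        exact ih _ hlt (G ⧸ N) _ rfl hr' hsyl'
      · have hN : ∀ s : S, ι s ∈ N := by
          intro s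
          have h1 : (s : Ω) ∈ FusionSystem.preimageAlong ι N := by
            rw [htop]
            exact s.2
          exact (mem_preimageAlong ι N s).mp h1
        obtain ⟨hr', hsyl'⟩ := sub_realized F ι hr R hR N hN hmaps
        have hlt : Nat.card N < n := by
          rw [← hn]
          exact lt_of_le_of_ne (Subgroup.card_le_card_group N)
            fun h => hNtop (Subgroup.eq_top_of_card_eq N h)
        exact ih _ hlt N _ rfl hr' hsyl'

theorem simple_realizable {Ω : Type u} [Group Ω] {S : Subgroup Ω} [Finite S] (p : ℕ)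
    [Fact p.Prime] (hS : IsPGroup p S) (F : FusionSystem S) (hsimple : F.IsSimple p)
    (hreal : F.IsRealizable p) :
    ∃ (G : Type u) (_ : Group G) (_ : Finite G) (_ : IsSimpleGroup G) (ι : ↥S →* G),
      F.IsRealizedBy ι ∧ ∃ T : Sylow p G, (T : Subgroup G) = ι.range := by
  obtain ⟨G, _, _, ι, hr, hsyl⟩ := hreal
  exact exists_simple_realization p hS F hsimple _ G ι rfl hr hsyl

end Cfsg.Agent.Lib.Helper8
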