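import Mathlib
import Cfsg.Prelude
import Cfsg.Agent.Lib.Helper8.Syl

set_option autoImplicit false
open Cfsg

namespace Cfsg.Agent.Lib.Helper8

universe u v

/-- a group receiving a surjection from a subgroup-like source is involved in the target -/
theorem involves_of_hom {X : Type*} {G : Type*} {H : Type*} [Group X] [Group G] [Group H]
    (j : X →* G) (hj : Function.Injective j) (π : X →* H) (hπ : Function.Surjective π) :
    Involves H G := by
  obtain ⟨e, he⟩ : ∃ e : X ≃* j.range, ∀ x : X, ((e x : j.range) : G) = j x :=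
    ⟨MonoidHom.ofInjective hj, fun x => rfl⟩
  obtain ⟨f, hf⟩ : ∃ f : j.range →* H, ∀ y : j.range, f y = π (e.symm y) :=
    ⟨π.comp e.symm.toMonoidHom, fun y => rfl⟩
  have hfs : Function.Surjective f := by
    intro h
    obtain ⟨x, hx⟩ := hπ h
    refine ⟨e x, ?_⟩
    rw [hf, MulEquiv.symm_apply_apply, hx]
  have hker : ((π.ker).map j).subgroupOf j.range = f.ker := by
    ext y
    rw [Subgroup.mem_subgroupOf, MonoidHom.mem_ker, hf]
    constructor
    · rintro ⟨x, hx, hxy⟩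
      have h1 : e.symm y = x := by
        apply e.injective
        rw [MulEquiv.apply_symm_apply]
        exact Subtype.ext (hxy.symm.trans (he x).symm)
      rw [h1]
      exact hx
    · intro h
      refine ⟨e.symm y, h, ?_⟩
      rw [← he, MulEquiv.apply_symm_apply]
  have hN : (((π.ker).map j).subgroupOf j.range).Normal := by
    rw [hker]
    infer_instance
  refine ⟨j.range, (π.ker).map j, hN, ⟨?_⟩⟩
  exact (QuotientGroup.quotientMulEquivOfEq hker).trans
    (QuotientGroup.quotientKerEquivOfSurjective f hfs)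

/-- S5299 -/
theorem sectionFree_of_psub {Ω : Type u} [Group Ω] {S : Subgroup Ω} (p : ℕ) [Fact p.Prime]
    (F : FusionSystem S) (H : Type v) [Group H] (Q : Subgroup H)
    (hQ : IsPGroup p Q) (hfree : ¬ Involves (↥Q) (↥S)) : F.IsSectionFree p H := by
  intro Q₀ _ _ N _ L _ ι hL hinv
  obtain ⟨hLfin, ⟨hιinj, -⟩, ⟨T, hT⟩, -⟩ := hL
  haveI := hLfin
  obtain ⟨K, R, hnorm, ⟨e⟩⟩ := hinv
  haveI := hnorm
  apply hfree
  obtain ⟨π₀, hπ₀⟩ : ∃ π₀ : K →* H, Function.Surjective π₀ :=
    ⟨e.toMonoidHom.comp (QuotientGroup.mk' (R.subgroupOf K)),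
      e.surjective.comp (QuotientGroup.mk'_surjective _)⟩
  obtain ⟨P₁⟩ : Nonempty (Sylow p (Q.comap π₀)) := Sylow.nonempty
  obtain ⟨π₁, hπ₁⟩ : ∃ π₁ : (Q.comap π₀ : Subgroup K) →* Q,
      ∀ x : (Q.comap π₀ : Subgroup K), ((π₁ x : Q) : H) = π₀ x :=
    ⟨(π₀.comp (Q.comap π₀).subtype).codRestrict Q (fun x => x.2), fun x => rfl⟩
  have hπ₁s : Function.Surjective π₁ := by
    rintro ⟨q, hq⟩
    obtain ⟨k, hk⟩ := hπ₀ q
    refine ⟨⟨k, ?_⟩, Subtype.ext ?_⟩
    · show π₀ k ∈ Q
      rw [hk]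
      exact hq
    · rw [hπ₁]
      exact hk
  have hP₁top : (P₁ : Subgroup (Q.comap π₀ : Subgroup K)).map π₁ = ⊤ :=
    ((P₁.mapSurjective hπ₁s).is_maximal' (hQ.to_subgroup ⊤) le_top).symm
  have hπ₂ : Function.Surjective (π₁.comp (P₁ : Subgroup (Q.comap π₀ : Subgroup K)).subtype) := by
    intro q
    have h1 : q ∈ (P₁ : Subgroup (Q.comap π₀ : Subgroup K)).map π₁ := by
      rw [hP₁top]
      trivial
    obtain ⟨x, hx, hxq⟩ := h1
    exact ⟨⟨x, hx⟩, hxq⟩
  -- the embedding of `P₁` into `L`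
  obtain ⟨j₀, hj₀⟩ : ∃ j₀ : (P₁ : Subgroup (Q.comap π₀ : Subgroup K)) →* L,
      Function.Injective j₀ :=
    ⟨(K.subtype.comp (Q.comap π₀).subtype).comp
        (P₁ : Subgroup (Q.comap π₀ : Subgroup K)).subtype,
      (K.subtype_injective.comp (Q.comap π₀).subtype_injective).comp
        (Subgroup.subtype_injective _)⟩
  have hp₁ : IsPGroup p j₀.range := P₁.isPGroup'.of_equiv (MonoidHom.ofInjective hj₀)
  obtain ⟨g, -, hg⟩ := (sylIn_top T).exists_conj_le hp₁ le_top
  rw [cj_le_iff, hT] at hg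
  -- conjugate into `ι.range`
  obtain ⟨j₁, hj₁⟩ : ∃ j₁ : (P₁ : Subgroup (Q.comap π₀ : Subgroup K)) →* ι.range,
      ∀ x, ((j₁ x : ι.range) : L) = g * j₀ x * g⁻¹ :=
    ⟨((MulAut.conj g).toMonoidHom.comp j₀).codRestrict ι.range
        (fun x => hg (j₀ x) ⟨x, rfl⟩), fun x => rfl⟩
  have hj₁i : Function.Injective j₁ := by
    intro a b hab
    have h1 : g * j₀ a * g⁻¹ = g * j₀ b * g⁻¹ := by
      rw [← hj₁, ← hj₁, hab]
    exact hj₀ (mul_left_cancel (mul_right_cancel h1))
  have hinc : Function.Injective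
      (((Subgroup.inclusion (inf_le_left : FusionSystem.normalizerIn S Q₀ ≤ S)).comp
        (MonoidHom.ofInjective hιinj).symm.toMonoidHom).comp j₁) := by
    have h1 : Function.Injective
        (Subgroup.inclusion (inf_le_left : FusionSystem.normalizerIn S Q₀ ≤ S)) :=
      Subgroup.inclusion_injective _
    have h2 : Function.Injective (MonoidHom.ofInjective hιinj).symm :=
      (MonoidHom.ofInjective hιinj).symm.injective
    exact (h1.comp h2).comp hj₁i
  exact involves_of_hom _ hinc _ hπ₂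

end Cfsg.Agent.Lib.Helper8
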