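import Mathlib

set_option autoImplicit false

namespace Cfsg.Agent.Lib.Helper8

open scoped MatrixGroups

theorem mulAut_GL2_aux8 {H : Type*} [CommGroup H] [Finite H] (p : ℕ) [Fact p.Prime]
    [Module (ZMod p) (Additive H)] (hcard : Nat.card H = p ^ 2) :
    Nonempty (MulAut H ≃* GL (Fin 2) (ZMod p)) := by
  haveI : Finite (Additive H) := inferInstanceAs (Finite H)
  haveI : Module.Finite (ZMod p) (Additive H) := Module.Finite.of_finite
  have hfr : Module.finrank (ZMod p) (Additive H) = 2 := by
    have h1 := Module.natCard_eq_pow_finrank (K := ZMod p) (V := Additive H)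
    have h2 : Nat.card (Additive H) = p ^ 2 := hcard
    rw [h2, Nat.card_zmod] at h1
    exact (Nat.pow_right_injective (Fact.out : p.Prime).two_le h1).symm
  let b : Module.Basis (Fin 2) (ZMod p) (Additive H) :=
    Module.finBasisOfFinrankEq (ZMod p) (Additive H) hfr
  let e1 : MulAut H ≃* (Additive H ≃ₗ[ZMod p] Additive H) :=
    { toFun := fun α =>
        { MulEquiv.toAdditive α with
          map_smul' := fun c x => ZMod.map_smul (MulEquiv.toAdditive α) c x }
      invFun := fun ℓ => MulEquiv.toAdditive.symm ℓ.toAddEquiv
      left_inv := fun α => by ext x; rfl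
      right_inv := fun ℓ => by ext x; rfl
      map_mul' := fun α β => by
        apply LinearEquiv.ext
        intro x
        rw [LinearEquiv.mul_apply]
        rfl }
  exact ⟨e1.trans ((LinearMap.GeneralLinearGroup.generalLinearEquiv (ZMod p) (Additive H)).symm.trans
    (Matrix.GeneralLinearGroup.toLin' b).symm)⟩

/-- automorphism group of an elementary abelian group of order `p²` -/
theorem mulAut_GL2_8 {H : Type*} [Group H] [Finite H] (p : ℕ) [Fact p.Prime]
    (hcomm : ∀ a b : H, a * b = b * a) (hexp : ∀ x : H, x ^ p = 1)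
    (hcard : Nat.card H = p ^ 2) :
    Nonempty (MulAut H ≃* GL (Fin 2) (ZMod p)) := by
  letI inst1 : CommGroup H := { (inferInstance : Group H) with mul_comm := hcomm }
  letI inst2 : Module (ZMod p) (Additive H) := AddCommGroup.zmodModule (n := p) (fun x => by
    show Additive.ofMul (Additive.toMul x ^ p) = 0
    rw [hexp]; rfl)
  exact mulAut_GL2_aux8 p hcard

end Cfsg.Agent.Lib.Helper8
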