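import Mathlib
import Cfsg.Agent.Lib.Lead.SL2Sylow
import Cfsg.Agent.Lib.Lead.SLGen

set_option autoImplicit false

namespace Cfsg.Agent.Lib.Helper8

open Matrix
open scoped MatrixGroups
open Cfsg.Agent.Lib.Lead

/-- two different nontrivial `p`-subgroups of `GL₂(p)` generate a subgroup containing `SL₂(p)` -/
theorem sl2_le_of_two_psub8 (p : ℕ) [Fact p.Prime] (B B₁ B₂ : Subgroup (GL (Fin 2) (ZMod p)))
    (h1 : IsPGroup p B₁) (h2 : IsPGroup p B₂) (hne1 : B₁ ≠ ⊥) (hne2 : B₂ ≠ ⊥) (hne : B₁ ≠ B₂)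
    (hB1 : B₁ ≤ B) (hB2 : B₂ ≤ B) :
    (Matrix.SpecialLinearGroup.toGL :
      Matrix.SpecialLinearGroup (Fin 2) (ZMod p) →* GL (Fin 2) (ZMod p)).range ≤ B := by
  have hp := (Fact.out : p.Prime)
  have hsyl : ∀ B' : Subgroup (GL (Fin 2) (ZMod p)), IsPGroup p B' → B' ≠ ⊥ →
      Nat.card B' = p ∧ B' ≤ (Matrix.SpecialLinearGroup.toGL :
        Matrix.SpecialLinearGroup (Fin 2) (ZMod p) →* GL (Fin 2) (ZMod p)).range := by
    intro B' hB' hne'
    obtain ⟨Q, hQ⟩ := hB'.exists_le_sylow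
    have hQc : Nat.card Q = p := by
      rw [card_sylow_eq_card p Q, ZMod.card]
    have hd : Nat.card B' ∣ p := by
      have h0 := Subgroup.card_dvd_of_le hQ
      rw [hQc] at h0
      exact h0
    have hc : Nat.card B' = p := by
      rcases (Nat.dvd_prime hp).mp hd with h | h
      · exact absurd (Subgroup.eq_bot_of_card_eq B' h) hne'
      · exact h
    refine ⟨hc, ?_⟩
    intro x hx
    rw [← ker_det_eq_range_toGL, MonoidHom.mem_ker]
    have hxp : x ^ p = 1 := by
      have h0 : (⟨x, hx⟩ : B') ^ Nat.card B' = 1 := pow_card_eq_one'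
      rw [hc] at h0
      exact congrArg (fun z : B' => (z : GL (Fin 2) (ZMod p))) h0
    have hd1 : (Matrix.GeneralLinearGroup.det x) ^ p = 1 := by rw [← map_pow, hxp, map_one]
    have hd2 : (Matrix.GeneralLinearGroup.det x) ^ (p - 1) = 1 :=
      ZMod.units_pow_card_sub_one_eq_one p _
    have hpp : p - 1 + 1 = p := by have := hp.pos; omega
    calc Matrix.GeneralLinearGroup.det x
        = (Matrix.GeneralLinearGroup.det x) ^ (p - 1) * Matrix.GeneralLinearGroup.det x := by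
          rw [hd2, one_mul]
      _ = (Matrix.GeneralLinearGroup.det x) ^ p := by rw [← pow_succ, hpp]
      _ = 1 := hd1
  obtain ⟨hc1, hr1⟩ := hsyl B₁ h1 hne1
  obtain ⟨hc2, hr2⟩ := hsyl B₂ h2 hne2
  have hinj : Function.Injective (Matrix.SpecialLinearGroup.toGL :
      Matrix.SpecialLinearGroup (Fin 2) (ZMod p) →* GL (Fin 2) (ZMod p)) :=
    Matrix.SpecialLinearGroup.toGL_injective
  have hsylcard : p = p ^ (Nat.card (Matrix.SpecialLinearGroup (Fin 2) (ZMod p))).factorization p := by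
    have e1 := card_USL_eq (F := ZMod p) p
    rw [card_USL, ZMod.card] at e1
    exact e1
  have hmk : ∀ B' : Subgroup (GL (Fin 2) (ZMod p)), Nat.card B' = p →
      B' ≤ (Matrix.SpecialLinearGroup.toGL :
        Matrix.SpecialLinearGroup (Fin 2) (ZMod p) →* GL (Fin 2) (ZMod p)).range →
      Nat.card (B'.comap (Matrix.SpecialLinearGroup.toGL :
        Matrix.SpecialLinearGroup (Fin 2) (ZMod p) →* GL (Fin 2) (ZMod p)))
        = p ^ (Nat.card (Matrix.SpecialLinearGroup (Fin 2) (ZMod p))).factorization p ∧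
      (B'.comap (Matrix.SpecialLinearGroup.toGL :
        Matrix.SpecialLinearGroup (Fin 2) (ZMod p) →* GL (Fin 2) (ZMod p))).map
        Matrix.SpecialLinearGroup.toGL = B' := by
    intro B' hc hr
    have hm := Subgroup.map_comap_eq_self hr
    refine ⟨?_, hm⟩
    have e2 := Subgroup.card_map_of_injective (K := B'.comap (Matrix.SpecialLinearGroup.toGL :
        Matrix.SpecialLinearGroup (Fin 2) (ZMod p) →* GL (Fin 2) (ZMod p))) hinj
    rw [hm, hc] at e2
    rw [← e2]
    exact hsylcard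
  obtain ⟨hk1, hm1⟩ := hmk B₁ hc1 hr1
  obtain ⟨hk2, hm2⟩ := hmk B₂ hc2 hr2
  have hPQ : Sylow.ofCard _ hk1 ≠ Sylow.ofCard _ hk2 := by
    intro h
    apply hne
    have h' := congrArg (fun P : Sylow p (Matrix.SpecialLinearGroup (Fin 2) (ZMod p)) =>
      (P : Subgroup (Matrix.SpecialLinearGroup (Fin 2) (ZMod p)))) h
    simp only [Sylow.coe_ofCard] at h'
    rw [← hm1, ← hm2, h']
  have hsup := sylow_SL2_sup p _ _ hPQ
  rw [Sylow.coe_ofCard, Sylow.coe_ofCard] at hsup
  rw [MonoidHom.range_eq_map, ← hsup, Subgroup.map_sup, hm1, hm2]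
  exact sup_le hB1 hB2

end Cfsg.Agent.Lib.Helper8
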