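import Mathlib
import Cfsg.Agent.Lib.Helper8.Sl1
import Cfsg.Agent.Lib.Helper8.Sl2
import Cfsg.Agent.Lib.Helper8.PCore
import Cfsg.Agent.Lib.Helper8.Sat

set_option autoImplicit false
open Cfsg

namespace Cfsg.Agent.Lib.Helper8

open scoped MatrixGroups

/-- a group of automorphisms of a group of order `p²` with trivial `p`-core and order divisible
by `p` forces the group to be elementary abelian and contains a copy of `SL₂(p)` -/
theorem sl2_in_aut8 {H : Type*} [Group H] [Finite H] (p : ℕ) [Fact p.Prime]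
    (hcard : Nat.card H = p ^ 2) (A : Subgroup (MulAut H)) (hpA : p ∣ Nat.card A)
    (hcore : pCore p A = ⊥) :
    (∀ x : H, x ^ p = 1) ∧
      ∃ K : Subgroup A, Nonempty (K ≃* Matrix.SpecialLinearGroup (Fin 2) (ZMod p)) := by
  have hp := (Fact.out : p.Prime)
  have hcomm := IsPGroup.commutative_of_card_eq_prime_sq hcard
  haveI : Finite (MulAut H) := finite_mulAut H
  obtain ⟨P₀⟩ := (inferInstance : Nonempty (Sylow p A))
  have hP0 : (P₀ : Subgroup A) ≠ ⊥ := P₀.ne_bot_of_dvd_card hpA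
  have hnn : ¬ (P₀ : Subgroup A).Normal := by
    intro hn
    apply hP0
    have h0 := le_pCore hn P₀.isPGroup'
    rw [hcore] at h0
    exact le_bot_iff.mp h0
  have hexp : ∀ x : H, x ^ p = 1 := by
    by_contra hcon
    push Not at hcon
    obtain ⟨x, hx⟩ := hcon
    have hord : orderOf x = p ^ 2 := by
      have hd : orderOf x ∣ p ^ 2 := by rw [← hcard]; exact orderOf_dvd_natCard x
      obtain ⟨k, hk, hke⟩ := (Nat.dvd_prime_pow hp).mp hd
      interval_cases k
      · exfalso; apply hx; rw [pow_zero] at hke; rw [orderOf_eq_one_iff.mp hke, one_pow]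
      · exfalso; apply hx; rw [pow_one] at hke; rw [← hke]; exact pow_orderOf_eq_one x
      · exact hke
    haveI : IsCyclic H := isCyclic_of_orderOf_eq_card x (by rw [hord, hcard])
    apply hnn
    have hAc : ∀ a b : MulAut H, a * b = b * a := by
      intro a b
      apply (IsCyclic.mulAutMulEquiv H).injective
      rw [map_mul, map_mul, mul_comm]
    constructor
    intro n hn g
    have h2 : g * n * g⁻¹ = n := by
      have h1 : g * n = n * g := Subtype.ext (hAc g n)
      rw [h1]; group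
    rw [h2]; exact hn
  refine ⟨hexp, ?_⟩
  obtain ⟨Φ⟩ := mulAut_GL2_8 p hcomm hexp hcard
  have hex : ∃ g : A, g • P₀ ≠ P₀ := by
    by_contra hcon
    push Not at hcon
    apply hnn
    apply Subgroup.normalizer_eq_top_iff.mp
    rw [eq_top_iff]
    intro g _
    exact Sylow.smul_eq_iff_mem_normalizer.mp (hcon g)
  obtain ⟨g, hg⟩ := hex
  obtain ⟨P₁, hP₁⟩ : ∃ P₁ : Sylow p A, P₁ = g • P₀ := ⟨_, rfl⟩
  have hP1 : (P₁ : Subgroup A) ≠ ⊥ := P₁.ne_bot_of_dvd_card hpA
  have hne01 : (P₀ : Subgroup A) ≠ (P₁ : Subgroup A) := by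
    intro h; apply hg; rw [← hP₁]; exact (Sylow.ext h).symm
  obtain ⟨f, hf⟩ : ∃ f : A →* GL (Fin 2) (ZMod p), f = Φ.toMonoidHom.comp A.subtype :=
    ⟨_, rfl⟩
  have hfinj : Function.Injective f := by
    rw [hf]; exact Φ.injective.comp A.subtype_injective
  have key := sl2_le_of_two_psub8 p (A.map Φ.toMonoidHom) ((P₀ : Subgroup A).map f)
    ((P₁ : Subgroup A).map f) (P₀.isPGroup'.map f) (P₁.isPGroup'.map f)
    (by rw [Ne, Subgroup.map_eq_bot_iff_of_injective _ hfinj]; exact hP0)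
    (by rw [Ne, Subgroup.map_eq_bot_iff_of_injective _ hfinj]; exact hP1)
    (fun h => hne01 (Subgroup.map_injective hfinj h))
    (by rintro _ ⟨a, -, rfl⟩; rw [hf]; exact ⟨a.1, a.2, rfl⟩)
    (by rintro _ ⟨a, -, rfl⟩; rw [hf]; exact ⟨a.1, a.2, rfl⟩)
  obtain ⟨ψ, hψ⟩ : ∃ ψ : Matrix.SpecialLinearGroup (Fin 2) (ZMod p) →* MulAut H,
      ψ = Φ.symm.toMonoidHom.comp Matrix.SpecialLinearGroup.toGL := ⟨_, rfl⟩
  have hψinj : Function.Injective ψ := by
    rw [hψ]; exact Φ.symm.injective.comp Matrix.SpecialLinearGroup.toGL_injective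
  have hψA : ψ.range ≤ A := by
    rintro _ ⟨x, rfl⟩
    obtain ⟨a, ha, hax⟩ := key ⟨x, rfl⟩
    have h3 : ψ x = a := by
      rw [hψ]
      show Φ.symm (Matrix.SpecialLinearGroup.toGL x) = a
      rw [← hax]
      exact Φ.symm_apply_apply a
    rw [h3]; exact ha
  exact ⟨ψ.range.subgroupOf A,
    ⟨(Subgroup.subgroupOfEquivOfLe hψA).trans (MonoidHom.ofInjective hψinj).symm⟩⟩

end Cfsg.Agent.Lib.Helper8
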