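import Mathlib
import Cfsg.Prelude.Def_FusionSystem
import Cfsg.Agent.Lib.Helper8.Sl3
import Cfsg.Agent.Lib.Helper8.EssRad

set_option autoImplicit false
open Cfsg

namespace Cfsg.Agent.Lib.Helper8

open scoped MatrixGroups

variable {Ω : Type*} [Group Ω] {S : Subgroup Ω}

/-- S5185 -/
theorem essential_p2_8 [Finite S] (p : ℕ) [Fact p.Prime] (hS : IsPGroup p S)
    (F : FusionSystem S) (H : Subgroup Ω) (hH : F.IsEssential p H)
    (hcard : Nat.card H = p ^ 2) :
    IsElementaryAbelian p H ∧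
      ∃ K : Subgroup ↥(F.autGroup H),
        Nonempty (↥K ≃* Matrix.SpecialLinearGroup (Fin 2) (ZMod p)) := by
  have hrad := radical_of_essential hS F hH
  obtain ⟨hcen, -, hN, E, hE⟩ := hH
  have hHS := hcen.1
  haveI : Finite H := finite_of_le hHS
  haveI : Finite (MulAut H) := finite_mulAut H
  have hcomm := IsPGroup.commutative_of_card_eq_prime_sq hcard
  have hInn : Inn H = ⊥ := by
    rw [eq_bot_iff]
    rintro _ ⟨x, rfl⟩
    rw [Subgroup.mem_bot]
    ext y
    show ((x * y * x⁻¹ : H) : Ω) = y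
    rw [hcomm x y, mul_inv_cancel_right]
  have hcore : pCore p (F.autGroup H) = ⊥ := by
    have h1 := hrad.2
    rw [hInn] at h1
    exact (Subgroup.map_eq_bot_iff_of_injective _ (Subgroup.subtype_injective _)).mp h1
  have hpA : p ∣ Nat.card (F.autGroup H) :=
    hE.1.trans (Subgroup.card_quotient_dvd_card _)
  obtain ⟨hexp, K, hK⟩ := sl2_in_aut8 p hcard (F.autGroup H) hpA hcore
  refine ⟨⟨⟨⟨hcomm⟩⟩, ?_⟩, K, hK⟩
  intro a ha
  exact congrArg (fun z : H => (z : Ω)) (hexp ⟨a, ha⟩)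

end Cfsg.Agent.Lib.Helper8
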