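import Cfsg.Agent.Lib.Helper8.Solv3
import Cfsg.Agent.Lib.Helper8.HypGen
import Cfsg.Agent.S5106

set_option autoImplicit false
open Cfsg
open scoped commutatorElement

namespace Cfsg.Agent.Lib.Helper8

variable {Ω : Type*} [Group Ω] {S : Subgroup Ω} {T : Subgroup Ω}

/-- The image under an element of `Aut_F(T)` of a subgroup normal in an invariant saturated
subsystem over `T` is normal in the subsystem. -/
theorem normal_autImg [Finite S] {p : ℕ} [Fact p.Prime] (hS : IsPGroup p S)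
    (E : FusionSystem T) (F : FusionSystem S) (hinv : E.IsInvariantIn F) (hEsat : E.IsSaturated p)
    {N : Subgroup Ω} (hN : E.IsNormal N) (α : MulAut T) (hα : α ∈ F.autGroup T) :
    E.IsNormal ((N.subgroupOf T).map (T.subtype.comp α.toMonoidHom)) := by
  have hTS := hinv.2.1.1
  haveI : Finite T := finite_of_le hTS
  have hT' : IsPGroup p T := hS.to_le hTS
  have hle : (N.subgroupOf T).map (T.subtype.comp α.toMonoidHom) ≤ T := by
    rintro _ ⟨x, -, rfl⟩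
    exact Subtype.property _
  have hNT := hN.1
  rw [Cfsg.Agent.S5106.result p hT' E hEsat _ hle]
  intro P hP φ hφ
  have hPT : P ≤ T := hP.trans hle
  obtain ⟨χ, hχ, hχe⟩ := hinv.2.2.1 P hPT φ hφ α⁻¹ (Subgroup.inv_mem _ hα)
  have hP₁ : (P.subgroupOf T).map (T.subtype.comp (α⁻¹ : MulAut T).toMonoidHom) ≤ N := by
    rintro _ ⟨y, hy, rfl⟩
    obtain ⟨u, hu, huy⟩ := (mem_autImg α N _).mp (hP hy)
    have e : y = α u := Subtype.ext huy.symm
    show ((α⁻¹ y : T) : Ω) ∈ N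
    rw [e, MulAut.inv_apply_self]
    exact hu
  obtain ⟨γ, hγ, hγe⟩ := (Cfsg.Agent.S5106.result p hT' E hEsat N hNT).mp hN _ hP₁ χ hχ
  have hγ' := (mem_autGroup_iff E hNT γ).mp hγ
  obtain ⟨χ', hχ', hχ'e⟩ := hinv.2.2.1 N hNT _ hγ' α hα
  have hαN : ∀ y : N, ((α ⟨y, hNT y.2⟩ : T) : Ω) ∈
      (N.subgroupOf T).map (T.subtype.comp α.toMonoidHom) := fun y => ⟨⟨y, hNT y.2⟩, y.2, rfl⟩
  have hχ'v : ∀ y : N, χ' ⟨(α ⟨y, hNT y.2⟩ : T), hαN y⟩ = ((α ⟨γ y, hNT (γ y).2⟩ : T) : Ω) :=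
    fun y => hχ'e y (hNT (γ y).2) (hαN y)
  have hK : ∀ z : ↥((N.subgroupOf T).map (T.subtype.comp α.toMonoidHom)),
      χ' z ∈ (N.subgroupOf T).map (T.subtype.comp α.toMonoidHom) := by
    rintro ⟨_, y, hy, rfl⟩
    have h1 := hχ'v ⟨y, hy⟩
    have e : (⟨(T.subtype.comp α.toMonoidHom) y, ⟨y, hy, rfl⟩⟩ :
        ↥((N.subgroupOf T).map (T.subtype.comp α.toMonoidHom))) =
        ⟨(α ⟨((⟨y, hy⟩ : N) : Ω), hNT hy⟩ : T), hαN ⟨y, hy⟩⟩ := rfl
    rw [e, h1]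
    exact hαN _
  obtain ⟨δ, hδ, hδe⟩ := exists_aut_of_hom E hχ' hK
  refine ⟨δ, hδ, fun x => ?_⟩
  rw [hδe]
  have hφx : φ x ∈ T := (E.le_of_mem hφ).2 x
  have hαx : ((α⁻¹ ⟨x, hPT x.2⟩ : T) : Ω) ∈
      (P.subgroupOf T).map (T.subtype.comp (α⁻¹ : MulAut T).toMonoidHom) :=
    ⟨⟨x, hPT x.2⟩, x.2, rfl⟩
  have h1 := hχe x hφx hαx
  have h2 := hγe ⟨_, hαx⟩
  have h3 := hχ'v ⟨((α⁻¹ ⟨x, hPT x.2⟩ : T) : Ω), hP₁ hαx⟩
  have e1 : (Subgroup.inclusion hP x : ↥((N.subgroupOf T).map (T.subtype.comp α.toMonoidHom))) =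
      ⟨(α ⟨((⟨((α⁻¹ ⟨x, hPT x.2⟩ : T) : Ω), hP₁ hαx⟩ : N) : Ω), hNT (hP₁ hαx)⟩ : T),
        hαN ⟨_, hP₁ hαx⟩⟩ := by
    apply Subtype.ext
    show (x : Ω) = ((α (α⁻¹ ⟨x, hPT x.2⟩) : T) : Ω)
    rw [MulAut.apply_inv_self]
  rw [e1, h3]
  have e2 : (⟨((γ ⟨((α⁻¹ ⟨x, hPT x.2⟩ : T) : Ω), hP₁ hαx⟩ : N) : Ω), hNT (Subtype.property _)⟩ : T) =
      α⁻¹ ⟨φ x, hφx⟩ := by
    apply Subtype.ext
    rw [← h1]
    exact h2
  rw [e2, MulAut.apply_inv_self]

/-- The subgroup generated by the `F`-conjugates of a subgroup normal in a weakly normal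
subsystem is normal in `F`. -/
theorem conj_closure_normal [Finite S] (p : ℕ) [Fact p.Prime] (hS : IsPGroup p S)
    (F : FusionSystem S) (hF : F.IsSaturated p) (E : FusionSystem T)
    (hE : E.IsWeaklyNormalIn F p) (R : Subgroup Ω) (hR : E.IsNormal R) :
    F.IsNormal (Subgroup.closure {x : Ω | ∃ φ ∈ F.Hom R, ∃ r : R, x = φ r}) := by
  obtain ⟨hEsat, -, hinv⟩ := hE
  have hT := hinv.2.1
  have hTS := hT.1
  haveI : Finite T := finite_of_le hTS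
  have hT' : IsPGroup p T := hS.to_le hTS
  have hRT := hR.1
  have hRsc := sc_of_normal E hR
  have hgenT : ∀ (φ : R →* Ω), φ ∈ F.Hom R → ∀ r : R, φ r ∈ T :=
    fun φ hφ r => hT.2 R hRT φ hφ r
  obtain ⟨Rs, hRs⟩ : ∃ Rs, Rs = Subgroup.closure {x : Ω | ∃ φ ∈ F.Hom R, ∃ r : R, x = φ r} :=
    ⟨_, rfl⟩
  rw [← hRs]
  have hRsT : Rs ≤ T := by
    rw [hRs, Subgroup.closure_le]
    rintro _ ⟨φ, hφ, r, rfl⟩
    exact hgenT φ hφ r
  have hgen : ∀ (φ : R →* Ω), φ ∈ F.Hom R → ∀ r : R, φ r ∈ Rs := by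
    intro φ hφ r
    rw [hRs]
    exact Subgroup.subset_closure ⟨φ, hφ, r, rfl⟩
  -- Rs is normal in E
  have hmax := fs_exists_max (S := T) (fun U => E.IsNormal U ∧ U ≤ Rs) (fun U h => h.1.1)
    ⟨fs_normal_bot E, bot_le⟩ (fun U₁ U₂ h1 h2 => ⟨fs_normal_sup E h1.1 h2.1, sup_le h1.2 h2.2⟩)
  obtain ⟨M, hM⟩ : ∃ M, M = sSup {U | E.IsNormal U ∧ U ≤ Rs} := ⟨_, rfl⟩
  have hleM : ∀ U, E.IsNormal U → U ≤ Rs → U ≤ M := by
    intro U h1 h2
    rw [hM]
    exact le_sSup ⟨h1, h2⟩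
  have hmax' : E.IsNormal M ∧ M ≤ Rs := by
    rw [hM]
    exact hmax
  have hle : Rs ≤ M := by
    rw [hRs, Subgroup.closure_le]
    rintro _ ⟨φ, hφ, r, rfl⟩
    obtain ⟨α, hα, φ₀, hφ₀, he⟩ := hinv.2.2.2 R hRT φ hφ
    have h1 : φ₀ r ∈ R := hRsc.2 R le_rfl φ₀ hφ₀ r
    have hα' := (mem_autGroup_iff F hTS α).mp hα
    have hαR : (R.subgroupOf T).map (T.subtype.comp α.toMonoidHom) ≤ Rs := by
      rintro _ ⟨y, hy, rfl⟩
      exact hgen _ (fs_restrict F hRT hα') ⟨y, hy⟩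
    have h2 : (R.subgroupOf T).map (T.subtype.comp α.toMonoidHom) ≤ M :=
      hleM _ (normal_autImg hS E F hinv hEsat hR α hα) hαR
    apply h2
    rw [he r (hRT h1)]
    exact ⟨⟨φ₀ r, hRT h1⟩, h1, rfl⟩
  have hRsN : E.IsNormal Rs := by
    have e : M = Rs := le_antisymm hmax'.2 hle
    rw [← e]
    exact hmax'.1
  -- Rs is invariant under Aut_F(T)
  have hRsinv : ∀ β ∈ F.autGroup T, ∀ x : T, (x : Ω) ∈ Rs → ((β x : T) : Ω) ∈ Rs := by
    intro β hβ x hx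
    have hβ' := (mem_autGroup_iff F hTS β).mp hβ
    have hK : Rs ≤ ((Rs.subgroupOf T).comap β.toMonoidHom).map T.subtype := by
      rw [hRs, Subgroup.closure_le]
      rintro _ ⟨φ, hφ, r, rfl⟩
      refine ⟨⟨φ r, hgenT φ hφ r⟩, ?_, rfl⟩
      show ((β ⟨φ r, hgenT φ hφ r⟩ : T) : Ω) ∈ Subgroup.closure _
      exact Subgroup.subset_closure ⟨_, F.comp_mem hφ hβ' (hgenT φ hφ), r, rfl⟩
    obtain ⟨t, ht, htx⟩ := hK hx
    have e : t = x := Subtype.ext htx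
    rw [← e]
    exact ht
  have hRssc : F.StronglyClosed Rs := sc_of_inv E F hinv (sc_of_normal E hRsN) hRsinv
  haveI : Finite Rs := finite_of_le hRssc.1
  haveI : Group.IsNilpotent Rs := (hS.to_le hRssc.1).isNilpotent
  obtain ⟨n, hn⟩ := Group.IsNilpotent.nilpotent (G := Rs)
  refine normal_of_series hS F hF hRssc n
    (fun i => (Subgroup.upperCentralSeries Rs i).map Rs.subtype) ?_ ?_ ?_ ?_ ?_
  · show (Subgroup.upperCentralSeries Rs 0).map Rs.subtype = ⊥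
    rw [Subgroup.upperCentralSeries_zero, Subgroup.map_bot]
  · show (Subgroup.upperCentralSeries Rs n).map Rs.subtype = Rs
    rw [hn, ← MonoidHom.range_eq_map, Subgroup.range_subtype]
  · intro i _
    exact Subgroup.map_mono (Subgroup.upperCentralSeries_mono Rs (Nat.le_succ i))
  · intro i _
    rw [Subgroup.commutator_le]
    rintro _ ⟨z, hz, rfl⟩ b hb
    have hz' : z ∈ Subgroup.upperCentralSeries Rs (i + 1) := hz
    have h1 := Subgroup.mem_upperCentralSeries_succ_iff.mp hz' ⟨b, hb⟩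
    exact ⟨_, h1, rfl⟩
  · intro i _
    apply wc_of_sc F
    have hchar : (((Subgroup.upperCentralSeries Rs i).map Rs.subtype).subgroupOf Rs).Characteristic := by
      have e : ((Subgroup.upperCentralSeries Rs i).map Rs.subtype).subgroupOf Rs =
          Subgroup.upperCentralSeries Rs i :=
        Subgroup.comap_map_eq_self_of_injective Rs.subtype_injective _
      rw [e]
      infer_instance
    have hDN : E.IsNormal ((Subgroup.upperCentralSeries Rs i).map Rs.subtype) :=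
      Cfsg.Agent.S5085.result E Rs _ hRsN (Subgroup.map_subtype_le _) hchar
    apply sc_of_inv E F hinv (sc_of_normal E hDN)
    intro β hβ x hx
    obtain ⟨q, hq, hqx⟩ := hx
    have hfix := (inferInstance : (Subgroup.upperCentralSeries Rs i).Characteristic).fixed
      (autRestrict F hRsT hRsinv ⟨β, hβ⟩)
    rw [← hfix] at hq
    have e : x = ⟨q, hRsT q.2⟩ := Subtype.ext hqx.symm
    rw [e]
    exact ⟨_, hq, rfl⟩

end Cfsg.Agent.Lib.Helper8
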